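import Cfsg.Agent.Lib.Char.GLCusp.Deriv
import Cfsg.Agent.Lib.Char.Ortho
import Cfsg.Agent.Lib.Char.Induction

/-!
# Adjunction of parabolic induction and restriction
-/

set_option autoImplicit false
set_option linter.unusedSectionVars false
set_option maxHeartbeats 800000

namespace Cfsg.Agent.GLCusp

open Module Cfsg Cfsg.Agent.Char
open scoped ComplexConjugate Classical

universe u

variable {F : Type u} [Field F] [Fintype F]

attribute [local instance] Fintype.ofFinite

/-- The restriction of a family to `GL_n`. -/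
noncomputable def res (n : ℕ) (Φ : Fam F) (g : GL (Fin n) F) : ℂ :=
  Φ (Fin n → F) (Matrix.toLin' (g : Matrix (Fin n) (Fin n) F))

/-- The inner product of two families on `GL_n`. -/
noncomputable def inner (n : ℕ) (Φ Ψ : Fam F) : ℂ := classInner (res n Φ) (res n Ψ)

theorem res_ev {n : ℕ} {χ : GL (Fin n) F → ℂ} (h : IsClassFunction (GL (Fin n) F) χ) :
    res n (ev χ) = χ := funext fun g => ev_toLin' h g

theorem res_classFun (n : ℕ) {Φ : Fam F} (hΦ : Inv Φ) :
    IsClassFunction (GL (Fin n) F) (res n Φ) := by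
  intro g h
  let e : (Fin n → F) ≃ₗ[F] (Fin n → F) := Matrix.toLin'OfInv h.inv_mul h.mul_inv
  rw [res, res, ← hΦ _ _ e (Matrix.toLin' (g : Matrix (Fin n) (Fin n) F))]
  congr 1
  refine LinearMap.ext fun v => ?_
  simp [e, Matrix.toLin'OfInv, LinearEquiv.conj_apply, Matrix.mulVec_mulVec, mul_assoc]

section Stab

variable (F) (a c : ℕ)

/-- The model space `A × Q`. -/
abbrev Mod2 : Type u := (Fin a → F) × (Fin c → F)

variable {F a c}

theorem finrank_mod2 : finrank F (Mod2 F a c) = a + c := by
  rw [Module.finrank_prod, finrank_fin_fun, finrank_fin_fun]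

theorem sum_gl_mod2 (Φ : Fam F) (hΦ : Inv Φ) (Ψ : Fam F) (hΨ : Inv Ψ) :
    ∑ g : GL (Fin (a + c)) F, res (a + c) Φ g * conj (res (a + c) Ψ g) =
      ∑ x : (Module.End F (Mod2 F a c))ˣ,
        Φ (Mod2 F a c) x * conj (Ψ (Mod2 F a c) x) := by
  let e : Mod2 F a c ≃ₗ[F] (Fin (a + c) → F) := LinearEquiv.ofFinrankEq _ _
    (by rw [finrank_mod2, finrank_fin_fun])
  let E : (Module.End F (Mod2 F a c))ˣ ≃* GL (Fin (a + c)) F :=
    (Units.mapEquiv (LinearEquiv.conjRingEquiv e).toMulEquiv).trans
      (Units.mapEquiv Matrix.toLinAlgEquiv'.toMulEquiv).symm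
  refine (Fintype.sum_equiv E.toEquiv _ _ fun x => ?_).symm
  have h1 : Matrix.toLin' ((E x : GL (Fin (a + c)) F) : Matrix (Fin (a + c)) (Fin (a + c)) F) =
      e.conj (x : Module.End F (Mod2 F a c)) :=
    Matrix.toLinAlgEquiv'.apply_symm_apply _
  rw [res, res, MulEquiv.toEquiv_eq_coe, EquivLike.coe_coe, h1, hΦ, hΨ]

/-- The first block. -/
abbrev A0 : Submodule F (Mod2 F a c) := first a (Fin c → F)

theorem exists_move (W : Submodule F (Mod2 F a c)) (hW : finrank F W = a) :
    ∃ θ : Mod2 F a c ≃ₗ[F] Mod2 F a c, (A0 (F := F) (a := a) (c := c)).map (θ : _ →ₗ[F] _) = W := by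
  have hA : finrank F (A0 (F := F) (a := a) (c := c)) = a := by
    have h1 := LinearMap.finrank_range_add_finrank_ker (LinearMap.snd F (Fin a → F) (Fin c → F))
    rw [LinearMap.range_eq_top.mpr Prod.snd_surjective, finrank_top, finrank_fin_fun,
      finrank_mod2] at h1
    change finrank F (LinearMap.ker (LinearMap.snd F (Fin a → F) (Fin c → F))) = a
    omega
  obtain ⟨e1, he1⟩ := exists_adapted (A0 (F := F) (a := a) (c := c)) finrank_mod2
  obtain ⟨e2, he2⟩ := exists_adapted W (finrank_mod2 (F := F) (a := a) (c := c))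
  refine ⟨e1.trans e2.symm, ?_⟩
  ext v
  simp only [Submodule.mem_map, LinearEquiv.coe_coe, LinearEquiv.trans_apply]
  constructor
  · rintro ⟨p, hp, rfl⟩
    rw [he2]
    intro i hi
    simpa using (he1 p).mp hp i (by omega)
  · intro hv
    refine ⟨e1.symm (e2 v), ?_, by simp⟩
    rw [he1]
    intro i hi
    simpa using (he2 v).mp hv i (by omega)

variable (F a c) in
/-- The stabiliser of the first block. -/
def stab : Subgroup (Module.End F (Mod2 F a c))ˣ where
  carrier := {x | (A0 (F := F) (a := a) (c := c)).map (x : Module.End F (Mod2 F a c)) = A0}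
  one_mem' := Submodule.map_id _
  mul_mem' := fun {x y} hx hy => by
    change (A0 (F := F) (a := a) (c := c)).map
      ((x : Module.End F (Mod2 F a c)) ∘ₗ (y : Module.End F (Mod2 F a c))) = A0
    rw [Submodule.map_comp, hy, hx]
  inv_mem' := fun {x} hx => by
    change (A0 (F := F) (a := a) (c := c)).map ((x⁻¹ : _ˣ) : Module.End F (Mod2 F a c)) = A0
    conv_lhs => rw [← hx, ← Submodule.map_comp]
    rw [show ((x⁻¹ : _ˣ) : Module.End F (Mod2 F a c)) ∘ₗ (x : Module.End F (Mod2 F a c)) =
      LinearMap.id from x.inv_mul, Submodule.map_id]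

theorem mem_stab {x : (Module.End F (Mod2 F a c))ˣ} :
    x ∈ stab F a c ↔ A0 ≤ (A0 (F := F) (a := a) (c := c)).comap (x : Module.End F (Mod2 F a c)) := by
  change Submodule.map _ A0 = A0 ↔ _
  rw [← Submodule.map_le_iff_le_comap]
  refine ⟨fun h => h.le, fun h => Submodule.eq_of_le_of_finrank_eq h ?_⟩
  exact (Submodule.equivMapOfInjective _ ((isUnit_iff_injective _).mp x.isUnit) _).finrank_eq.symm

theorem stab_snd_inl {x : Module.End F (Mod2 F a c)}
    (hx : A0 ≤ (A0 (F := F) (a := a) (c := c)).comap x) (v : Fin a → F) :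
    (x (v, 0)).2 = 0 := hx (show ((v, 0) : Mod2 F a c) ∈ A0 from rfl)

theorem stab_eq_mk {x : Module.End F (Mod2 F a c)}
    (hx : A0 ≤ (A0 (F := F) (a := a) (c := c)).comap x) :
    mk (LinearMap.fst F _ _ ∘ₗ x ∘ₗ LinearMap.inl F _ _)
      (LinearMap.fst F _ _ ∘ₗ x ∘ₗ LinearMap.inr F _ _)
      (LinearMap.snd F _ _ ∘ₗ x ∘ₗ LinearMap.inr F _ _) = x := by
  refine LinearMap.ext fun p => ?_
  obtain ⟨v, w⟩ := p
  have : x (v, w) = x (v, 0) + x (0, w) := by rw [← map_add]; simp
  rw [this, mk_apply]
  exact Prod.ext (by simp) (by simp [stab_snd_inl hx])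

theorem isUnit_blocks {x : Module.End F (Mod2 F a c)} (hu : IsUnit x)
    (hx : A0 ≤ (A0 (F := F) (a := a) (c := c)).comap x) :
    IsUnit (LinearMap.fst F _ _ ∘ₗ x ∘ₗ LinearMap.inl F _ _) ∧
      IsUnit (LinearMap.snd F _ _ ∘ₗ x ∘ₗ LinearMap.inr F _ _) := by
  rw [isUnit_iff_injective] at hu
  have h1 : Function.Injective (LinearMap.fst F _ _ ∘ₗ x ∘ₗ LinearMap.inl F (Fin a → F) (Fin c → F)) := by
    intro v v' e
    have : x (v, 0) = x (v', 0) := Prod.ext e (by simp [stab_snd_inl hx])
    exact congrArg Prod.fst (hu this)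
  refine ⟨(isUnit_iff_injective _).mpr h1, (isUnit_iff_injective _).mpr ?_⟩
  rw [← LinearMap.ker_eq_bot, Submodule.eq_bot_iff]
  intro w hw
  obtain ⟨v, hv⟩ := LinearMap.surjective_of_injective h1 (x (0, w)).1
  have : x (v, 0) = x (0, w) :=
    Prod.ext hv (by rw [stab_snd_inl hx]; exact (LinearMap.mem_ker.mp hw).symm)
  exact (congrArg Prod.snd (hu this)).symm

/-- The two diagonal blocks of an element of the stabiliser. -/
noncomputable def blockA : stab F a c →* GL (Fin a) F where
  toFun x := toGL (Pi.basisFun F (Fin a)) (isUnit_blocks x.1.isUnit (mem_stab.mp x.2)).1.unit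
  map_one' := by
    rw [← map_one (toGL (Pi.basisFun F (Fin a)))]
    congr 1
    exact Units.ext rfl
  map_mul' x y := by
    rw [← map_mul]
    congr 1
    apply Units.ext
    refine LinearMap.ext fun v => ?_
    have h0 := stab_snd_inl (mem_stab.mp y.2) v
    change (x.1.val (y.1.val (v, 0))).1 = (x.1.val ((y.1.val (v, 0)).1, 0)).1
    rw [show y.1.val (v, 0) = ((y.1.val (v, 0)).1, 0) from Prod.ext rfl h0]

/-- The quotient block. -/
noncomputable def blockQ : stab F a c →* GL (Fin c) F where
  toFun x := toGL (Pi.basisFun F (Fin c)) (isUnit_blocks x.1.isUnit (mem_stab.mp x.2)).2.unit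
  map_one' := by
    rw [← map_one (toGL (Pi.basisFun F (Fin c)))]
    congr 1
    exact Units.ext rfl
  map_mul' x y := by
    rw [← map_mul]
    congr 1
    apply Units.ext
    refine LinearMap.ext fun w => ?_
    have e : y.1.val (0, w) = ((y.1.val (0, w)).1, 0) + (0, (y.1.val (0, w)).2) := by simp
    change (x.1.val (y.1.val (0, w))).2 = (x.1.val (0, (y.1.val (0, w)).2)).2
    conv_lhs => rw [e, map_add]
    simp [stab_snd_inl (mem_stab.mp x.2)]

theorem term_A0 {σ : GL (Fin a) F → ℂ} (hσ : IsClassFunction (GL (Fin a) F) σ) {Φ : Fam F}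
    (hΦ : Inv Φ) (g : Module.End F (Fin a → F)) (T : (Fin c → F) →ₗ[F] (Fin a → F))
    (h : Module.End F (Fin c → F)) :
    term σ Φ (mk g T h) (A0 (F := F) (a := a) (c := c)) =
      ev σ (Fin a → F) g * Φ (Fin c → F) h := by
  let e1 : first (F := F) a (Fin c → F) ≃ₗ[F] (Fin a → F) :=
    { toFun := fun p => p.1.1
      invFun := fun v => ⟨(v, 0), rfl⟩
      left_inv := fun p => Subtype.ext (Prod.ext rfl (mem_first.mp p.2).symm)
      right_inv := fun v => rfl
      map_add' := fun p q => rfl
      map_smul' := fun c p => rfl }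
  let e2 : (Mod2 F a c ⧸ first (F := F) a (Fin c → F)) ≃ₗ[F] (Fin c → F) :=
    (Submodule.quotEquivOfEq _ _ (show first (F := F) a (Fin c → F) =
        LinearMap.ker (LinearMap.snd F (Fin a → F) (Fin c → F)) from rfl)).trans
      ((LinearMap.snd F (Fin a → F) (Fin c → F)).quotKerEquivOfSurjective Prod.snd_surjective)
  have hinv : first a (Fin c → F) ≤ (first a (Fin c → F)).comap (mk g T h) := fun p hp => by
    change h p.2 = 0
    rw [mem_first.mp hp, map_zero]
  rw [term, dif_pos hinv]
  congr 1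
  · rw [← ev_conj hσ _ _ e1 _]
    congr 1
    refine LinearMap.ext fun v => ?_
    simp [LinearEquiv.conj_apply, e1]
  · rw [← hΦ _ _ e2 _]
    congr 1
    refine LinearMap.ext fun q => ?_
    obtain ⟨p, rfl⟩ : ∃ p : Mod2 F a c, p.2 = q := ⟨(0, q), rfl⟩
    have : e2.symm p.2 = Submodule.Quotient.mk p := by
      rw [LinearEquiv.symm_apply_eq]
      rfl
    rw [LinearEquiv.conj_apply]
    simp only [LinearMap.comp_apply, LinearEquiv.coe_coe, this, Submodule.mapQ_apply]
    rfl

/-- The inner product with an induced family is an inner product over the stabiliser. -/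
theorem inner_indV_stab {σ : GL (Fin a) F → ℂ} (hσ : IsClassFunction (GL (Fin a) F) σ) {Φ Ψ : Fam F}
    (hΦ : Inv Φ) (hΨ : Inv Ψ) :
    inner (a + c) (indV σ Φ) Ψ =
      (Nat.card (stab F a c) : ℂ)⁻¹ * ∑ x : stab F a c,
        term σ Φ (x.1 : Module.End F (Mod2 F a c)) A0 * conj (Ψ (Mod2 F a c) x.1) := by
  set V := Mod2 F a c
  let D : Finset (Submodule F V) := Finset.univ.filter fun W => finrank F W = a
  set S := ∑ x : stab F a c,
    term σ Φ (x.1 : Module.End F V) A0 * conj (Ψ V x.1) with hS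
  have hzero : ∀ (x : (Module.End F V)ˣ) (W : Submodule F V), W ∉ D →
      term σ Φ (x : Module.End F V) W = 0 := by
    intro x W hW
    simp only [D, Finset.mem_filter, Finset.mem_univ, true_and] at hW
    by_cases h : W ≤ W.comap (x : Module.End F V)
    · rw [term, dif_pos h, ev_of_finrank_ne hW, zero_mul]
    · exact term_of_not h
  have hT : ∀ W ∈ D, ∑ x : (Module.End F V)ˣ,
      term σ Φ (x : Module.End F V) W * conj (Ψ V x) = S := by
    intro W hW
    simp only [D, Finset.mem_filter, Finset.mem_univ, true_and] at hW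
    obtain ⟨θ, hθ⟩ := exists_move W hW
    let E : (Module.End F V)ˣ ≃* (Module.End F V)ˣ :=
      Units.mapEquiv (LinearEquiv.conjRingEquiv θ).toMulEquiv
    rw [← Fintype.sum_equiv E.toEquiv (fun x => term σ Φ (x : Module.End F V) A0 * conj (Ψ V x))
      (fun x => term σ Φ (x : Module.End F V) W * conj (Ψ V x)) fun x => ?_]
    · rw [hS, ← Finset.sum_subset (Finset.subset_univ
        (Finset.univ.filter fun x : (Module.End F V)ˣ => x ∈ stab F a c))]
      · exact Finset.sum_subtype (Finset.univ.filter fun x : (Module.End F V)ˣ => x ∈ stab F a c)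
          (by simp) fun x => term σ Φ (x : Module.End F V) A0 * conj (Ψ V x)
      · intro x _ hx
        simp only [Finset.mem_filter, Finset.mem_univ, true_and] at hx
        rw [term_of_not fun h => hx (mem_stab.mpr h), zero_mul]
    · have he : ((E x : (Module.End F V)ˣ) : Module.End F V) = θ.conj (x : Module.End F V) := rfl
      rw [MulEquiv.toEquiv_eq_coe, EquivLike.coe_coe, he, hΨ]
      congr 1
      exact (indV_term_conj hσ hΦ θ (x : Module.End F V) _
        (fun v => by simp [LinearEquiv.conj_apply]) _ W hθ).symm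
  have hcount : Fintype.card (Module.End F V)ˣ = D.card * Fintype.card (stab F a c) := by
    rw [← Finset.card_univ, Finset.card_eq_sum_card_fiberwise
      (f := fun x : (Module.End F V)ˣ => (A0 (F := F) (a := a) (c := c)).map (x : Module.End F V))
      (t := D)]
    · rw [← smul_eq_mul, ← Finset.sum_const]
      refine Finset.sum_congr rfl fun W hW => ?_
      simp only [D, Finset.mem_filter, Finset.mem_univ, true_and] at hW
      obtain ⟨θ, hθ⟩ := exists_move W hW
      let t : (Module.End F V)ˣ := LinearMap.GeneralLinearGroup.ofLinearEquiv θ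
      have ht : (A0 (F := F) (a := a) (c := c)).map (t : Module.End F V) = W := hθ
      rw [← Fintype.card_subtype]
      refine Fintype.card_congr
        { toFun := fun x => ⟨t⁻¹ * x.1, ?_⟩
          invFun := fun y => ⟨t * y.1, ?_⟩
          left_inv := fun x => by simp
          right_inv := fun y => by simp }
      · change Submodule.map (((t⁻¹ : _ˣ) : Module.End F V) ∘ₗ (x.1 : Module.End F V)) A0 = A0
        rw [Submodule.map_comp, x.2]
        conv_lhs => rw [← ht, ← Submodule.map_comp]
        rw [show ((t⁻¹ : _ˣ) : Module.End F V) ∘ₗ (t : Module.End F V) = LinearMap.id from t.inv_mul,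
          Submodule.map_id]
      · change Submodule.map ((t : Module.End F V) ∘ₗ (y.1 : Module.End F V)) A0 = W
        rw [Submodule.map_comp, show Submodule.map (y.1 : Module.End F V) A0 = A0 from y.2, ht]
    · intro x _
      simp only [D, Finset.coe_filter, Finset.mem_univ, true_and, Set.mem_setOf_eq]
      rw [← (Submodule.equivMapOfInjective _ ((isUnit_iff_injective _).mp x.isUnit) _).finrank_eq]
      have h1 := LinearMap.finrank_range_add_finrank_ker (LinearMap.snd F (Fin a → F) (Fin c → F))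
      rw [LinearMap.range_eq_top.mpr Prod.snd_surjective, finrank_top, finrank_fin_fun,
        finrank_mod2] at h1
      change finrank F (LinearMap.ker (LinearMap.snd F (Fin a → F) (Fin c → F))) = a
      omega
  rw [inner, classInner, sum_gl_mod2 _ (indV_inv hσ hΦ) _ hΨ]
  simp only [indV_eq_sum, Finset.sum_mul]
  rw [Finset.sum_comm, ← Finset.sum_subset (Finset.subset_univ D)
    (fun W _ hW => Finset.sum_eq_zero fun x _ => by rw [hzero x W hW, zero_mul]),
    Finset.sum_congr rfl hT, Finset.sum_const, nsmul_eq_mul]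
  have hG : Nat.card (GL (Fin (a + c)) F) = D.card * Fintype.card (stab F a c) := by
    let e : V ≃ₗ[F] (Fin (a + c) → F) := LinearEquiv.ofFinrankEq _ _
      (by rw [finrank_mod2, finrank_fin_fun])
    rw [Nat.card_eq_fintype_card, ← hcount]
    exact Fintype.card_congr ((Units.mapEquiv (LinearEquiv.conjRingEquiv e).toMulEquiv).trans
      (Units.mapEquiv Matrix.toLinAlgEquiv'.toMulEquiv).symm).toEquiv.symm
  have hD : (D.card : ℂ) ≠ 0 := by
    intro h
    have h0 : D.card = 0 := by exact_mod_cast h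
    rw [h0, zero_mul] at hcount
    exact Fintype.card_ne_zero hcount
  have hH : (Fintype.card (stab F a c) : ℂ) ≠ 0 := Nat.cast_ne_zero.mpr Fintype.card_ne_zero
  rw [hG, Nat.card_eq_fintype_card, Nat.cast_mul]
  field_simp

theorem term_stab {σ : GL (Fin a) F → ℂ} (hσ : IsClassFunction (GL (Fin a) F) σ) {Φ : Fam F}
    (hΦ : Inv Φ) (x : stab F a c) :
    term σ Φ (x.1 : Module.End F (Mod2 F a c)) A0 = σ (blockA x) * res c Φ (blockQ x) := by
  conv_lhs => rw [← stab_eq_mk (mem_stab.mp x.2)]
  rw [term_A0 hσ hΦ]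
  congr 1
  · rw [ev_basis hσ (Pi.basisFun F (Fin a)) (isUnit_blocks x.1.isUnit (mem_stab.mp x.2)).1]
    rfl
  · rw [res]
    congr 1
    have e : ((blockQ x : GL (Fin c) F) : Matrix (Fin c) (Fin c) F) = LinearMap.toMatrix'
        (LinearMap.snd F _ _ ∘ₗ (x.1 : Module.End F (Mod2 F a c)) ∘ₗ LinearMap.inr F _ _) := by
      ext i j
      simp [blockQ, toGL, LinearMap.toMatrixAlgEquiv_apply, LinearMap.toMatrix'_apply,
        Pi.single_apply]
    rw [e, Matrix.toLin'_toMatrix']

/-- Natural inner product of an induced family with a character. -/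
theorem inner_indV_natCast {σ : GL (Fin a) F → ℂ} (hσ : IsCharacter (GL (Fin a) F) σ) {Φ : Fam F}
    (hΦ : Inv Φ) (hΦc : IsCharacter (GL (Fin c) F) (res c Φ))
    {χ : GL (Fin (a + c)) F → ℂ} (hχ : IsCharacter (GL (Fin (a + c)) F) χ) :
    ∃ k : ℕ, inner (a + c) (indV σ Φ) (ev χ) = k := by
  rw [inner_indV_stab (isClassFunction_character hσ) hΦ (ev_conj (isClassFunction_character hχ))]
  have e : (∑ x : stab F a c, term σ Φ (x.1 : Module.End F (Mod2 F a c)) A0 *
      conj (ev χ (Mod2 F a c) x.1)) = ∑ x : stab F a c,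
      (σ (blockA x) * res c Φ (blockQ x)) *
        conj (χ ((toGL (finBasisOfFinrankEq F (Mod2 F a c) finrank_mod2)).toMonoidHom.comp
          (stab F a c).subtype x)) := by
    refine Finset.sum_congr rfl fun x _ => ?_
    rw [term_stab (isClassFunction_character hσ) hΦ,
      ev_basis (isClassFunction_character hχ)
        (finBasisOfFinrankEq F (Mod2 F a c) finrank_mod2) x.1.isUnit, IsUnit.unit_of_val_units]
    rfl
  rw [e]
  exact classInner_natCast (isCharacter_mul (isCharacter_comp blockA hσ) (isCharacter_comp blockQ hΦc))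
    (isCharacter_comp _ hχ)

/-- Adjunction. -/
theorem inner_indV {σ : GL (Fin a) F → ℂ} (hσ : IsClassFunction (GL (Fin a) F) σ) {Φ Ψ : Fam F}
    (hΦ : Inv Φ) (hΨ : Inv Ψ) : inner (a + c) (indV σ Φ) Ψ = inner c Φ (DV σ Ψ) := by
  rw [inner_indV_stab hσ hΦ hΨ]
  let M : GL (Fin a) F × ((Fin c → F) →ₗ[F] (Fin a → F)) × GL (Fin c) F → stab F a c := fun t =>
    ⟨(isUnit_mk (g := Matrix.toLin' (t.1 : Matrix (Fin a) (Fin a) F))
        (t.1.isUnit.map Matrix.toLinAlgEquiv') t.2.1
        (h := Matrix.toLin' (t.2.2 : Matrix (Fin c) (Fin c) F))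
        (t.2.2.isUnit.map Matrix.toLinAlgEquiv')).unit, mem_stab.mpr fun p hp => by
      change Matrix.toLin' (t.2.2 : Matrix (Fin c) (Fin c) F) p.2 = 0
      rw [mem_first.mp hp, map_zero]⟩
  have hMb : Function.Bijective M := by
    constructor
    · rintro ⟨g, T, h⟩ ⟨g', T', h'⟩ e
      have e' := congrArg (fun x : stab F a c => (x.1 : Module.End F (Mod2 F a c))) e
      simp only [M, IsUnit.unit_spec] at e'
      refine Prod.ext ?_ (Prod.ext ?_ ?_)
      · apply Units.ext
        apply Matrix.toLin'.injective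
        refine LinearMap.ext fun v => ?_
        simpa using congrArg Prod.fst (LinearMap.congr_fun e' (v, 0))
      · refine LinearMap.ext fun w => ?_
        simpa using congrArg Prod.fst (LinearMap.congr_fun e' (0, w))
      · apply Units.ext
        apply Matrix.toLin'.injective
        refine LinearMap.ext fun w => ?_
        simpa using congrArg Prod.snd (LinearMap.congr_fun e' (0, w))
    · intro x
      obtain ⟨h1, h2⟩ := isUnit_blocks x.1.isUnit (mem_stab.mp x.2)
      refine ⟨((Units.mapEquiv Matrix.toLinAlgEquiv'.toMulEquiv).symm h1.unit,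
        LinearMap.fst F _ _ ∘ₗ (x.1 : Module.End F (Mod2 F a c)) ∘ₗ LinearMap.inr F _ _,
        (Units.mapEquiv Matrix.toLinAlgEquiv'.toMulEquiv).symm h2.unit), Subtype.ext (Units.ext ?_)⟩
      simp only [M, IsUnit.unit_spec]
      conv_rhs => rw [← stab_eq_mk (mem_stab.mp x.2)]
      congr 1
      · exact Matrix.toLinAlgEquiv'.apply_symm_apply _
      · exact Matrix.toLinAlgEquiv'.apply_symm_apply _
  have hcard : Nat.card (stab F a c) = Nat.card (GL (Fin a) F) *
      (Nat.card ((Fin c → F) →ₗ[F] (Fin a → F)) * Nat.card (GL (Fin c) F)) := by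
    rw [← Nat.card_congr (Equiv.ofBijective M hMb), Nat.card_prod, Nat.card_prod]
  rw [inner, classInner, ← (Equiv.ofBijective M hMb).sum_comp, hcard]
  simp only [Equiv.ofBijective_apply, M, IsUnit.unit_spec, term_A0 hσ hΦ, Fintype.sum_prod_type,
    ev_toLin' hσ, res, DV]
  simp only [map_mul, map_inv₀, map_sum, Complex.conj_natCast, Complex.conj_conj, Finset.mul_sum,
    Finset.sum_mul]
  rw [Finset.sum_comm_cycle]
  refine Finset.sum_congr rfl fun h _ => ?_
  refine Finset.sum_congr rfl fun g _ => ?_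
  refine Finset.sum_congr rfl fun T _ => ?_
  push_cast
  rw [mul_inv, mul_inv]
  ring

end Stab

end Cfsg.Agent.GLCusp
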