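import Mathlib

/-!
# Relevant monomial data

A permutation with nonzero scalars is relevant when every step to the next index either decreases
or increases by one with equal scalars, and increases by one only for neighbouring indices. They
are fixed by the antidiagonal transposition and there are `(q - 1) q^(n-1)` of them.
-/

set_option autoImplicit false

namespace Cfsg.Agent.GLCusp

open Finset

variable {U : Type*}

/-- The relevance condition. -/
def Relevant {n : ℕ} (σ : Equiv.Perm (Fin n)) (t : Fin n → U) : Prop :=
  (∀ i j : Fin n, j.val = i.val + 1 →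
    (σ j).val < (σ i).val ∨ ((σ j).val = (σ i).val + 1 ∧ t i = t j)) ∧
  ∀ i j : Fin n, (σ j).val = (σ i).val + 1 → i.val < j.val → j.val = i.val + 1

namespace Relevant

variable {n : ℕ} {σ : Equiv.Perm (Fin n)} {t : Fin n → U}

/-- Ascending pairs lie in one run. -/
theorem run (h : Relevant σ t) : ∀ (d : ℕ) (i j : Fin n), j.val = i.val + d →
    (σ i).val < (σ j).val → ∀ m : Fin n, i ≤ m → m ≤ j →
      (σ m).val + i.val = (σ i).val + m.val ∧ t m = t i := by
  intro d
  induction d with
  | zero =>
    intro i j hj hlt
    rw [show j = i from Fin.ext (by omega)] at hlt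
    exact absurd hlt (lt_irrefl _)
  | succ d ih =>
    intro i j hj hlt m hm1 hm2
    rw [Fin.le_def] at hm1 hm2
    have hi1 : i.val + 1 < n := by omega
    set i' : Fin n := ⟨i.val + 1, hi1⟩ with hi'
    rcases h.1 i i' rfl with hdec | ⟨hinc, ht⟩
    · exfalso
      have hlt' : (σ i').val < (σ j).val := hdec.trans hlt
      have hall := ih i' j (by simp [hi']; omega) hlt'
      have hj' := (hall j (Fin.le_def.mpr (by simp [hi']; omega)) le_rfl).1
      simp only [hi'] at hj'
      let p : Fin n := ⟨i.val + 1 + ((σ i).val - (σ i').val), by
        simp only [hi'] at hdec hlt ⊢; omega⟩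
      have hp := (hall p (Fin.le_def.mpr (by simp [p, hi']))
        (Fin.le_def.mpr (by simp only [p, hi'] at *; omega))).1
      have : σ p = σ i := Fin.ext (by simp only [p, hi'] at hp hdec ⊢; omega)
      have := congrArg Fin.val (σ.injective this)
      simp [p] at this
      omega
    · rcases Nat.eq_or_lt_of_le hm1 with he | hlt2
      · rw [show m = i from Fin.ext he.symm]
        exact ⟨rfl, rfl⟩
      · rcases Nat.eq_zero_or_pos d with hd | hd
        · have : m = i' := Fin.ext (by simp [hi']; omega)
          subst this
          exact ⟨by simp only [hi'] at hinc ⊢; omega, ht.symm⟩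
        · have hne : (σ i').val ≠ (σ j).val := fun e => by
            have := congrArg Fin.val (σ.injective (Fin.ext e))
            simp [hi'] at this
            omega
          obtain ⟨h1, h2⟩ := ih i' j (by simp [hi']; omega) (by omega) m
            (Fin.le_def.mpr (by simp [hi']; omega)) (Fin.le_def.mpr hm2)
          exact ⟨by simp only [hi'] at h1 hinc ⊢; omega, h2.trans ht.symm⟩

theorem run' (h : Relevant σ t) {i j : Fin n} (hij : i ≤ j) (hlt : (σ i).val < (σ j).val)
    {m : Fin n} (hm1 : i ≤ m) (hm2 : m ≤ j) :
    (σ m).val + i.val = (σ i).val + m.val ∧ t m = t i :=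
  h.run (j.val - i.val) i j (by have := Fin.le_def.mp hij; omega) hlt m hm1 hm2

/-- Relevant data are symmetric under the antidiagonal transposition. -/
theorem symm_rev (h : Relevant σ t) (j : Fin n) :
    σ (Fin.rev (σ j)) = Fin.rev j ∧ t (Fin.rev (σ j)) = t j := by
  classical
  set lo := univ.filter fun i : Fin n => i < j ∧ (σ i).val < (σ j).val with hlo
  set hi := univ.filter fun i : Fin n => j < i ∧ (σ j).val < (σ i).val with hhi
  set mid := univ.filter fun i : Fin n => j < i ∧ (σ i).val < (σ j).val with hmid
  have hcount : (σ j).val = lo.card + mid.card := by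
    have h1 : (univ.filter fun i : Fin n => (σ i).val < (σ j).val) = lo ∪ mid := by
      ext i
      simp only [hlo, hmid, mem_filter, mem_univ, true_and, mem_union]
      constructor
      · intro hlt
        rcases lt_trichotomy i j with h1 | h1 | h1
        · exact Or.inl ⟨h1, hlt⟩
        · subst h1
          exact absurd hlt (lt_irrefl _)
        · exact Or.inr ⟨h1, hlt⟩
      · rintro (⟨-, h1⟩ | ⟨-, h1⟩) <;> exact h1
    have h2 : (univ.filter fun i : Fin n => (σ i).val < (σ j).val).card = (σ j).val := by
      have : (univ.filter fun i : Fin n => (σ i).val < (σ j).val).map σ.toEmbedding = Iio (σ j) := by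
        ext i
        rw [Finset.mem_map_equiv]
        simp only [mem_filter, mem_univ, true_and, mem_Iio, Equiv.apply_symm_apply]
        exact Fin.lt_def.symm
      rw [← card_map σ.toEmbedding, this, Fin.card_Iio]
    rw [h1, card_union_of_disjoint] at h2
    · exact h2.symm
    · rw [disjoint_left]
      intro i h3 h4
      simp only [hlo, hmid, mem_filter, mem_univ, true_and] at h3 h4
      exact lt_asymm h3.1 h4.1
  have hgt : hi.card + mid.card = n - 1 - j.val := by
    rw [← Fin.card_Ioi, ← card_union_of_disjoint]
    · congr 1
      ext i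
      simp only [hhi, hmid, mem_filter, mem_univ, true_and, mem_union, mem_Ioi]
      constructor
      · rintro (⟨h1, -⟩ | ⟨h1, -⟩) <;> exact h1
      · intro h1
        rcases lt_trichotomy (σ j).val (σ i).val with h2 | h2 | h2
        · exact Or.inl ⟨h1, h2⟩
        · exact absurd (σ.injective (Fin.ext h2)) h1.ne
        · exact Or.inr ⟨h1, h2⟩
    · rw [disjoint_left]
      intro i h3 h4
      simp only [hhi, hmid, mem_filter, mem_univ, true_and] at h3 h4
      omega
  have hlo_mem : ∀ i : Fin n, i.val < j.val → j.val ≤ i.val + lo.card → i ∈ lo := by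
    intro i hij hc
    by_contra hni
    have hsub : lo ⊆ Ioo i j := by
      intro m hm
      simp only [hlo, mem_filter, mem_univ, true_and] at hm hni
      rw [mem_Ioo]
      refine ⟨?_, hm.1⟩
      by_contra hmi
      have h1 := h.run' hm.1.le hm.2 (not_lt.mp hmi) (Fin.le_def.mpr hij.le)
      have h2 := h.run' hm.1.le hm.2 hm.1.le le_rfl
      exact hni ⟨Fin.lt_def.mpr hij, by omega⟩
    have := card_le_card hsub
    rw [Fin.card_Ioo] at this
    omega
  have hhi_mem : ∀ i : Fin n, j.val < i.val → i.val ≤ j.val + hi.card → i ∈ hi := by
    intro i hij hc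
    by_contra hni
    have hsub : hi ⊆ Ioo j i := by
      intro m hm
      simp only [hhi, mem_filter, mem_univ, true_and] at hm hni
      rw [mem_Ioo]
      refine ⟨hm.1, ?_⟩
      by_contra hmi
      have h1 := h.run' hm.1.le hm.2 (Fin.le_def.mpr hij.le) (not_lt.mp hmi)
      exact hni ⟨Fin.lt_def.mpr hij, by omega⟩
    have := card_le_card hsub
    rw [Fin.card_Ioo] at this
    omega
  have hrev : (Fin.rev (σ j)).val + lo.card = j.val + hi.card := by
    rw [Fin.val_rev]
    have := j.2
    have := (σ j).2
    omega
  set p := Fin.rev (σ j)
  have hkey : (σ p).val + j.val = (σ j).val + p.val ∧ t p = t j := by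
    rcases lt_trichotomy p.val j.val with h1 | h1 | h1
    · have hp := hlo_mem p h1 (by omega)
      simp only [hlo, mem_filter, mem_univ, true_and] at hp
      obtain ⟨e1, e2⟩ := h.run' hp.1.le hp.2 hp.1.le le_rfl
      exact ⟨by omega, e2.symm⟩
    · rw [show p = j from Fin.ext h1]
      exact ⟨rfl, rfl⟩
    · have hp := hhi_mem p h1 (by omega)
      simp only [hhi, mem_filter, mem_univ, true_and] at hp
      exact h.run' hp.1.le hp.2 hp.1.le le_rfl
  refine ⟨Fin.ext ?_, hkey.2⟩
  rw [Fin.val_rev]
  have := j.2
  omega

end Relevant

/-! ### Counting -/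

section Count

variable {n : ℕ}

/-- Extend data by a new first index. -/
noncomputable def extendPerm (v : Fin (n + 2)) (σ : Equiv.Perm (Fin (n + 1))) :
    Equiv.Perm (Fin (n + 2)) :=
  Equiv.ofBijective (Fin.cons (α := fun _ => Fin (n + 2)) v (v.succAbove ∘ σ)) <| Finite.injective_iff_bijective.mp <|
    Fin.cons_injective_iff.mpr
      ⟨fun ⟨i, hi⟩ => Fin.succAbove_ne v (σ i) hi, Fin.succAbove_right_injective.comp σ.injective⟩

theorem extendPerm_zero (v : Fin (n + 2)) (σ : Equiv.Perm (Fin (n + 1))) :
    extendPerm v σ 0 = v := rfl

theorem extendPerm_succ (v : Fin (n + 2)) (σ : Equiv.Perm (Fin (n + 1))) (i : Fin (n + 1)) :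
    extendPerm v σ i.succ = v.succAbove (σ i) := by
  change Fin.cons (α := fun _ => Fin (n + 2)) v (v.succAbove ∘ σ) i.succ = _
  rw [Fin.cons_succ]
  rfl

theorem val_succAbove (v : Fin (n + 2)) (x : Fin (n + 1)) :
    (v.succAbove x).val = if x.val < v.val then x.val else x.val + 1 := by
  rw [Fin.succAbove]
  split_ifs <;> simp_all [Fin.lt_def]

theorem relevant_extend {σ : Equiv.Perm (Fin (n + 1))} {t : Fin (n + 1) → U} (h : Relevant σ t)
    (v : Fin (n + 2)) (u : U)
    (hv : (v.val = (σ 0).val ∧ u = t 0) ∨ v.val = n + 1) :
    Relevant (extendPerm v σ) (Fin.cons u t) := by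
  obtain ⟨hA, hB⟩ := h
  constructor
  · intro i j hij
    induction j using Fin.cases with
    | zero => simp at hij
    | succ j =>
      induction i using Fin.cases with
      | zero =>
        obtain rfl : j = 0 := by
          refine Fin.ext ?_
          simp only [Fin.val_succ, Fin.val_zero] at hij ⊢
          omega
        rw [extendPerm_zero, extendPerm_succ, val_succAbove, Fin.cons_zero, Fin.cons_succ]
        have := (σ 0).2
        rcases hv with ⟨h1, h2⟩ | h1
        · refine Or.inr ⟨?_, h2⟩
          rw [if_neg (by omega)]
          omega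
        · refine Or.inl ?_
          rw [if_pos (by omega)]
          omega
      | succ i =>
        have hij' : j.val = i.val + 1 := by simpa using hij
        have hne : j ≠ 0 := fun e => by rw [e] at hij'; simp at hij'
        have hσne : (σ j).val ≠ (σ 0).val := fun e => hne (σ.injective (Fin.ext e))
        have hb := (σ j).2
        have hb' := (σ i).2
        rw [extendPerm_succ, extendPerm_succ, val_succAbove, val_succAbove, Fin.cons_succ,
          Fin.cons_succ]
        rcases hA i j hij' with hd | ⟨hu, ht⟩
        · left
          split_ifs <;> omega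
        · refine Or.inr ⟨?_, ht⟩
          rcases hv with ⟨h1, -⟩ | h1 <;> split_ifs <;> omega
  · intro i j hval hij
    induction j using Fin.cases with
    | zero => simp at hij
    | succ j =>
      have hb := (σ j).2
      induction i using Fin.cases with
      | zero =>
        rw [extendPerm_zero, extendPerm_succ, val_succAbove] at hval
        rcases hv with ⟨h1, -⟩ | h1
        · have : σ j = σ 0 := Fin.ext (by split_ifs at hval <;> omega)
          simp [σ.injective this]
        · exfalso
          split_ifs at hval <;> omega
      | succ i =>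
        rw [extendPerm_succ, extendPerm_succ, val_succAbove, val_succAbove] at hval
        have hlt : i.val < j.val := by simpa using hij
        have hne : (σ j).val ≠ (σ i).val := fun e => by
          have := congrArg Fin.val (σ.injective (Fin.ext e))
          omega
        have h1 : (σ j).val = (σ i).val + 1 := by
          split_ifs at hval <;> omega
        simpa using hB i j h1 hlt

/-- The possible new first values. -/
noncomputable def ins (p : {p : Equiv.Perm (Fin (n + 1)) × (Fin (n + 1) → U) // Relevant p.1 p.2})
    (o : Option U) : {p : Equiv.Perm (Fin (n + 2)) × (Fin (n + 2) → U) // Relevant p.1 p.2} :=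
  ⟨(extendPerm (o.elim (p.1.1 0).castSucc (fun _ => Fin.last (n + 1))) p.1.1,
    Fin.cons (o.getD (p.1.2 0)) p.1.2),
    relevant_extend p.2 _ _ (by cases o <;> simp)⟩

theorem ins_injective : Function.Injective
    (fun x : {p : Equiv.Perm (Fin (n + 1)) × (Fin (n + 1) → U) // Relevant p.1 p.2} × Option U =>
      ins x.1 x.2) := by
  rintro ⟨⟨⟨σ, t⟩, h⟩, o⟩ ⟨⟨⟨σ', t'⟩, h'⟩, o'⟩ e
  have e1 := congrArg (fun z : {p : Equiv.Perm (Fin (n + 2)) × (Fin (n + 2) → U) //
    Relevant p.1 p.2} => z.1.1) e
  have e2 := congrArg (fun z : {p : Equiv.Perm (Fin (n + 2)) × (Fin (n + 2) → U) //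
    Relevant p.1 p.2} => z.1.2) e
  simp only [ins] at e1 e2
  have hv := congrArg (fun π : Equiv.Perm (Fin (n + 2)) => π 0) e1
  simp only [extendPerm_zero] at hv
  have hσ : σ = σ' := Equiv.ext fun i => by
    have := congrArg (fun π : Equiv.Perm (Fin (n + 2)) => π i.succ) e1
    simp only [extendPerm_succ, hv] at this
    exact Fin.succAbove_right_injective this
  have ht : t = t' := funext fun i => by simpa using congrFun e2 i.succ
  subst hσ ht
  have h0 := congrFun e2 0
  simp at h0
  cases o <;> cases o'
  · rfl
  · have := (σ 0).2
    have := congrArg Fin.val hv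
    simp at this
    omega
  · have := (σ 0).2
    have := congrArg Fin.val hv
    simp at this
    omega
  · simp at h0
    rw [h0]

theorem ins_surjective : Function.Surjective
    (fun x : {p : Equiv.Perm (Fin (n + 1)) × (Fin (n + 1) → U) // Relevant p.1 p.2} × Option U =>
      ins x.1 x.2) := by
  rintro ⟨⟨σ, t⟩, hA, hB⟩
  simp only at hA hB
  set v := σ 0 with hv
  have hne : ∀ i : Fin (n + 1), σ i.succ ≠ v := fun i e => Fin.succ_ne_zero i (σ.injective e)
  choose f hf using fun i => Fin.exists_succAbove_eq (hne i)
  have hfinj : Function.Injective f := fun i j e =>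
    Fin.succ_injective _ (σ.injective (by rw [← hf i, ← hf j, e]))
  let σ' : Equiv.Perm (Fin (n + 1)) := Equiv.ofBijective f (Finite.injective_iff_bijective.mp hfinj)
  have hval : ∀ i, (σ i.succ).val = if (σ' i).val < v.val then (σ' i).val else (σ' i).val + 1 :=
    fun i => by rw [← hf i, val_succAbove]; rfl
  have hrel : Relevant σ' (fun i => t i.succ) := by
    constructor
    · intro i j hij
      have hi := hval i
      have hj := hval j
      rcases hA i.succ j.succ (by simp [hij]) with hd | ⟨hu, ht⟩
      · left
        split_ifs at hi hj <;> omega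
      · refine Or.inr ⟨?_, ht⟩
        have := hne i
        have hvi : v.val ≠ (σ i.succ).val := fun e => hne i (Fin.ext e.symm)
        split_ifs at hi hj <;> omega
    · intro i j hv' hij
      have hi := hval i
      have hj := hval j
      by_cases h1 : (σ j.succ).val = (σ i.succ).val + 1
      · simpa using hB i.succ j.succ h1 (by simp; omega)
      · exfalso
        have h2 : (σ j.succ).val = v.val + 1 := by split_ifs at hi hj <;> omega
        have := hB 0 j.succ (by rw [← hv]; exact h2) (by simp)
        simp only [Fin.val_succ, Fin.val_zero] at this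
        omega
  have h01 := hA 0 (0 : Fin (n + 1)).succ (by simp)
  rw [← hv, hval 0] at h01
  rcases h01 with hd | ⟨hu, ht⟩
  · -- a new run starts
    refine ⟨(⟨(σ', fun i => t i.succ), hrel⟩, some (t 0)), Subtype.ext (Prod.ext ?_ ?_)⟩
    · have hlast : v = Fin.last (n + 1) := by
        refine Fin.ext ?_
        rw [Fin.val_last]
        by_contra hne'
        have hv2 := v.2
        let w : Fin (n + 2) := ⟨v.val + 1, by omega⟩
        obtain ⟨j, hj⟩ := σ.surjective w
        induction j using Fin.cases with
        | zero => exact absurd (congrArg Fin.val hj) (by simp [w, ← hv])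
        | succ j =>
          have := hB 0 j.succ (by rw [hj]) (by simp)
          obtain rfl : j = 0 := Fin.ext (by simpa using this)
          have := congrArg Fin.val hj
          rw [hval 0] at this
          simp [w] at this
          split_ifs at hd this <;> omega
      refine Equiv.ext fun i => ?_
      induction i using Fin.cases with
      | zero => simp [ins, extendPerm_zero, ← hv, hlast]
      | succ i =>
        simp only [ins, extendPerm_succ, Option.elim_some]
        rw [← hlast, ← hf i]
        rfl
    · funext i
      induction i using Fin.cases with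
      | zero => simp [ins]
      | succ i => simp [ins]
  · refine ⟨(⟨(σ', fun i => t i.succ), hrel⟩, none), Subtype.ext (Prod.ext ?_ ?_)⟩
    · have hv0 : (σ' 0).castSucc = v := by
        refine Fin.ext ?_
        rw [Fin.val_castSucc]
        split_ifs at hu <;> omega
      refine Equiv.ext fun i => ?_
      induction i using Fin.cases with
      | zero => simp [ins, extendPerm_zero, ← hv, hv0]
      | succ i =>
        simp only [ins, extendPerm_succ, Option.elim_none]
        rw [hv0, ← hf i]
        rfl
    · funext i
      induction i using Fin.cases with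
      | zero => simpa [ins] using ht.symm
      | succ i => simp [ins]

/-- The number of relevant data. -/
theorem card_relevant [Finite U] : ∀ n : ℕ,
    Nat.card {p : Equiv.Perm (Fin (n + 1)) × (Fin (n + 1) → U) // Relevant p.1 p.2} =
      Nat.card U * (Nat.card U + 1) ^ n
  | 0 => by
    have : Subsingleton (Fin (0 + 1)) := inferInstanceAs (Subsingleton (Fin 1))
    rw [pow_zero, mul_one]
    refine Nat.card_congr
      { toFun := fun p => p.1.2 0
        invFun := fun u => ⟨(1, fun _ => u), fun i j h => absurd h (by omega),
          fun i j _ h => absurd h (by omega)⟩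
        left_inv := fun p => Subtype.ext (Prod.ext (Subsingleton.elim _ _)
          (funext fun i => congrArg p.1.2 (Subsingleton.elim _ _)))
        right_inv := fun u => rfl }
  | n + 1 => by
    rw [← Nat.card_congr (Equiv.ofBijective _ ⟨ins_injective, ins_surjective⟩), Nat.card_prod,
      card_relevant n, Finite.card_option, pow_succ, mul_assoc]

end Count

end Cfsg.Agent.GLCusp
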