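import Cfsg.Agent.Lib.Char.GLCusp.Unipotent
import Cfsg.Agent.Lib.Char.GLCusp.Relevant
import Cfsg.Agent.Lib.Small.Flags.Bruhat
import Cfsg.Agent.Lib.Char.Ortho
import Cfsg.Agent.Lib.Char.Induction
import Cfsg.Agent.Lib.Char.Linear

/-!
# The Gelfand-Graev character: multiplicity one and the number of its constituents
-/

set_option autoImplicit false
set_option linter.unusedSectionVars false
set_option maxHeartbeats 800000

namespace Cfsg.Agent.GLCusp

open Module Cfsg Cfsg.Agent.Char
open scoped ComplexConjugate Classical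

universe u

variable {F : Type u} [Field F] [Fintype F] {n : ℕ}

attribute [local instance] Fintype.ofFinite

/-! ### Monomial matrices -/

/-- Diagonal matrices as units. -/
def diagGL (t : Fin n → Fˣ) : GL (Fin n) F :=
  ⟨Matrix.diagonal fun i => (t i : F), Matrix.diagonal fun i => ((t i)⁻¹ : Fˣ),
    by simp [Matrix.diagonal_mul_diagonal],
    by simp [Matrix.diagonal_mul_diagonal]⟩

/-- Monomial matrices. -/
def mono (σ : Equiv.Perm (Fin n)) (t : Fin n → Fˣ) : GL (Fin n) F :=
  Small.Flags.permGLn σ * diagGL t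

theorem mono_apply (σ : Equiv.Perm (Fin n)) (t : Fin n → Fˣ) (i j : Fin n) :
    (mono σ t : Matrix (Fin n) (Fin n) F) i j = if i = σ j then (t j : F) else 0 := by
  change ((σ⁻¹).permMatrix F * Matrix.diagonal fun i => (t i : F)) i j = _
  rw [Matrix.mul_diagonal]
  simp only [Equiv.Perm.permMatrix, PEquiv.toMatrix_apply, Equiv.toPEquiv_apply, Option.mem_def,
    Option.some.injEq, Equiv.Perm.inv_def, Equiv.symm_apply_eq]
  split_ifs <;> simp

theorem mul_mono (A : Matrix (Fin n) (Fin n) F) (σ : Equiv.Perm (Fin n)) (t : Fin n → Fˣ)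
    (i j : Fin n) : (A * (mono σ t : Matrix (Fin n) (Fin n) F)) i j = A i (σ j) * t j := by
  simp [Matrix.mul_apply, mono_apply]

theorem mono_mul (A : Matrix (Fin n) (Fin n) F) (σ : Equiv.Perm (Fin n)) (t : Fin n → Fˣ)
    (i j : Fin n) : ((mono σ t : Matrix (Fin n) (Fin n) F) * A) i j = t (σ.symm i) * A (σ.symm i) j := by
  rw [Matrix.mul_apply, Finset.sum_eq_single (σ.symm i)]
  · simp [mono_apply]
  · intro k _ hk
    rw [mono_apply, if_neg, zero_mul]
    exact fun e => hk (by rw [e, Equiv.symm_apply_apply])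
  · simp

/-- The relation `u M = M v` in coordinates. -/
theorem comm_iff (σ : Equiv.Perm (Fin n)) (t : Fin n → Fˣ) (A B : Matrix (Fin n) (Fin n) F) :
    A * (mono σ t : Matrix (Fin n) (Fin n) F) = (mono σ t : Matrix (Fin n) (Fin n) F) * B ↔
      ∀ i j, A (σ i) (σ j) * t j = t i * B i j := by
  constructor
  · intro h i j
    have := congrFun (congrFun h (σ i)) j
    rwa [mul_mono, mono_mul, Equiv.symm_apply_apply] at this
  · intro h
    ext i j
    rw [mul_mono, mono_mul]
    simpa using h (σ.symm i) j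

theorem diagGL_uni {g : GL (Fin n) F} (hg : g ∈ upperTriangularGL n F) :
    ∃ (t : Fin n → Fˣ) (u v : uni F n), g = u.1 * diagGL t ∧ g = diagGL t * v.1 := by
  have hd : ∀ i, (g : Matrix (Fin n) (Fin n) F) i i ≠ 0 := by
    have hdet : (g : Matrix (Fin n) (Fin n) F).det ≠ 0 := (g.isUnit.map Matrix.detMonoidHom).ne_zero
    rw [Matrix.det_of_isUpperTriangular (M := (g : Matrix (Fin n) (Fin n) F))
      (fun i j hij => hg hij), Finset.prod_ne_zero_iff] at hdet
    exact fun i => hdet i (Finset.mem_univ i)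
  let t : Fin n → Fˣ := fun i => Units.mk0 _ (hd i)
  have h1 : g * (diagGL t)⁻¹ ∈ uni F n := by
    intro i j hji
    change ((g : Matrix (Fin n) (Fin n) F) * Matrix.diagonal fun i => ((t i)⁻¹ : Fˣ).val) i j = _
    rw [Matrix.mul_diagonal]
    rcases hji.lt_or_eq with h | h
    · rw [hg h, zero_mul, if_neg h.ne']
    · subst h
      rw [if_pos rfl, Units.val_inv_eq_inv_val]
      exact mul_inv_cancel₀ (hd j)
  have h2 : (diagGL t)⁻¹ * g ∈ uni F n := by
    intro i j hji
    change ((Matrix.diagonal fun i => ((t i)⁻¹ : Fˣ).val) * (g : Matrix (Fin n) (Fin n) F)) i j = _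
    rw [Matrix.diagonal_mul]
    rcases hji.lt_or_eq with h | h
    · rw [hg h, mul_zero, if_neg h.ne']
    · subst h
      rw [if_pos rfl, Units.val_inv_eq_inv_val]
      exact inv_mul_cancel₀ (hd j)
  exact ⟨t, ⟨_, h1⟩, ⟨_, h2⟩, (inv_mul_cancel_right g _).symm,
    (mul_inv_cancel_left _ g).symm⟩

theorem exists_decomp (g : GL (Fin n) F) :
    ∃ (σ : Equiv.Perm (Fin n)) (t : Fin n → Fˣ) (u v : uni F n), g = u.1 * mono σ t * v.1 := by
  obtain ⟨σ, b, c, hb, hc, rfl⟩ := Small.Flags.bruhat g
  obtain ⟨t, u, -, rfl, -⟩ := diagGL_uni hb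
  obtain ⟨t', -, v, -, rfl⟩ := diagGL_uni hc
  refine ⟨σ, fun i => t (σ i) * t' i, u, v, ?_⟩
  rw [mul_assoc, mul_assoc, mul_assoc]
  congr 1
  rw [← mul_assoc, ← mul_assoc]
  congr 1
  apply Units.ext
  ext i j
  have e1 : diagGL t * Small.Flags.permGLn σ * diagGL t' = diagGL t * mono σ t' := mul_assoc _ _ _
  rw [e1, Units.val_mul, mono_apply]
  change ((Matrix.diagonal fun i => (t i : F)) * (mono σ t' : Matrix (Fin n) (Fin n) F)) i j = _
  rw [Matrix.diagonal_mul, mono_apply]
  split_ifs with h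
  · rw [h, Units.val_mul]
  · rw [mul_zero]

theorem decomp_unique {σ σ' : Equiv.Perm (Fin n)} {t t' : Fin n → Fˣ} {u v u' v' : uni F n}
    (h : u.1 * mono σ t * v.1 = u'.1 * mono σ' t' * v'.1) : σ = σ' ∧ t = t' := by
  have h1 : (u'⁻¹ * u).1 * mono σ t = mono σ' t' * (v' * v⁻¹).1 := by
    change (u'.1)⁻¹ * u.1 * mono σ t = mono σ' t' * (v'.1 * (v.1)⁻¹)
    rw [mul_assoc, ← mul_assoc (mono σ' t'), eq_mul_inv_iff_mul_eq, mul_assoc, inv_mul_eq_iff_eq_mul,
      ← mul_assoc]
    exact h
  set a := u'⁻¹ * u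
  set b := v' * v⁻¹
  have h2 := congrArg (fun x : GL (Fin n) F => (x : Matrix (Fin n) (Fin n) F)) h1
  simp only [Units.val_mul] at h2
  have hkey : ∀ j, (t j : F) = t' (σ'.symm (σ j)) * (b.1 : Matrix (Fin n) (Fin n) F) (σ'.symm (σ j)) j := by
    intro j
    have := congrFun (congrFun h2 (σ j)) j
    rw [mul_mono, mono_mul, a.2.apply_eq, one_mul] at this
    exact this
  have hle : ∀ j, σ'.symm (σ j) ≤ j := by
    intro j
    by_contra hlt
    have := hkey j
    rw [b.2.apply_lt (not_le.mp hlt), mul_zero] at this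
    exact (t j).ne_zero this
  have hid : ∀ j, σ'.symm (σ j) = j := by
    intro j
    induction hj : j.val using Nat.strong_induction_on generalizing j with
    | _ m ih =>
      subst hj
      by_contra hne
      have hlt : (σ'.symm (σ j)).val < j.val := by
        have h1 := Fin.le_def.mp (hle j)
        have h2 : (σ'.symm (σ j)).val ≠ j.val := fun e => hne (Fin.ext e)
        omega
      have := ih _ hlt (σ'.symm (σ j)) rfl
      exact hne (σ.injective (σ'.symm.injective this))
  refine ⟨Equiv.ext fun j => ?_, funext fun j => Units.ext ?_⟩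
  · rw [← σ'.apply_symm_apply (σ j), hid]
  · rw [hkey j, hid, b.2.apply_eq, mul_one]

/-! ### Compatibility with the generic character -/

theorem psi_compat {σ : Equiv.Perm (Fin n)} {t : Fin n → Fˣ} (hR : Relevant σ t) (θ : AddChar F ℂ)
    {u v : uni F n} (h : u.1 * mono σ t = mono σ t * v.1) : psi θ u = psi θ v := by
  have h2 := (comm_iff σ t _ _).mp (congrArg (fun x : GL (Fin n) F => (x : Matrix (Fin n) (Fin n) F)) h)
  change θ (sup1 _) = θ (sup1 _)
  congr 1
  simp only [sup1]
  rw [← Equiv.sum_comp σ]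
  refine Finset.sum_congr rfl fun i _ => ?_
  rw [← Equiv.sum_comp σ]
  refine Finset.sum_congr rfl fun j _ => ?_
  have hij := h2 i j
  by_cases h1 : (σ j).val = (σ i).val + 1
  · rw [if_pos h1]
    rcases lt_trichotomy i.val j.val with hlt | heq | hgt
    · have hj := hR.2 i j h1 hlt
      rw [if_pos hj]
      rcases hR.1 i j hj with hd | ⟨-, ht⟩
      · omega
      · rw [ht, mul_comm] at hij
        exact mul_left_cancel₀ (t j).ne_zero hij
    · rw [Fin.ext heq] at h1
      omega
    · rw [if_neg (by omega)]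
      rw [v.2.apply_lt (Fin.lt_def.mpr hgt), mul_zero] at hij
      exact (mul_eq_zero.mp hij).resolve_right (t j).ne_zero
  · rw [if_neg h1]
    by_cases hj : j.val = i.val + 1
    · rw [if_pos hj]
      rcases hR.1 i j hj with hd | ⟨hu, -⟩
      · rw [u.2.apply_lt (Fin.lt_def.mpr hd), zero_mul] at hij
        exact ((mul_eq_zero.mp hij.symm).resolve_left (t i).ne_zero).symm
      · exact absurd hu h1
    · rw [if_neg hj]

theorem exists_mismatch {σ : Equiv.Perm (Fin n)} {t : Fin n → Fˣ} (hR : ¬ Relevant σ t)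
    (θ : AddChar F ℂ) (hθ : θ ≠ 0) :
    ∃ u v : uni F n, u.1 * mono σ t = mono σ t * v.1 ∧ psi θ u ≠ psi θ v := by
  obtain ⟨x0, hx0⟩ := AddChar.ne_zero_iff.mp hθ
  -- elementary elements
  have helem : ∀ (i j : Fin n) (a : F), i < j → ∃ w : uni F n,
      (w.1 : Matrix (Fin n) (Fin n) F) = 1 + Matrix.single i j a ∧
        psi θ w = θ (if j.val = i.val + 1 then a else 0) := by
    intro i j a hij
    have hM : IsUni (1 + Matrix.single i j a) := by
      intro k l hlk
      rw [Matrix.add_apply, Matrix.single_apply, if_neg, add_zero, Matrix.one_apply]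
      rintro ⟨rfl, rfl⟩
      exact absurd hlk (not_le.mpr hij)
    have hdet : (1 + Matrix.single i j a).det = 1 := by
      rw [Matrix.det_of_isUpperTriangular (M := 1 + Matrix.single i j a)
        (fun k l hkl => hM.apply_lt hkl)]
      exact Finset.prod_eq_one fun k _ => hM.apply_eq k
    refine ⟨⟨Matrix.GeneralLinearGroup.mkOfDetNeZero (1 + Matrix.single i j a)
      (hdet.symm ▸ one_ne_zero), hM⟩, rfl, ?_⟩
    change θ (sup1 (1 + Matrix.single i j a)) = _
    congr 1
    rw [sup1, Finset.sum_eq_single i, Finset.sum_eq_single j]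
    · split_ifs with h
      · simp [Matrix.one_apply_ne hij.ne]
      · rfl
    · intro l _ hl
      split_ifs with h
      · rw [Matrix.add_apply, Matrix.one_apply_ne fun e => by rw [e] at h; omega,
          Matrix.single_apply, if_neg fun e => hl e.2.symm, add_zero]
      · rfl
    · simp
    · intro k _ hk
      refine Finset.sum_eq_zero fun l _ => ?_
      split_ifs with h
      · rw [Matrix.add_apply, Matrix.one_apply_ne fun e => by rw [e] at h; omega,
          Matrix.single_apply, if_neg fun e => hk e.1.symm, add_zero]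
      · rfl
    · simp
  -- the mismatching pair
  have hpair : ∃ i j : Fin n, i < j ∧ σ i < σ j ∧
      ((j.val = i.val + 1 ∧ ((σ j).val ≠ (σ i).val + 1 ∨ t i ≠ t j)) ∨
        (j.val ≠ i.val + 1 ∧ (σ j).val = (σ i).val + 1)) := by
    rw [Relevant, not_and_or] at hR
    rcases hR with h | h
    · push Not at h
      obtain ⟨i, j, hij, h1, h2⟩ := h
      have hne : (σ i).val ≠ (σ j).val := fun e => by
        have := congrArg Fin.val (σ.injective (Fin.ext e))
        omega
      refine ⟨i, j, Fin.lt_def.mpr (by omega), Fin.lt_def.mpr (by omega), Or.inl ⟨hij, ?_⟩⟩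
      by_cases h3 : (σ j).val = (σ i).val + 1
      · exact Or.inr (h2 h3)
      · exact Or.inl h3
    · push Not at h
      obtain ⟨i, j, h1, h2, h3⟩ := h
      exact ⟨i, j, Fin.lt_def.mpr h2, Fin.lt_def.mpr (by omega), Or.inr ⟨h3, h1⟩⟩
  obtain ⟨i, j, hij, hσ, hcase⟩ := hpair
  have hcomm : ∀ a : F, ∃ u v : uni F n, u.1 * mono σ t = mono σ t * v.1 ∧
      psi θ u = θ (if (σ j).val = (σ i).val + 1 then a else 0) ∧
      psi θ v = θ (if j.val = i.val + 1 then a * t j / t i else 0) := by
    intro a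
    obtain ⟨u, hu, hu'⟩ := helem (σ i) (σ j) a hσ
    obtain ⟨v, hv, hv'⟩ := helem i j (a * t j / t i) hij
    refine ⟨u, v, Units.ext ?_, hu', hv'⟩
    rw [Units.val_mul, Units.val_mul, comm_iff]
    intro k l
    rw [hu, hv]
    simp only [Matrix.add_apply, Matrix.one_apply, Matrix.single_apply,
      σ.injective.eq_iff, EmbeddingLike.apply_eq_iff_eq]
    by_cases h1 : i = k ∧ j = l
    · obtain ⟨rfl, rfl⟩ := h1
      simp only [and_self, if_true, if_neg hij.ne]
      field_simp
      simp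
    · rw [if_neg h1, if_neg h1]
      simp only [add_zero]
      split_ifs with h2
      · subst h2
        ring
      · simp
  rcases hcase with ⟨hj, hne | hne⟩ | ⟨hj, heq⟩
  · obtain ⟨u, v, h1, h2, h3⟩ := hcomm (x0 * t i / t j)
    refine ⟨u, v, h1, ?_⟩
    rw [h2, h3, if_neg hne, if_pos hj, AddChar.map_zero_eq_one,
      show x0 * (t i : F) / t j * t j / t i = x0 by field_simp]
    exact Ne.symm hx0
  · by_cases h0 : (σ j).val = (σ i).val + 1
    · set r : F := (t j : F) / t i with hr
      have hr1 : 1 - r ≠ 0 := by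
        intro h
        apply hne
        have h' : r = 1 := (sub_eq_zero.mp h).symm
        rw [hr, div_eq_one_iff_eq (t i).ne_zero] at h'
        exact (Units.ext h').symm
      obtain ⟨u, v, h1, h2, h3⟩ := hcomm (x0 / (1 - r))
      refine ⟨u, v, h1, fun e => hx0 ?_⟩
      rw [h2, h3, if_pos h0, if_pos hj, mul_div_assoc, ← hr] at e
      have hsplit : x0 / (1 - r) = x0 / (1 - r) * r + x0 := by
        field_simp
        ring
      conv_lhs at e => rw [hsplit, θ.map_add_eq_mul]
      have hne0 : θ (x0 / (1 - r) * r) ≠ 0 := (θ.val_isUnit _).ne_zero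
      exact mul_left_cancel₀ hne0 (e.trans (mul_one _).symm)
    · obtain ⟨u, v, h1, h2, h3⟩ := hcomm (x0 * t i / t j)
      refine ⟨u, v, h1, ?_⟩
      rw [h2, h3, if_neg h0, if_pos hj, AddChar.map_zero_eq_one,
        show x0 * (t i : F) / t j * t j / t i = x0 by field_simp]
      exact Ne.symm hx0
  · obtain ⟨u, v, h1, h2, h3⟩ := hcomm x0
    refine ⟨u, v, h1, ?_⟩
    rw [h2, h3, if_pos heq, if_neg hj, AddChar.map_zero_eq_one]
    exact hx0

/-! ### The norm of the Gelfand-Graev character -/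

/-- The Gelfand-Graev character. -/
noncomputable def ggraev (θ : AddChar F ℂ) (n : ℕ) : GL (Fin n) F → ℂ :=
  indFun (uni F n) (fun u => psi θ u)

theorem isCharacter_psi (θ : AddChar F ℂ) : IsCharacter (uni F n) (fun u => psi θ u) := by
  let ρ : Representation ℂ (uni F n) ℂ :=
    { toFun := fun u => psi θ u • LinearMap.id
      map_one' := by simp only [map_one, one_smul]; rfl
      map_mul' := fun u v => by
        refine LinearMap.ext fun x => ?_
        simp [mul_assoc, mul_left_comm] }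
  have e : (fun u => psi θ u) = ρ.character := by
    funext u
    change _ = LinearMap.trace ℂ ℂ (psi θ u • LinearMap.id)
    rw [map_smul, LinearMap.trace_id, finrank_self, Nat.cast_one, smul_eq_mul, mul_one]
  rw [e]
  exact isCharacter_character ρ

/-- The coefficient in the Gelfand-Graev character. -/
noncomputable def gco {n : ℕ} (θ : AddChar F ℂ) (χ : IrrCharacter (GL (Fin n) F)) : ℕ :=
  (classInner_natCast (isCharacter_psi (n := n) θ)
    (isCharacter_comp (uni F n).subtype (irr_isCharacter χ.2))).choose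

theorem gco_spec (θ : AddChar F ℂ) (χ : IrrCharacter (GL (Fin n) F)) :
    classInner (fun u => psi θ u) (fun u : uni F n => (χ : GL (Fin n) F → ℂ) u) = gco θ χ :=
  (classInner_natCast (isCharacter_psi (n := n) θ)
    (isCharacter_comp (uni F n).subtype (irr_isCharacter χ.2))).choose_spec

theorem gco_eq (θ : AddChar F ℂ) (χ : IrrCharacter (GL (Fin n) F)) :
    (gco θ χ : ℂ) = (Nat.card (uni F n) : ℂ)⁻¹ * ∑ u : uni F n, conj (psi θ u) * (χ : _ → ℂ) u.1 := by
  rw [← Complex.conj_natCast (gco θ χ), ← gco_spec, classInner, map_mul, map_inv₀,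
    Complex.conj_natCast, map_sum]
  congr 1
  refine Finset.sum_congr rfl fun u _ => ?_
  rw [map_mul, Complex.conj_conj]

theorem ggraev_sq (θ : AddChar F ℂ) :
    ∑ χ : IrrCharacter (GL (Fin n) F), ((gco θ χ * gco θ χ : ℕ) : ℂ) =
      classInner (ggraev θ n) (ggraev θ n) := by
  have hc : IsClassFunction (GL (Fin n) F) (ggraev θ n) := isClassFunction_indFun _ _
  have hcoef : ∀ χ : IrrCharacter (GL (Fin n) F),
      classInner (ggraev θ n) (χ : GL (Fin n) F → ℂ) = gco θ χ := fun χ => by
    rw [ggraev, Cfsg.Agent.Char.frobenius _ _ (isClassFunction_character (irr_isCharacter χ.2)), gco_spec]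
  conv_rhs => arg 1; rw [classFun_expansion hc]
  rw [classInner_sum_left]
  refine Finset.sum_congr rfl fun χ _ => ?_
  rw [classInner_smul_left, hcoef, ← classInner_symm, hcoef, Complex.conj_natCast, Nat.cast_mul]

/-- The inner sum at one element. -/
noncomputable def bsum (θ : AddChar F ℂ) (x : GL (Fin n) F) : ℂ :=
  ∑ u : uni F n, psi θ u *
    conj (extendByZero (uni F n) (fun u => psi θ u) (x⁻¹ * u.1 * x))

theorem classInner_ggraev (θ : AddChar F ℂ) :
    classInner (ggraev θ n) (ggraev θ n) =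
      ((Nat.card (uni F n) : ℂ)⁻¹) ^ 2 * ∑ x : GL (Fin n) F, bsum θ x := by
  rw [ggraev, Cfsg.Agent.Char.frobenius _ _ (isClassFunction_indFun _ _), classInner]
  simp only [indFun, map_mul, map_inv₀, Complex.conj_natCast, map_sum, bsum, Finset.mul_sum]
  rw [Finset.sum_comm]
  refine Finset.sum_congr rfl fun x _ => Finset.sum_congr rfl fun u _ => ?_
  ring

theorem psi_mul_conj (θ : AddChar F ℂ) (u : uni F n) : psi θ u * conj (psi θ u) = 1 := by
  have h : psi θ u ^ Nat.card (uni F n) = 1 := by rw [← map_pow, pow_card_eq_one', map_one]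
  have hn : ‖psi θ u‖ = 1 := Complex.norm_eq_one_of_pow_eq_one h Nat.card_pos.ne'
  rw [Complex.mul_conj, Complex.normSq_eq_norm_sq, hn]
  simp

theorem bsum_translate (θ : AddChar F ℂ) (x : GL (Fin n) F) (a b : uni F n) :
    bsum θ (a.1 * x * b.1) = bsum θ x := by
  refine (Fintype.sum_equiv (MulAut.conj a).toEquiv _ _ fun u => ?_).symm
  rw [show (MulAut.conj a).toEquiv u = a * u * a⁻¹ from rfl, psi_conj]
  congr 2
  have e : (a.1 * x * b.1)⁻¹ * (a * u * a⁻¹ : uni F n).1 * (a.1 * x * b.1) =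
      b.1⁻¹ * (x⁻¹ * u.1 * x) * b.1 := by
    change _ * (a.1 * u.1 * a.1⁻¹) * _ = _
    group
  rw [e]
  by_cases hm : x⁻¹ * u.1 * x ∈ uni F n
  · rw [extendByZero_mem _ _ hm, extendByZero_mem _ _
      (mul_mem (mul_mem (inv_mem b.2) hm) b.2)]
    have e2 : (⟨b.1⁻¹ * (x⁻¹ * u.1 * x) * b.1, mul_mem (mul_mem (inv_mem b.2) hm) b.2⟩ : uni F n) =
        b⁻¹ * ⟨x⁻¹ * u.1 * x, hm⟩ * b⁻¹⁻¹ := Subtype.ext (by simp)
    rw [e2, psi_conj]
  · rw [extendByZero_not_mem _ _ hm, extendByZero_not_mem]
    intro h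
    apply hm
    have := mul_mem (mul_mem b.2 h) (inv_mem b.2)
    convert this using 1
    group

/-- The stabiliser of a double coset representative. -/
noncomputable def bstab (x : GL (Fin n) F) : Finset (uni F n) :=
  Finset.univ.filter fun u => x⁻¹ * u.1 * x ∈ uni F n

theorem bsum_mono (θ : AddChar F ℂ) (hθ : θ ≠ 0) (σ : Equiv.Perm (Fin n)) (t : Fin n → Fˣ) :
    bsum θ (mono σ t) = if Relevant σ t then ((bstab (mono σ t)).card : ℂ) else 0 := by
  have hsub : bsum θ (mono σ t) = ∑ u ∈ bstab (mono σ t), psi θ u *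
      conj (extendByZero (uni F n) (fun u => psi θ u) ((mono σ t)⁻¹ * u.1 * mono σ t)) := by
    rw [bsum, bstab, Finset.sum_filter]
    refine Finset.sum_congr rfl fun u _ => ?_
    split_ifs with h
    · rfl
    · rw [extendByZero_not_mem _ _ h, map_zero, mul_zero]
  rw [hsub]
  by_cases hR : Relevant σ t
  · rw [if_pos hR, Finset.card_eq_sum_ones, Nat.cast_sum, Nat.cast_one]
    refine Finset.sum_congr rfl fun u hu => ?_
    simp only [bstab, Finset.mem_filter, Finset.mem_univ, true_and] at hu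
    rw [extendByZero_mem _ _ hu, ← psi_compat hR θ (u := u) (v := ⟨_, hu⟩) (by group),
      psi_mul_conj]
  · rw [if_neg hR]
    obtain ⟨z, z', hz, hne⟩ := exists_mismatch hR θ hθ
    have hz' : (mono σ t)⁻¹ * z.1 * mono σ t = z'.1 := by rw [mul_assoc, hz, inv_mul_cancel_left]
    set S := ∑ u ∈ bstab (mono σ t), psi θ u *
      conj (extendByZero (uni F n) (fun u => psi θ u) ((mono σ t)⁻¹ * u.1 * mono σ t)) with hS
    have hmem : ∀ u, u ∈ bstab (mono σ t) ↔ u * z ∈ bstab (mono σ t) := by
      intro u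
      simp only [bstab, Finset.mem_filter, Finset.mem_univ, true_and]
      have e : (mono σ t)⁻¹ * (u * z).1 * mono σ t = (mono σ t)⁻¹ * u.1 * mono σ t * z'.1 := by
        rw [← hz']
        change _ * (u.1 * z.1) * _ = _
        group
      rw [e]
      exact ⟨fun h => mul_mem h z'.2, fun h => by simpa using mul_mem h (inv_mem z'.2)⟩
    have hshift : S = psi θ z * conj (psi θ z') * S := by
      conv_rhs => rw [hS, Finset.mul_sum]
      rw [hS]
      symm
      refine Finset.sum_equiv (Equiv.mulRight z) hmem fun u hu => ?_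
      simp only [bstab, Finset.mem_filter, Finset.mem_univ, true_and] at hu
      have e : (mono σ t)⁻¹ * (u * z).1 * mono σ t = (mono σ t)⁻¹ * u.1 * mono σ t * z'.1 := by
        rw [← hz']
        change _ * (u.1 * z.1) * _ = _
        group
      rw [Equiv.coe_mulRight, e, extendByZero_mem _ _ hu, extendByZero_mem _ _ (mul_mem hu z'.2),
        map_mul (psi θ), show (⟨_, mul_mem hu z'.2⟩ : uni F n) = ⟨_, hu⟩ * z' from rfl, map_mul,
        map_mul]
      ring
    have h1 : (1 - psi θ z * conj (psi θ z')) * S = 0 := by rw [sub_mul, one_mul, ← hshift, sub_self]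
    refine (mul_eq_zero.mp h1).resolve_left fun h => hne ?_
    rw [sub_eq_zero] at h
    calc psi θ z = psi θ z * (psi θ z' * conj (psi θ z')) := by rw [psi_mul_conj, mul_one]
      _ = psi θ z' := by
        rw [mul_left_comm, ← h, mul_one]

/-- The norm of the Gelfand-Graev character. -/
theorem classInner_ggraev_eq (θ : AddChar F ℂ) (hθ : θ ≠ 0) :
    classInner (ggraev θ n) (ggraev θ n) =
      (Nat.card {p : Equiv.Perm (Fin n) × (Fin n → Fˣ) // Relevant p.1 p.2} : ℂ) := by
  rw [classInner_ggraev]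
  choose σ t u v hg using exists_decomp (F := F) (n := n)
  let key : GL (Fin n) F → Equiv.Perm (Fin n) × (Fin n → Fˣ) := fun g => (σ g, t g)
  have hkey : ∀ (a b : uni F n) p, key (a.1 * mono p.1 p.2 * b.1) = p := fun a b p => by
    obtain ⟨h1, h2⟩ := decomp_unique (hg (a.1 * mono p.1 p.2 * b.1)).symm
    exact Prod.ext h1 h2
  rw [← Finset.sum_fiberwise (g := key)]
  have hfib : ∀ p : Equiv.Perm (Fin n) × (Fin n → Fˣ),
      ∑ x ∈ Finset.univ.filter (fun x => key x = p), bsum θ x =
        if Relevant p.1 p.2 then (Nat.card (uni F n) : ℂ) ^ 2 else 0 := by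
    intro p
    set m := mono (F := F) p.1 p.2 with hm
    set X := Finset.univ.filter (fun x => key x = p) with hX
    have hval : ∀ x ∈ X, bsum θ x = bsum θ m := by
      intro x hx
      simp only [hX, Finset.mem_filter, Finset.mem_univ, true_and] at hx
      rw [hg x, bsum_translate, show σ x = p.1 from congrArg Prod.fst hx,
        show t x = p.2 from congrArg Prod.snd hx]
    have hcard : X.card * (bstab m).card = Nat.card (uni F n) ^ 2 := by
      have hmap : ∀ ab : uni F n × uni F n, ab.1.1 * m * ab.2.1 ∈ X := fun ab => by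
        simp only [hX, Finset.mem_filter, Finset.mem_univ, true_and]
        exact hkey ab.1 ab.2 p
      rw [Nat.card_eq_fintype_card, sq, ← Fintype.card_prod, ← Finset.card_univ,
        Finset.card_eq_sum_card_fiberwise (f := fun ab : uni F n × uni F n => ab.1.1 * m * ab.2.1)
          (s := Finset.univ) (t := X) (fun ab _ => hmap ab), ← smul_eq_mul, ← Finset.sum_const]
      refine Finset.sum_congr rfl fun x hx => ?_
      simp only [hX, Finset.mem_filter, Finset.mem_univ, true_and] at hx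
      have hx' : x = (u x).1 * m * (v x).1 := by
        rw [hm, ← show σ x = p.1 from congrArg Prod.fst hx, ← show t x = p.2 from congrArg Prod.snd hx]
        exact hg x
      refine Finset.card_bij (fun s hs => (u x * s,
        (⟨m⁻¹ * s.1 * m, (Finset.mem_filter.mp hs).2⟩ : uni F n)⁻¹ * v x)) ?_ ?_ ?_
      · intro s hs
        simp only [Finset.mem_filter, Finset.mem_univ, true_and]
        change ((u x).1 * s.1) * m * ((m⁻¹ * s.1 * m)⁻¹ * (v x).1) = x
        conv_rhs => rw [hx']
        group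
      · intro s hs s' hs' e
        exact mul_left_cancel (congrArg Prod.fst e)
      · rintro ⟨a, b⟩ hab
        simp only [Finset.mem_filter, Finset.mem_univ, true_and] at hab
        have e : m⁻¹ * ((u x)⁻¹ * a : uni F n).1 * m = (v x * b⁻¹ : uni F n).1 := by
          change m⁻¹ * ((u x).1⁻¹ * a.1) * m = (v x).1 * b.1⁻¹
          rw [hx'] at hab
          rw [eq_mul_inv_iff_mul_eq]
          calc m⁻¹ * ((u x).1⁻¹ * a.1) * m * b.1 = m⁻¹ * (u x).1⁻¹ * (a.1 * m * b.1) := by group
            _ = (v x).1 := by rw [hab]; group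
        refine ⟨(u x)⁻¹ * a, Finset.mem_filter.mpr ⟨Finset.mem_univ _, ?_⟩,
          Prod.ext (mul_inv_cancel_left _ _) ?_⟩
        · rw [e]
          exact (v x * b⁻¹).2
        · simp only
          rw [show (⟨m⁻¹ * ((u x)⁻¹ * a : uni F n).1 * m, _⟩ : uni F n) = v x * b⁻¹ from Subtype.ext e]
          group
    rw [Finset.sum_congr rfl hval, Finset.sum_const, nsmul_eq_mul, bsum_mono θ hθ]
    split_ifs
    · rw [← Nat.cast_pow, ← hcard, Nat.cast_mul]
    · rw [mul_zero]
  rw [Finset.sum_congr rfl fun p _ => hfib p, ← Finset.sum_filter, Finset.sum_const, nsmul_eq_mul,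
    ← Fintype.card_subtype, ← Nat.card_eq_fintype_card]
  have hc : (Nat.card (uni F n) : ℂ) ≠ 0 := Nat.cast_ne_zero.mpr Nat.card_pos.ne'
  field_simp

/-! ### Multiplicity one -/

/-- The antidiagonal transpose. -/
def iot (M : Matrix (Fin n) (Fin n) F) : Matrix (Fin n) (Fin n) F :=
  Matrix.of fun i j => M j.rev i.rev

theorem iot_mul (M M' : Matrix (Fin n) (Fin n) F) : iot (M * M') = iot M' * iot M := by
  ext i j
  simp only [iot, Matrix.of_apply, Matrix.mul_apply]
  exact Fintype.sum_equiv Fin.revPerm _ _ fun k => by simp [mul_comm]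

theorem iot_one : iot (1 : Matrix (Fin n) (Fin n) F) = 1 := by
  ext i j
  simp [iot, Matrix.one_apply, eq_comm]

/-- The antidiagonal transpose on units. -/
def iotGL (g : GL (Fin n) F) : GL (Fin n) F :=
  ⟨iot (g : Matrix (Fin n) (Fin n) F), iot ((g⁻¹ : GL (Fin n) F) : Matrix (Fin n) (Fin n) F),
    by rw [← iot_mul, ← Units.val_mul, inv_mul_cancel, Units.val_one, iot_one],
    by rw [← iot_mul, ← Units.val_mul, mul_inv_cancel, Units.val_one, iot_one]⟩

theorem iotGL_mul (g h : GL (Fin n) F) : iotGL (g * h) = iotGL h * iotGL g :=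
  Units.ext (iot_mul _ _)

theorem iotGL_uni (u : uni F n) : iotGL u.1 ∈ uni F n := by
  intro i j hji
  change (u.1 : Matrix (Fin n) (Fin n) F) j.rev i.rev = _
  rw [u.2 j.rev i.rev (Fin.rev_le_rev.mpr hji)]
  simp [eq_comm]

theorem psi_iot (θ : AddChar F ℂ) (u : uni F n) : psi θ ⟨iotGL u.1, iotGL_uni u⟩ = psi θ u := by
  change θ (sup1 (iot (u.1 : Matrix (Fin n) (Fin n) F))) = θ (sup1 _)
  congr 1
  simp only [sup1, iot, Matrix.of_apply]
  rw [Finset.sum_comm]
  refine Fintype.sum_equiv Fin.revPerm _ _ fun j => Fintype.sum_equiv Fin.revPerm _ _ fun i => ?_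
  simp only [Fin.revPerm_apply, Fin.val_rev]
  have := i.2
  have := j.2
  split_ifs <;> first | rfl | omega

theorem iotGL_mono {σ : Equiv.Perm (Fin n)} {t : Fin n → Fˣ} (hR : Relevant σ t) :
    iotGL (mono σ t) = mono σ t := by
  apply Units.ext
  ext i j
  change (mono σ t : Matrix (Fin n) (Fin n) F) j.rev i.rev = _
  rw [mono_apply, mono_apply]
  obtain ⟨h1, h2⟩ := hR.symm_rev j
  by_cases h : i = σ j
  · subst h
    rw [if_pos rfl, if_pos h1.symm, h2]
  · rw [if_neg h, if_neg]
    intro e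
    rw [← h1] at e
    exact h (Fin.rev_injective (σ.injective e)).symm

/-- Schur: averages of rank one. -/
theorem sum_rep_rankOne {G : Type*} [Group G] [Fintype G] {V : Type*} [AddCommGroup V] [Module ℂ V]
    [FiniteDimensional ℂ V] (ρ : Representation ℂ G V) [ρ.IsIrreducible] (v : V) (f : V →ₗ[ℂ] ℂ)
    (w : V) : (finrank ℂ V : ℂ) • ∑ g : G, f (ρ g w) • ρ g⁻¹ v =
      ((Fintype.card G : ℂ) * f v) • w := by
  set T : V →ₗ[ℂ] V := ∑ g : G, ρ g⁻¹ * (f.smulRight v * ρ g) with hT
  have hcomm : ∀ k x, T (ρ k x) = ρ k (T x) := by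
    intro k x
    simp only [hT, LinearMap.sum_apply, map_sum]
    refine Fintype.sum_equiv (Equiv.mulRight k) _ _ fun g => ?_
    simp only [Equiv.coe_mulRight, Module.End.mul_apply, LinearMap.smulRight_apply, map_smul,
      mul_inv_rev, map_mul]
    rw [← Module.End.mul_apply (ρ k) (ρ k⁻¹), ← map_mul, mul_inv_cancel, map_one, Module.End.one_apply]
  let Ti : ρ.IntertwiningMap ρ := T.intertwiningMap_of_isIntertwiningMap ρ ρ hcomm
  obtain ⟨c, hc⟩ :=
    (Representation.IsIrreducible.algebraMap_intertwiningMap_bijective_of_isAlgClosed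
      (ρ := ρ) (k := ℂ)).2 Ti
  have hTc : T = c • LinearMap.id := by
    ext x
    have := congrArg (fun F : ρ.IntertwiningMap ρ => F x) hc
    rw [show T x = Ti x from rfl, ← this]
    rfl
  have htr : LinearMap.trace ℂ V T = (Fintype.card G : ℂ) * f v := by
    rw [hT, map_sum]
    have : ∀ g : G, LinearMap.trace ℂ V (ρ g⁻¹ * (f.smulRight v * ρ g)) = f v := by
      intro g
      rw [LinearMap.trace_mul_comm, mul_assoc, ← map_mul, mul_inv_cancel, map_one, mul_one,
        LinearMap.trace_smulRight]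
    simp [this]
  rw [hTc, map_smul, LinearMap.trace_id, smul_eq_mul] at htr
  have := congrArg (fun S : V →ₗ[ℂ] V => S w) hTc
  simp only [hT, LinearMap.sum_apply, Module.End.mul_apply, LinearMap.smulRight_apply, map_smul,
    LinearMap.smul_apply, LinearMap.id_apply] at this
  rw [this, smul_smul, ← htr, mul_comm]

theorem gco_le_one (θ : AddChar F ℂ) (hθ : θ ≠ 0) (χ : IrrCharacter (GL (Fin n) F)) :
    gco θ χ ≤ 1 := by
  have hg := gco_eq θ χ
  obtain ⟨χ, d, ρ, hirr, rfl⟩ := χ
  set N := (Nat.card (uni F n) : ℂ) with hN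
  have hN0 : N ≠ 0 := Nat.cast_ne_zero.mpr Nat.card_pos.ne'
  set e : (Fin d → ℂ) →ₗ[ℂ] (Fin d → ℂ) := N⁻¹ • ∑ u : uni F n, conj (psi θ u) • ρ u.1 with he
  have hsum : ∀ a : uni F n, ρ a.1 * (∑ u : uni F n, conj (psi θ u) • ρ u.1) =
      psi θ a • ∑ u : uni F n, conj (psi θ u) • ρ u.1 := by
    intro a
    rw [Finset.mul_sum, Finset.smul_sum]
    refine Fintype.sum_equiv (Equiv.mulLeft a) _ _ fun u => ?_
    simp only [Equiv.coe_mulLeft, Subgroup.coe_mul, map_mul, mul_smul_comm, smul_smul]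
    rw [← mul_assoc (psi θ a), psi_mul_conj, one_mul]
  have hsum' : ∀ a : uni F n, (∑ u : uni F n, conj (psi θ u) • ρ u.1) * ρ a.1 =
      psi θ a • ∑ u : uni F n, conj (psi θ u) • ρ u.1 := by
    intro a
    rw [Finset.sum_mul, Finset.smul_sum]
    refine Fintype.sum_equiv (Equiv.mulRight a) _ _ fun u => ?_
    simp only [Equiv.coe_mulRight, Subgroup.coe_mul, map_mul, smul_mul_assoc, smul_smul]
    rw [mul_left_comm, psi_mul_conj, mul_one]
  have hleft : ∀ a : uni F n, ρ a.1 * e = psi θ a • e := fun a => by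
    rw [he, mul_smul_comm, hsum, smul_comm]
  have hright : ∀ a : uni F n, e * ρ a.1 = psi θ a • e := fun a => by
    rw [he, smul_mul_assoc, hsum', smul_comm]
  have hee : IsIdempotentElem e := by
    change e * e = e
    nth_rw 1 [he]
    rw [smul_mul_assoc, Finset.sum_mul]
    simp only [smul_mul_assoc, hleft, smul_smul, mul_comm (conj _) (psi θ _), psi_mul_conj, one_smul,
      Finset.sum_const, Finset.card_univ]
    rw [← Nat.cast_smul_eq_nsmul ℂ, smul_smul, ← Nat.card_eq_fintype_card, ← hN,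
      inv_mul_cancel₀ hN0, one_smul]
  -- the sandwiched operators
  let K : GL (Fin n) F → ((Fin d → ℂ) →ₗ[ℂ] (Fin d → ℂ)) := fun g => e * ρ g * e
  have hK : ∀ (a b : uni F n) g, K (a.1 * g * b.1) = (psi θ a * psi θ b) • K g := by
    intro a b g
    simp only [K, map_mul]
    calc e * (ρ a.1 * ρ g * ρ b.1) * e = (e * ρ a.1) * ρ g * (ρ b.1 * e) := by
          simp only [mul_assoc]
      _ = _ := by
          rw [hright, hleft, smul_mul_assoc, smul_mul_assoc, mul_smul_comm, smul_smul,
            mul_comm (psi θ a) (psi θ b)]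
  have hirrel : ∀ σ t, ¬ Relevant σ t → K (mono σ t) = 0 := by
    intro σ t hR
    obtain ⟨z, z', hz, hne⟩ := exists_mismatch hR θ hθ
    have h1 := hK z 1 (mono σ t)
    have h2 := hK 1 z' (mono σ t)
    simp only [OneMemClass.coe_one, mul_one, one_mul, map_one] at h1 h2
    rw [hz, h2] at h1
    by_contra h
    exact hne (smul_left_injective ℂ h h1.symm)
  have hiota : ∀ g, K (iotGL g) = K g := by
    intro g
    obtain ⟨σ, t, a, b, rfl⟩ := exists_decomp g
    rw [hK]
    by_cases hR : Relevant σ t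
    · rw [iotGL_mul, iotGL_mul, iotGL_mono hR, ← mul_assoc]
      rw [show iotGL b.1 * mono σ t * iotGL a.1 =
        (⟨iotGL b.1, iotGL_uni b⟩ : uni F n).1 * mono σ t * (⟨iotGL a.1, iotGL_uni a⟩ : uni F n).1 from rfl,
        hK, psi_iot, psi_iot, mul_comm]
    · rw [hirrel σ t hR, smul_zero]
      obtain ⟨σ', t', a', b', h'⟩ := exists_decomp (iotGL (a.1 * mono σ t * b.1))
      rw [h', hK]
      by_cases hR' : Relevant σ' t'
      · exfalso
        apply hR
        have h2 := congrArg iotGL h'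
        rw [show iotGL (iotGL (a.1 * mono σ t * b.1)) = a.1 * mono σ t * b.1 from
          Units.ext (by ext i j; simp [iotGL, iot])] at h2
        rw [iotGL_mul, iotGL_mul, iotGL_mono hR', ← mul_assoc] at h2
        obtain ⟨rfl, rfl⟩ := decomp_unique (u := a) (v := b) (u' := ⟨iotGL b'.1, iotGL_uni b'⟩)
          (v' := ⟨iotGL a'.1, iotGL_uni a'⟩) h2
        exact hR'
      · rw [hirrel σ' t' hR', smul_zero]
  have hprod : ∀ x y, K x * K y = N⁻¹ • ∑ u : uni F n, conj (psi θ u) • K (x * u.1 * y) := by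
    intro x y
    calc K x * K y = e * ρ x * (e * e) * ρ y * e := by simp only [K, mul_assoc]
      _ = e * ρ x * e * ρ y * e := by rw [hee]
      _ = _ := by
        have he' : e * ρ x * e * ρ y * e =
            e * ρ x * (N⁻¹ • ∑ u : uni F n, conj (psi θ u) • ρ u.1) * ρ y * e := by rw [← he]
        simp only [K]
        rw [he']
        simp only [mul_smul_comm, smul_mul_assoc, Finset.mul_sum, Finset.sum_mul, map_mul, mul_assoc,
          Finset.smul_sum]
  have hcomm : ∀ x y, K x * K y = K y * K x := by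
    intro x y
    have h1 : K x * K y = K (iotGL y) * K (iotGL x) := by
      rw [hprod, hprod]
      congr 1
      refine Fintype.sum_equiv
        { toFun := fun u : uni F n => (⟨iotGL u.1, iotGL_uni u⟩ : uni F n)
          invFun := fun u : uni F n => (⟨iotGL u.1, iotGL_uni u⟩ : uni F n)
          left_inv := fun u => Subtype.ext (Units.ext (by ext i j; simp [iotGL, iot]))
          right_inv := fun u => Subtype.ext (Units.ext (by ext i j; simp [iotGL, iot])) } _ _
        fun u => ?_
      simp only [Equiv.coe_fn_mk, psi_iot]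
      rw [← hiota (x * u.1 * y), iotGL_mul, iotGL_mul, mul_assoc]
    rwa [hiota, hiota] at h1
  by_contra hgt
  have htr : LinearMap.trace ℂ _ e = (gco θ ⟨ρ.character, ⟨d, ρ, hirr, rfl⟩⟩ : ℂ) := by
    rw [hg, he, map_smul, map_sum, smul_eq_mul]
    congr 1
    refine Finset.sum_congr rfl fun u _ => ?_
    rw [map_smul, smul_eq_mul]
    rfl
  have hproj := LinearMap.IsProj.trace ((LinearMap.isProj_range_iff_isIdempotentElem e).mpr hee)
  have hrk : 1 < finrank ℂ (LinearMap.range e) := by
    rw [htr] at hproj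
    have : gco θ ⟨ρ.character, ⟨d, ρ, hirr, rfl⟩⟩ = finrank ℂ (LinearMap.range e) := by exact_mod_cast hproj
    omega
  let B := finBasis ℂ (LinearMap.range e)
  let j1 : Fin (finrank ℂ (LinearMap.range e)) := ⟨0, by omega⟩
  let j2 : Fin (finrank ℂ (LinearMap.range e)) := ⟨1, hrk⟩
  set v : Fin d → ℂ := (B j1 : Fin d → ℂ)
  set w : Fin d → ℂ := (B j2 : Fin d → ℂ)
  have hfix : ∀ x : LinearMap.range e, e (x : Fin d → ℂ) = x := by
    rintro ⟨x, y, rfl⟩
    exact LinearMap.congr_fun hee y
  obtain ⟨f, hfv, hfw⟩ : ∃ f : (Fin d → ℂ) →ₗ[ℂ] ℂ, f v = 0 ∧ f w = 1 := by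
    obtain ⟨f, hf⟩ := LinearMap.exists_extend (B.coord j2)
    refine ⟨f, ?_, ?_⟩
    · have := LinearMap.congr_fun hf (B j1)
      simpa [v, j1, j2, Fin.ext_iff] using this
    · have := LinearMap.congr_fun hf (B j2)
      simpa [w] using this
  obtain ⟨f', hfv'⟩ : ∃ f' : (Fin d → ℂ) →ₗ[ℂ] ℂ, f' v = 1 := by
    obtain ⟨f', hf'⟩ := LinearMap.exists_extend (B.coord j1)
    exact ⟨f', by simpa [v] using LinearMap.congr_fun hf' (B j1)⟩
  -- every operator is a combination of group elements
  have hspan : ∀ (f : (Fin d → ℂ) →ₗ[ℂ] ℂ) (z : Fin d → ℂ),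
      ∃ a : GL (Fin n) F → ℂ, ∀ x, ∑ g, a g • ρ g x = f x • z := by
    intro f z
    refine ⟨fun g => (Fintype.card (GL (Fin n) F) : ℂ)⁻¹ * (d : ℂ) * f (ρ g⁻¹ z), fun x => ?_⟩
    have hG : (Fintype.card (GL (Fin n) F) : ℂ) ≠ 0 := Nat.cast_ne_zero.mpr Fintype.card_ne_zero
    have h1 := sum_rep_rankOne ρ x f z
    rw [finrank_fin_fun, ← Equiv.sum_comp (Equiv.inv (GL (Fin n) F)), Finset.smul_sum] at h1
    simp only [Equiv.inv_apply, inv_inv] at h1
    have h2 := congrArg (fun y => (Fintype.card (GL (Fin n) F) : ℂ)⁻¹ • y) h1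
    simp only [Finset.smul_sum, smul_smul] at h2
    rw [← mul_assoc, inv_mul_cancel₀ hG, one_mul] at h2
    rw [← h2]
    exact Finset.sum_congr rfl fun g _ => by simp only [mul_assoc]
  obtain ⟨a, ha⟩ := hspan f v
  obtain ⟨b, hb⟩ := hspan f' w
  set A : (Fin d → ℂ) →ₗ[ℂ] (Fin d → ℂ) := ∑ g, a g • K g with hA
  set B' : (Fin d → ℂ) →ₗ[ℂ] (Fin d → ℂ) := ∑ g, b g • K g with hB
  have hAB : A * B' = B' * A := by
    simp only [hA, hB, Finset.sum_mul, Finset.mul_sum, smul_mul_assoc, mul_smul_comm, Finset.smul_sum,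
      smul_smul]
    rw [Finset.sum_comm]
    exact Finset.sum_congr rfl fun g _ => Finset.sum_congr rfl fun h _ => by
      rw [hcomm h g, mul_comm (b h)]
  have hev : ∀ (c : GL (Fin n) F → ℂ) (f : (Fin d → ℂ) →ₗ[ℂ] ℂ) (z : Fin d → ℂ),
      (∀ x, ∑ g, c g • ρ g x = f x • z) → ∀ x : LinearMap.range e,
        (∑ g, c g • K g) (x : Fin d → ℂ) = f x • e z := by
    intro c f z hc x
    simp only [K, LinearMap.sum_apply, LinearMap.smul_apply, Module.End.mul_apply]
    rw [hfix x]
    simp only [← map_smul e, ← map_sum e]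
    rw [hc, map_smul]
  have h1 := congrArg (fun T : (Fin d → ℂ) →ₗ[ℂ] (Fin d → ℂ) => T v) hAB
  simp only [Module.End.mul_apply, hA, hB] at h1
  rw [hev b f' w hb (B j1), hev a f v ha (B j1)] at h1
  rw [hfv, hfv', zero_smul, map_zero, one_smul, hfix (B j2), hev a f v ha (B j2), hfw, one_smul,
    hfix (B j1)] at h1
  exact B.ne_zero j1 (Subtype.ext h1)

end Cfsg.Agent.GLCusp
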