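import Mathlib

/-!
# Monic irreducible polynomials over a finite field, counted through their multisets

Multisets of monic irreducible polynomials different from `X` are monic polynomials with nonzero
constant term; weights on two types with equinumerous multisets have equinumerous fibres; there
are at least `φ (q ^ n - 1) / n` monic irreducible polynomials of degree `n`.
-/

set_option autoImplicit false
set_option linter.unusedSectionVars false

namespace Cfsg.Agent.GLCusp

open Polynomial UniqueFactorizationMonoid
open scoped Classical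

universe u v

/-! ### Weights with equinumerous multisets -/

section Match

variable {A : Type u} (w : A → ℕ)

/-- Multisets of total weight `k` in elements of weight less than `k`. -/
abbrev Small (k : ℕ) : Type u :=
  {t : Multiset {a : A // w a < k} // (t.map fun a => w a.1).sum = k}

theorem le_of_mem_weight {s : Multiset A} {a : A} (h : a ∈ s) : w a ≤ (s.map w).sum :=
  Multiset.le_sum_of_mem (Multiset.mem_map_of_mem w h)

theorem card_split (hw : ∀ a, 0 < w a) {k : ℕ} [Finite {s : Multiset A // (s.map w).sum = k}] :
    Finite {a : A // w a = k} ∧ Finite (Small w k) ∧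
      Nat.card {s : Multiset A // (s.map w).sum = k} =
        Nat.card {a : A // w a = k} + Nat.card (Small w k) := by
  let f : {a : A // w a = k} ⊕ Small w k → {s : Multiset A // (s.map w).sum = k} :=
    Sum.elim (fun a => ⟨{a.1}, by simp [a.2]⟩)
      (fun t => ⟨t.1.map Subtype.val, by rw [Multiset.map_map]; exact t.2⟩)
  have hinj : Function.Injective f := by
    have hno : ∀ (a : {a : A // w a = k}) (t : Small w k), ({a.1} : Multiset A) ≠ t.1.map Subtype.val := by
      intro a t e
      have hm : a.1 ∈ t.1.map Subtype.val := e ▸ Multiset.mem_singleton_self a.1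
      obtain ⟨b, -, hb⟩ := Multiset.mem_map.mp hm
      have h1 := b.2
      have h2 := a.2
      rw [hb] at h1
      omega
    rintro (a | t) (a' | t') e <;> simp only [f, Sum.elim_inl, Sum.elim_inr, Subtype.mk.injEq] at e
    · exact congrArg Sum.inl (Subtype.ext (Multiset.singleton_inj.mp e))
    · exact absurd e (hno a t')
    · exact absurd e.symm (hno a' t)
    · exact congrArg Sum.inr (Subtype.ext (Multiset.map_injective Subtype.val_injective e))
  have hsur : Function.Surjective f := by
    rintro ⟨s, hs⟩
    by_cases h : ∃ a ∈ s, w a = k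
    · obtain ⟨a, ha, hak⟩ := h
      obtain ⟨r, rfl⟩ := Multiset.exists_cons_of_mem ha
      rw [Multiset.map_cons, Multiset.sum_cons] at hs
      have hr : r = 0 := Multiset.eq_zero_of_forall_notMem fun b hb => by
        have := le_of_mem_weight w hb
        have := hw b
        omega
      exact ⟨Sum.inl ⟨a, hak⟩, Subtype.ext (by simp [f, hr])⟩
    · push Not at h
      have hlt : ∀ a ∈ s, w a < k := fun a ha =>
        lt_of_le_of_ne (hs ▸ le_of_mem_weight w ha) (h a ha)
      let t : Multiset {a : A // w a < k} := s.attach.map fun a => ⟨a.1, hlt a.1 a.2⟩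
      have e : t.map Subtype.val = s := by
        rw [Multiset.map_map]
        exact Multiset.attach_map_val s
      have ht := congrArg (fun r => (Multiset.map w r).sum) e
      simp only [Multiset.map_map] at ht
      have ht' : (t.map fun a => w a.1).sum = k := ht.trans hs
      exact ⟨Sum.inr ⟨t, ht'⟩, Subtype.ext e⟩
  haveI : Finite ({a : A // w a = k} ⊕ Small w k) := Finite.of_injective f hinj
  haveI h1 : Finite {a : A // w a = k} := Finite.of_injective _ (Sum.inl_injective (β := Small w k))
  haveI h2 : Finite (Small w k) := Finite.of_injective _ (Sum.inr_injective (α := {a : A // w a = k}))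
  exact ⟨h1, h2, by rw [← Nat.card_congr (Equiv.ofBijective f ⟨hinj, hsur⟩), Nat.card_sum]⟩

theorem card_fibre_eq {B : Type v} (w' : B → ℕ) (hw : ∀ a, 0 < w a) (hw' : ∀ b, 0 < w' b)
    (hfA : ∀ k, 0 < k → Finite {s : Multiset A // (s.map w).sum = k})
    (hfB : ∀ k, 0 < k → Finite {s : Multiset B // (s.map w').sum = k})
    (h : ∀ k, 0 < k → Nat.card {s : Multiset A // (s.map w).sum = k} =
      Nat.card {s : Multiset B // (s.map w').sum = k}) :
    ∀ k, 0 < k → Nat.card {a : A // w a = k} = Nat.card {b : B // w' b = k} := by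
  intro k
  induction k using Nat.strong_induction_on with
  | _ k ih =>
    intro hk
    haveI := hfA k hk
    haveI := hfB k hk
    obtain ⟨-, -, e1⟩ := card_split w hw (k := k)
    obtain ⟨-, -, e2⟩ := card_split w' hw' (k := k)
    have hfib : ∀ c, Nonempty ({a : {a : A // w a < k} // w a.1 = c} ≃ {b : {b : B // w' b < k} // w' b.1 = c}) := by
      intro c
      by_cases hc : 0 < c ∧ c < k
      · haveI := hfA c hc.1
        haveI := hfB c hc.1
        haveI := (card_split w hw (k := c)).1
        haveI := (card_split w' hw' (k := c)).1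
        obtain ⟨e⟩ := Finite.card_eq.mp (ih c hc.2 hc.1)
        exact ⟨(Equiv.subtypeSubtypeEquivSubtype fun ha => ha ▸ hc.2).trans
          (e.trans (Equiv.subtypeSubtypeEquivSubtype fun hb => hb ▸ hc.2).symm)⟩
      · haveI : IsEmpty {a : {a : A // w a < k} // w a.1 = c} :=
          ⟨fun a => hc ⟨a.2 ▸ hw _, a.2 ▸ a.1.2⟩⟩
        haveI : IsEmpty {b : {b : B // w' b < k} // w' b.1 = c} :=
          ⟨fun b => hc ⟨b.2 ▸ hw' _, b.2 ▸ b.1.2⟩⟩
        exact ⟨Equiv.equivOfIsEmpty _ _⟩
    let e := fun c => (hfib c).some
    let E : {a : A // w a < k} ≃ {b : B // w' b < k} := Equiv.ofFiberEquiv fun c => e c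
    have hE : ∀ a, w' (E a).1 = w a.1 := fun a => Equiv.ofFiberEquiv_map (fun c => e c) a
    have hS : Nat.card (Small w k) = Nat.card (Small w' k) := by
      refine Nat.card_congr (Equiv.subtypeEquiv
        { toFun := Multiset.map E
          invFun := Multiset.map E.symm
          left_inv := fun t => by simp [Multiset.map_map]
          right_inv := fun t => by simp [Multiset.map_map] } fun t => ?_)
      simp only [Equiv.coe_fn_mk, Multiset.map_map]
      rw [Multiset.map_congr rfl fun a _ => show ((fun b : {b : B // w' b < k} => w' b.1) ∘ E) a = w a.1 from hE a]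
    have := h k hk
    omega

end Match

/-! ### Polynomials -/

variable (F : Type u) [Field F]

/-- Monic irreducible polynomials different from `X`. -/
abbrev Prime' : Type u := {p : F[X] // p.Monic ∧ Irreducible p ∧ p ≠ X}

theorem coeff_zero_prime (p : Prime' F) : p.1.coeff 0 ≠ 0 := by
  intro h
  have hd : X ∣ p.1 := Polynomial.X_dvd_iff.mpr h
  exact p.2.2.2 (eq_of_monic_of_associated monic_X p.2.1
    ((irreducible_X).associated_of_dvd p.2.2.1 hd)).symm

/-- Multisets of primes of total degree `k` as monic polynomials. -/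
theorem card_multiset_prime (k : ℕ) :
    Nat.card {s : Multiset (Prime' F) // (s.map fun p => p.1.natDegree).sum = k} =
      Nat.card {f : F[X] // (f.Monic ∧ f.natDegree = k) ∧ f.coeff 0 ≠ 0} := by
  have hmon : ∀ s : Multiset (Prime' F), ∀ f ∈ s.map Subtype.val, Monic f := fun s f hf => by
    obtain ⟨p, -, rfl⟩ := Multiset.mem_map.mp hf
    exact p.2.1
  let Ψ : {s : Multiset (Prime' F) // (s.map fun p => p.1.natDegree).sum = k} →
      {f : F[X] // (f.Monic ∧ f.natDegree = k) ∧ f.coeff 0 ≠ 0} := fun s =>
    ⟨(s.1.map Subtype.val).prod,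
      ⟨monic_multiset_prod_of_monic _ _ fun p _ => p.2.1, by
        rw [natDegree_multiset_prod_of_monic _ (hmon s.1), Multiset.map_map]
        exact s.2⟩, by
      rw [coeff_zero_multiset_prod, Multiset.map_map]
      refine Multiset.prod_ne_zero fun h => ?_
      obtain ⟨p, -, hp⟩ := Multiset.mem_map.mp h
      exact coeff_zero_prime F p hp⟩
  have hnf : ∀ s : Multiset (Prime' F),
      normalizedFactors (s.map Subtype.val).prod = s.map Subtype.val := by
    intro s
    rw [normalizedFactors_multiset_prod _ fun h => ?_, Multiset.map_map]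
    · rw [Multiset.map_congr rfl fun p _ => show (normalizedFactors ∘ Subtype.val) p = ({p.1} : Multiset F[X]) by
        rw [Function.comp_apply, normalizedFactors_irreducible p.2.2.1, p.2.1.normalize_eq_self]]
      conv_rhs => rw [← Multiset.sum_map_singleton (Multiset.map Subtype.val s), Multiset.map_map]
      rfl
    · obtain ⟨p, -, hp⟩ := Multiset.mem_map.mp h
      exact p.2.2.1.ne_zero hp
  refine Nat.card_congr (Equiv.ofBijective Ψ ⟨fun s s' e => ?_, fun f => ?_⟩)
  · have e' := congrArg (fun g => normalizedFactors g.1) e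
    simp only [Ψ, hnf] at e'
    exact Subtype.ext (Multiset.map_injective Subtype.val_injective e')
  · obtain ⟨f, ⟨hf, hfk⟩, hf0⟩ := f
    have hne : f ≠ 0 := hf.ne_zero
    have hmem : ∀ g ∈ normalizedFactors f, g.Monic ∧ Irreducible g ∧ g ≠ X := by
      intro g hg
      obtain ⟨h1, h2, h3⟩ := (Polynomial.mem_normalizedFactors_iff hne).mp hg
      refine ⟨h2, h1, fun e => hf0 ?_⟩
      rw [e] at h3
      exact Polynomial.X_dvd_iff.mp h3
    have hprod : (normalizedFactors f).prod = f :=
      eq_of_monic_of_associated
        (by simpa using monic_multiset_prod_of_monic _ (fun g => g) fun g hg => (hmem g hg).1) hf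
        (prod_normalizedFactors hne)
    let s : Multiset (Prime' F) := (normalizedFactors f).attach.map fun g => ⟨g.1, hmem g.1 g.2⟩
    have hs : s.map Subtype.val = normalizedFactors f := by
      simp only [s, Multiset.map_map]
      exact Multiset.attach_map_val _
    refine ⟨⟨s, ?_⟩, Subtype.ext (by simp only [Ψ, hs, hprod])⟩
    rw [← hfk]
    conv_rhs => rw [← hprod, ← hs]
    rw [natDegree_multiset_prod_of_monic _ (hmon s)]
    simp only [Multiset.map_map]
    rfl

theorem card_monic [Finite F] (k : ℕ) :
    Nat.card {f : F[X] // (f.Monic ∧ f.natDegree = k + 1) ∧ f.coeff 0 ≠ 0} =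
      (Nat.card F - 1) * Nat.card F ^ k := by
  let e : {f : F[X] // f.Monic ∧ f.natDegree = k + 1} ≃ (Fin (k + 1) → F) :=
    (monicEquivDegreeLT (k + 1)).trans (degreeLTEquiv F (k + 1)).toEquiv
  have he : ∀ f, e f 0 = f.1.coeff 0 := fun f => by
    change f.1.eraseLead.coeff 0 = _
    exact eraseLead_coeff_of_ne 0 (by rw [f.2.2]; omega)
  rw [← Nat.card_congr (Equiv.subtypeSubtypeEquivSubtypeInter _ (fun f : F[X] => f.coeff 0 ≠ 0)),
    Nat.card_congr (Equiv.subtypeEquiv e (q := fun v : Fin (k + 1) → F => v 0 ≠ 0) fun f => by rw [he]),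
    Nat.card_congr
      { toFun := fun v : {v : Fin (k + 1) → F // v 0 ≠ 0} =>
          ((⟨v.1 0, v.2⟩ : {x : F // x ≠ 0}), fun i : Fin k => v.1 i.succ)
        invFun := fun p => ⟨Fin.cons p.1.1 p.2, by simpa using p.1.2⟩
        left_inv := fun v => Subtype.ext (funext fun i => by
          induction i using Fin.cases <;> simp)
        right_inv := fun p => by simp },
    Nat.card_prod, Nat.card_fun, Nat.card_fin, ← Nat.card_congr unitsEquivNeZero, Nat.card_units]

/-- There are at least `φ (qⁿ - 1) / n` primes of degree `n`. -/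
theorem totient_le_card_prime [Finite F] {n : ℕ} (hn : 2 ≤ n)
    [Finite {p : Prime' F // p.1.natDegree = n}] :
    Nat.totient (Nat.card F ^ n - 1) / n ≤ Nat.card {p : Prime' F // p.1.natDegree = n} := by
  obtain ⟨p, hp⟩ := CharP.exists F
  haveI : Fact p.Prime := ⟨(CharP.char_is_prime_or_zero F p).resolve_right (CharP.char_ne_zero_of_finite F p)⟩
  haveI : NeZero n := ⟨by omega⟩
  let K := FiniteField.Extension F p n
  let := Fintype.ofFinite K
  let := Fintype.ofFinite {p : Prime' F // p.1.natDegree = n}
  have hcard : Fintype.card Kˣ = Nat.card F ^ n - 1 := by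
    rw [← Nat.card_eq_fintype_card, Nat.card_units, FiniteField.natCard_extension F p n]
  have hgen : (Finset.univ.filter fun x : Kˣ => orderOf x = Fintype.card Kˣ).card =
      Nat.totient (Nat.card F ^ n - 1) := by
    rw [IsCyclic.card_orderOf_eq_totient dvd_rfl, hcard]
  have hmin : ∀ x : Kˣ, orderOf x = Fintype.card Kˣ → (minpoly F (x : K)).natDegree = n := by
    intro x hx
    have hi : IsIntegral F (x : K) := IsIntegral.of_finite F _
    rw [← IntermediateField.adjoin.finrank hi]
    conv_rhs => rw [← FiniteField.finrank_extension F p n]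
    rw [show IntermediateField.adjoin F {(x : K)} = ⊤ from ?_, IntermediateField.finrank_top']
    refine eq_top_iff.mpr fun y _ => ?_
    by_cases hy : y = 0
    · subst hy
      exact zero_mem _
    · have htop : Subgroup.zpowers x = ⊤ := by
        apply Subgroup.eq_top_of_card_eq
        rw [Nat.card_zpowers, hx, Nat.card_eq_fintype_card]
      obtain ⟨m, hm⟩ := Subgroup.mem_zpowers_iff.mp (htop ▸ Subgroup.mem_top (Units.mk0 y hy))
      have : y = (x : K) ^ m := by rw [← Units.val_zpow_eq_zpow_val, hm, Units.val_mk0]
      rw [this]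
      exact zpow_mem (IntermediateField.mem_adjoin_simple_self F _) m
  have hP : ∀ x : Kˣ, orderOf x = Fintype.card Kˣ →
      (minpoly F (x : K)).Monic ∧ Irreducible (minpoly F (x : K)) ∧ minpoly F (x : K) ≠ X := by
    intro x hx
    have hi : IsIntegral F (x : K) := IsIntegral.of_finite F _
    refine ⟨minpoly.monic hi, minpoly.irreducible hi, fun e => ?_⟩
    have := hmin x hx
    rw [e, natDegree_X] at this
    omega
  let S := Finset.univ.filter fun x : Kˣ => orderOf x = Fintype.card Kˣ
  let g : S → {p : Prime' F // p.1.natDegree = n} := fun x =>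
    ⟨⟨minpoly F (x.1 : K), hP x.1 (Finset.mem_filter.mp x.2).2⟩, hmin x.1 (Finset.mem_filter.mp x.2).2⟩
  refine Nat.div_le_of_le_mul ?_
  rw [← hgen, ← Fintype.card_coe S, ← Finset.card_univ, Nat.card_eq_fintype_card, ← Finset.card_univ]
  refine Finset.card_le_mul_card_image_of_maps_to (f := g) (fun x _ => Finset.mem_univ _) n fun q _ => ?_
  have hq : q.1.1 ≠ 0 := q.1.2.2.1.ne_zero
  calc _ ≤ (q.1.1.aroots K).toFinset.card := by
        refine Finset.card_le_card_of_injOn (fun x => (x.1 : K)) (fun x hx => ?_)
          (fun x _ y _ e => Subtype.ext (Units.ext e))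
        simp only [Finset.coe_filter, Finset.mem_univ, true_and, Set.mem_setOf_eq] at hx
        rw [Finset.mem_coe, Multiset.mem_toFinset, mem_aroots]
        refine ⟨hq, ?_⟩
        rw [show q.1.1 = minpoly F (x.1 : K) from (congrArg (fun t => t.1.1) hx).symm]
        exact minpoly.aeval F (x.1 : K)
    _ ≤ Multiset.card (q.1.1.aroots K) := Multiset.toFinset_card_le _
    _ ≤ n := by
      rw [aroots_def]
      refine (card_roots' _).trans ?_
      rw [natDegree_map, q.2]

end Cfsg.Agent.GLCusp
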