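import Cfsg.Agent.Lib.Char.GLCusp.Generic
import Cfsg.Agent.Lib.Char.GLCusp.Primes

/-!
# The number of cuspidal irreducible characters
-/

set_option autoImplicit false
set_option linter.unusedSectionVars false

namespace Cfsg.Agent.GLCusp

open Module Cfsg Cfsg.Agent.Char
open scoped Classical

universe u

variable {F : Type u} [Field F] [Fintype F]

attribute [local instance] Fintype.ofFinite

/-- The cuspidal irreducible characters of `GL_n` are equinumerous with the primes of degree `n`. -/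
theorem card_cusp_prime {n : ℕ} (hn : 0 < n) :
    Nat.card {χ : IrrCharacter (GL (Fin n) F) // IsCusp (χ : GL (Fin n) F → ℂ)} =
      Nat.card {p : Prime' F // p.1.natDegree = n} ∧
    Finite {p : Prime' F // p.1.natDegree = n} := by
  have hpos : 1 < Nat.card F := Finite.one_lt_card
  have hB : ∀ k, 0 < k →
      Nat.card {s : Multiset (Prime' F) // (s.map fun p => p.1.natDegree).sum = k} =
        Nat.card (Msets F k) := by
    intro k hk
    obtain ⟨m, rfl⟩ : ∃ m, k = m + 1 := ⟨k - 1, by omega⟩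
    rw [card_multiset_prime, card_monic, card_msets]
  have hA : ∀ k, 0 < k → Nat.card (Msets F k) ≠ 0 := by
    intro k hk
    obtain ⟨m, rfl⟩ : ∃ m, k = m + 1 := ⟨k - 1, by omega⟩
    rw [card_msets]
    exact Nat.mul_ne_zero (by omega) (pow_ne_zero _ (by omega))
  have hfA : ∀ k, 0 < k → Finite (Msets F k) := fun k hk => Nat.finite_of_card_ne_zero (hA k hk)
  have hfB : ∀ k, 0 < k →
      Finite {s : Multiset (Prime' F) // (s.map fun p => p.1.natDegree).sum = k} := fun k hk =>
    Nat.finite_of_card_ne_zero (by rw [hB k hk]; exact hA k hk)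
  have hwP : ∀ p : Prime' F, 0 < p.1.natDegree := fun p => p.2.2.1.natDegree_pos
  have h := card_fibre_eq (wt (F := F)) (fun p : Prime' F => p.1.natDegree)
    (fun a => Nat.succ_pos _) hwP hfA hfB (fun k hk => (hB k hk).symm) n hn
  haveI := hfB n hn
  refine ⟨?_, (card_split (fun p : Prime' F => p.1.natDegree) hwP (k := n)).1⟩
  rw [← h]
  obtain ⟨d, rfl⟩ : ∃ d, n = d + 1 := ⟨n - 1, by omega⟩
  refine Nat.card_congr (Equiv.ofBijective
    (fun χ : {χ : IrrCharacter (GL (Fin (d + 1)) F) // IsCusp (χ : GL (Fin (d + 1)) F → ℂ)} =>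
      (⟨⟨d, χ.1.1, χ.1.2, χ.2⟩, rfl⟩ : {a : Atom F // wt a = d + 1})) ⟨?_, ?_⟩)
  · intro χ χ' e
    have e1 := congrArg Subtype.val e
    exact Subtype.ext (Subtype.ext (congrArg Subtype.val (eq_of_heq (Sigma.mk.inj_iff.mp e1).2) :))
  · rintro ⟨⟨d', χ⟩, h'⟩
    obtain rfl : d' = d := by simpa [wt] using h'
    exact ⟨⟨⟨χ.1, χ.2.1⟩, χ.2.2⟩, rfl⟩

theorem totient_le_card_cusp {n : ℕ} (hn : 2 ≤ n) :
    Nat.totient (Fintype.card F ^ n - 1) / n ≤
      Nat.card {χ : IrrCharacter (GL (Fin n) F) // IsCusp (χ : GL (Fin n) F → ℂ)} := by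
  obtain ⟨h, hf⟩ := card_cusp_prime (F := F) (n := n) (by omega)
  rw [h, ← Nat.card_eq_fintype_card]
  exact totient_le_card_prime F hn

end Cfsg.Agent.GLCusp
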