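import Cfsg.Agent.Lib.Char.GLCusp.Fam

/-!
# Cuspidal class functions

A class function of `GL_b(F)` is cuspidal when its sums over the translates of the unipotent
radical of every proper subspace vanish.
-/

set_option autoImplicit false
set_option linter.unusedSectionVars false

namespace Cfsg.Agent.GLCusp

open Module Cfsg Cfsg.Agent.Char
open scoped ComplexConjugate Classical

universe u

variable {F : Type u} [Field F] [Fintype F]

attribute [local instance] Fintype.ofFinite

section Nil

variable {V : Type u} [AddCommGroup V] [Module F V] [Finite V]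

/-- The endomorphisms with image in `W` vanishing on `W`. -/
def nilSub (W : Submodule F V) : Submodule F (Module.End F V) where
  carrier := {N | (∀ v, N v ∈ W) ∧ ∀ w ∈ W, N w = 0}
  add_mem' := fun h h' => ⟨fun v => W.add_mem (h.1 v) (h'.1 v), fun w hw => by
    simp [h.2 w hw, h'.2 w hw]⟩
  zero_mem' := ⟨fun v => W.zero_mem, fun w _ => rfl⟩
  smul_mem' := fun c N h => ⟨fun v => W.smul_mem c (h.1 v), fun w hw => by simp [h.2 w hw]⟩

theorem mem_nilSub {W : Submodule F V} {N : Module.End F V} :
    N ∈ nilSub W ↔ (∀ v, N v ∈ W) ∧ ∀ w ∈ W, N w = 0 := Iff.rfl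

theorem nilSub_mul {W : Submodule F V} {N N' : Module.End F V} (h : N ∈ nilSub W)
    (h' : N' ∈ nilSub W) : N * N' = 0 :=
  LinearMap.ext fun v => h.2 _ (h'.1 v)

theorem isUnit_one_add {W : Submodule F V} {N : Module.End F V} (h : N ∈ nilSub W) :
    IsUnit (1 + N) := by
  refine ⟨⟨1 + N, 1 - N, ?_, ?_⟩, rfl⟩
  · rw [mul_sub, mul_one, add_mul, one_mul, nilSub_mul h h, add_zero, add_sub_cancel_right]
  · rw [mul_add, mul_one, sub_mul, one_mul, nilSub_mul h h, sub_zero, sub_add_cancel]

theorem sum_comp_addHom {A B : Type*} [AddGroup A] [Fintype A] [AddGroup B] [Fintype B]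
    (L : A →+ B) (hL : Function.Surjective L) (f : B → ℂ) :
    ∑ a, f (L a) = (Nat.card L.ker : ℂ) * ∑ b, f b := by
  rw [← Finset.sum_fiberwise Finset.univ L (fun a => f (L a)), Finset.mul_sum]
  refine Finset.sum_congr rfl fun b _ => ?_
  rw [Finset.sum_congr rfl fun a ha => by rw [(Finset.mem_filter.mp ha).2], Finset.sum_const,
    nsmul_eq_mul]
  congr 2
  obtain ⟨a₀, rfl⟩ := hL b
  rw [← Fintype.card_subtype, ← Nat.card_eq_fintype_card]
  exact Nat.card_congr
    { toFun := fun a => ⟨a.1 - a₀, by rw [AddMonoidHom.mem_ker, map_sub, a.2, sub_self]⟩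
      invFun := fun k => ⟨k.1 + a₀, by rw [map_add, AddMonoidHom.mem_ker.mp k.2, zero_add]⟩
      left_inv := fun a => by ext; simp
      right_inv := fun k => by ext; simp }

end Nil

section Def

variable {b : ℕ}

/-- Cuspidality. -/
structure IsCusp (φ : GL (Fin b) F → ℂ) : Prop where
  classFun : IsClassFunction (GL (Fin b) F) φ
  sum_zero : ∀ (V : Type u) [AddCommGroup V] [Module F V] [Finite V] (W : Submodule F V),
    W ≠ ⊥ → W ≠ ⊤ → ∀ y : Module.End F V, ∑ N : nilSub W, ev φ V (y * (1 + N)) = 0

/-- Vanishing of the sum over any parametrisation of the radical. -/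
theorem IsCusp.sum_param {φ : GL (Fin b) F → ℂ} (h : IsCusp φ) {V : Type u} [AddCommGroup V]
    [Module F V] [Finite V] {W : Submodule F V} (hbot : W ≠ ⊥) (htop : W ≠ ⊤) {A : Type*}
    [AddGroup A] [Fintype A] (L : A →+ Module.End F V) (hmem : ∀ a, L a ∈ nilSub W)
    (hsurj : ∀ N ∈ nilSub W, ∃ a, L a = N) (y : Module.End F V) :
    ∑ a, ev φ V (y * (1 + L a)) = 0 := by
  let L' : A →+ nilSub W := L.codRestrict (nilSub W).toAddSubgroup hmem
  have hL : Function.Surjective L' := fun N => by
    obtain ⟨a, ha⟩ := hsurj N N.2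
    exact ⟨a, Subtype.ext ha⟩
  have := sum_comp_addHom L' hL (fun N : nilSub W => ev φ V (y * (1 + N)))
  rw [h.sum_zero V W hbot htop y, mul_zero] at this
  exact this

variable (F b) in
/-- The standard radical of the block decomposition at `m`, as matrices. -/
def stdRad (m : ℕ) : Submodule F (Matrix (Fin b) (Fin b) F) where
  carrier := {N | ∀ i j : Fin b, ¬ (i.val < m ∧ m ≤ j.val) → N i j = 0}
  add_mem' := fun h h' i j hij => by simp [h i j hij, h' i j hij]
  zero_mem' := fun i j _ => rfl
  smul_mem' := fun c N h i j hij => by simp [h i j hij]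

theorem stdRad_mul {m : ℕ} {N N' : Matrix (Fin b) (Fin b) F} (h : N ∈ stdRad F b m)
    (h' : N' ∈ stdRad F b m) : N * N' = 0 := by
  ext i j
  simp only [Matrix.mul_apply, Matrix.zero_apply]
  refine Finset.sum_eq_zero fun k _ => ?_
  by_cases hk : m ≤ k.val
  · rw [h' k j (by omega), mul_zero]
  · rw [h i k (by omega), zero_mul]

/-- The unipotent element of a matrix in the standard radical. -/
def stdUnip {m : ℕ} (N : stdRad F b m) : GL (Fin b) F :=
  ⟨1 + N.1, 1 - N.1,
    by rw [mul_sub, mul_one, add_mul, one_mul, stdRad_mul N.2 N.2, add_zero, add_sub_cancel_right],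
    by rw [mul_add, mul_one, sub_mul, one_mul, stdRad_mul N.2 N.2, sub_zero, sub_add_cancel]⟩

theorem stdUnip_mul {m : ℕ} (N N' : stdRad F b m) :
    stdUnip N * stdUnip N' = stdUnip (N + N') := by
  apply Units.ext
  change (1 + N.1) * (1 + N'.1) = 1 + (N.1 + N'.1)
  rw [add_mul, one_mul, mul_add, mul_one, stdRad_mul N.2 N'.2, add_zero]
  abel

theorem exists_adapted {V : Type u} [AddCommGroup V] [Module F V] [Finite V] (W : Submodule F V)
    (hb : finrank F V = b) :
    ∃ e : V ≃ₗ[F] (Fin b → F), ∀ v, v ∈ W ↔ ∀ i : Fin b, finrank F W ≤ i.val → e v i = 0 := by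
  obtain ⟨C, hC⟩ := exists_isCompl W
  let BW := finBasis F W
  let BC := finBasis F C
  let B₀ := (BW.prod BC).map (Submodule.prodEquivOfIsCompl W C hC)
  have hbk : finrank F W + finrank F C = b := by
    rw [← hb, Submodule.finrank_add_eq_of_isCompl hC]
  let B := B₀.reindex (finSumFinEquiv.trans (finCongr hbk))
  refine ⟨B.equivFun, fun v => ?_⟩
  obtain ⟨⟨w, c⟩, rfl⟩ := (Submodule.prodEquivOfIsCompl W C hC).surjective v
  have hL : ∀ s : Fin (finrank F W) ⊕ Fin (finrank F C),
      B.equivFun (Submodule.prodEquivOfIsCompl W C hC (w, c))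
        (finCongr hbk (finSumFinEquiv s)) = Sum.elim (BW.repr w) (BC.repr c) s := by
    intro s
    rw [Basis.equivFun_apply, Basis.repr_reindex_apply, Equiv.symm_trans_apply,
      Equiv.symm_apply_apply, Equiv.symm_apply_apply]
    cases s <;> simp [B₀]
  constructor
  · intro h i hi
    have hc : c = 0 := by
      have h' : (c : V) ∈ W := by
        have := W.sub_mem h w.2
        simpa [Submodule.coe_prodEquivOfIsCompl'] using this
      exact Subtype.ext (Submodule.disjoint_def.mp hC.disjoint _ h' c.2)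
    have hi' : i = finCongr hbk (finSumFinEquiv (Sum.inr ⟨i.val - finrank F W, by omega⟩)) := by
      ext
      simp
      omega
    rw [hi', hL]
    simp [hc]
  · intro h
    have hc : c = 0 := by
      refine BC.ext_elem fun j => ?_
      have := h (finCongr hbk (finSumFinEquiv (Sum.inr j))) (by simp)
      rw [hL] at this
      simpa using this
    simp [hc, Submodule.coe_prodEquivOfIsCompl']

/-- The sums over the radical of a subspace are sums over the standard radical. -/
theorem exists_sum_nil_eq_std {φ : GL (Fin b) F → ℂ} (hφ : IsClassFunction (GL (Fin b) F) φ)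
    {V : Type u} [AddCommGroup V] [Module F V] [Finite V] (W : Submodule F V)
    (hb : finrank F V = b) :
    ∃ B : Basis (Fin b) F V, ∀ y : (Module.End F V)ˣ,
      ∑ N : nilSub W, ev φ V ((y : Module.End F V) * (1 + N)) =
        ∑ N : stdRad F b (finrank F W), φ (toGL B y * stdUnip N) := by
  obtain ⟨e, he⟩ := exists_adapted W hb
  set m := finrank F W with hm
  let B := Basis.ofEquivFun e
  refine ⟨B, fun y => ?_⟩
  let T := LinearMap.toMatrixAlgEquiv B
  have hBe : ∀ v i, B.repr v i = e v i := fun v i => by simp [B]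
  have hBW : ∀ j : Fin b, j.val < m → B j ∈ W := fun j hj => by
    rw [he]
    intro i hi
    rw [← hBe, B.repr_self, Finsupp.single_eq_of_ne]
    exact fun e' => by subst e'; omega
  have hmem : ∀ N : Module.End F V, N ∈ nilSub W ↔ T N ∈ stdRad F b m := by
    intro N
    constructor
    · intro hN i j hij
      rw [LinearMap.toMatrixAlgEquiv_apply, hBe]
      by_cases hj : j.val < m
      · simp [hN.2 _ (hBW j hj)]
      · exact (he _).mp (hN.1 (B j)) i (by omega)
    · intro hN
      refine ⟨fun v => ?_, fun w hw => ?_⟩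
      · rw [← B.sum_repr v, map_sum]
        refine W.sum_mem fun j _ => ?_
        rw [map_smul]
        refine W.smul_mem _ ((he _).mpr fun i hi => ?_)
        rw [← hBe]
        simpa [T, LinearMap.toMatrixAlgEquiv_apply] using hN i j (by omega)
      · rw [← B.sum_repr w, map_sum]
        refine Finset.sum_eq_zero fun j _ => ?_
        rw [map_smul]
        by_cases hj : j.val < m
        · have : N (B j) = 0 := B.ext_elem fun i => by
            simpa [T, LinearMap.toMatrixAlgEquiv_apply] using hN i j (by omega)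
          rw [this, smul_zero]
        · rw [hBe, (he w).mp hw j (by omega), zero_smul]
  let E : nilSub W ≃ stdRad F b m := T.toEquiv.subtypeEquiv fun N => hmem N
  refine Fintype.sum_equiv E _ _ fun N => ?_
  rw [ev_basis hφ B (y.isUnit.mul (isUnit_one_add N.2))]
  congr 1
  apply Units.ext
  change LinearMap.toMatrixAlgEquiv B ((y : Module.End F V) * (1 + N.1)) = T y * (1 + T N.1)
  simp [T, map_mul, map_add]

/-- Vanishing at one subspace from vanishing at the standard radical of its dimension. -/
theorem sum_nil_of_std {φ : GL (Fin b) F → ℂ} (hφ : IsClassFunction (GL (Fin b) F) φ) {m : ℕ}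
    (h : ∀ y : GL (Fin b) F, ∑ N : stdRad F b m, φ (y * stdUnip N) = 0) {V : Type u}
    [AddCommGroup V] [Module F V] [Finite V] (W : Submodule F V) (hW : finrank F W = m)
    (y : Module.End F V) : ∑ N : nilSub W, ev φ V (y * (1 + N)) = 0 := by
  subst hW
  by_cases hy : IsUnit y
  swap
  · refine Finset.sum_eq_zero fun N _ => ev_of_not_isUnit fun hu => hy ?_
    obtain ⟨w, hw⟩ := isUnit_one_add N.2
    rw [← hw] at hu
    exact (Units.isUnit_mul_units y w).mp hu
  by_cases hb : finrank F V = b
  swap
  · exact Finset.sum_eq_zero fun N _ => ev_of_finrank_ne hb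
  obtain ⟨B, hB⟩ := exists_sum_nil_eq_std hφ W hb
  exact (hB hy.unit).trans (h _)

/-- Cuspidality from the standard radicals. -/
theorem isCusp_of_std {φ : GL (Fin b) F → ℂ} (hφ : IsClassFunction (GL (Fin b) F) φ)
    (h : ∀ m, 0 < m → m < b → ∀ y : GL (Fin b) F,
      ∑ N : stdRad F b m, φ (y * stdUnip N) = 0) : IsCusp φ := by
  refine ⟨hφ, fun V _ _ _ W hbot htop y => ?_⟩
  by_cases hb : finrank F V = b
  · exact sum_nil_of_std hφ (h _
      (pos_iff_ne_zero.mpr fun h0 => hbot (Submodule.finrank_eq_zero.mp h0))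
      (hb ▸ Submodule.finrank_lt htop)) W rfl y
  · exact Finset.sum_eq_zero fun N _ => ev_of_finrank_ne hb

/-- For a character the plain sums over the standard radicals suffice. -/
theorem sum_translate_eq_zero {χ : GL (Fin b) F → ℂ} (hχ : IsCharacter (GL (Fin b) F) χ) {m : ℕ}
    (h : ∑ N : stdRad F b m, χ (stdUnip N) = 0) (y : GL (Fin b) F) :
    ∑ N : stdRad F b m, χ (y * stdUnip N) = 0 := by
  obtain ⟨n, ρ, rfl⟩ := hχ
  set E : Module.End ℂ (Fin n → ℂ) := ∑ N : stdRad F b m, ρ (stdUnip N) with hE
  have hsq : E * E = (Nat.card (stdRad F b m) : ℂ) • E := by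
    rw [hE, Finset.mul_sum, Nat.cast_smul_eq_nsmul, Nat.card_eq_fintype_card, ← Finset.card_univ,
      ← Finset.sum_const]
    refine Finset.sum_congr rfl fun N _ => ?_
    rw [Finset.sum_mul]
    refine Fintype.sum_equiv (Equiv.addRight N) _ _ fun N' => ?_
    rw [← map_mul, stdUnip_mul, Equiv.coe_addRight]
  have htr : LinearMap.trace ℂ _ E = 0 := by
    rw [hE, map_sum]
    exact h
  have hc : (Nat.card (stdRad F b m) : ℂ) ≠ 0 := Nat.cast_ne_zero.mpr Nat.card_pos.ne'
  set P := (Nat.card (stdRad F b m) : ℂ)⁻¹ • E with hP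
  have hPP : IsIdempotentElem P := by
    change P * P = P
    rw [hP, smul_mul_smul_comm, hsq, smul_smul, mul_assoc, inv_mul_cancel₀ hc, mul_one]
  have hproj := LinearMap.IsProj.trace ((LinearMap.isProj_range_iff_isIdempotentElem P).mpr hPP)
  rw [hP, map_smul, htr, smul_zero] at hproj
  have hr : LinearMap.range P = ⊥ := Submodule.finrank_eq_zero.mp (by exact_mod_cast hproj.symm)
  have hP0 : P = 0 := LinearMap.range_eq_bot.mp hr
  have hE0 : E = 0 := by
    rw [hP, smul_eq_zero] at hP0
    exact hP0.resolve_left (inv_ne_zero hc)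
  have : LinearMap.trace ℂ _ (ρ y * E) = 0 := by rw [hE0, mul_zero, map_zero]
  rw [← this, hE, Finset.mul_sum, map_sum]
  exact Finset.sum_congr rfl fun N _ => by rw [← map_mul]; rfl

end Def

end Cfsg.Agent.GLCusp
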