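import Cfsg.Agent.Lib.Char.GLCusp.Whittaker

/-!
# The degree of a cuspidal character
-/

set_option autoImplicit false
set_option linter.unusedSectionVars false
set_option maxHeartbeats 800000

namespace Cfsg.Agent.GLCusp

open Module Cfsg
open scoped ComplexConjugate Classical

universe u

variable {F : Type u} [Field F] [Fintype F]

attribute [local instance] Fintype.ofFinite

/-- The elements of the unitriangular group with trivial first `k` columns. -/
noncomputable def colSet (n k : ℕ) : Finset (uni F n) :=
  Finset.univ.filter fun u => ∀ i j : Fin n, i < j → j.val < k →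
    (u.1 : Matrix (Fin n) (Fin n) F) i j = 0

/-- The partial Whittaker sums. -/
noncomputable def pSum (θ : AddChar F ℂ) (n k : ℕ) (χ : GL (Fin n) F → ℂ) : ℂ :=
  ∑ u ∈ colSet n k, conj (psi θ u) * χ u.1

theorem pSum_one (θ : AddChar F ℂ) (n : ℕ) (χ : GL (Fin n) F → ℂ) :
    pSum θ n 1 χ = ∑ u : uni F n, conj (psi θ u) * χ u.1 := by
  rw [pSum, colSet, Finset.filter_true_of_mem]
  intro u _ i j hij hj
  rw [Fin.lt_def] at hij
  omega

theorem pSum_top (θ : AddChar F ℂ) (n : ℕ) (χ : GL (Fin n) F → ℂ) : pSum θ n n χ = χ 1 := by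
  have : colSet (F := F) n n = {1} := by
    ext u
    simp only [colSet, Finset.mem_filter, Finset.mem_univ, true_and, Finset.mem_singleton]
    constructor
    · intro h
      refine Subtype.ext (Units.ext ?_)
      ext i j
      by_cases hij : i < j
      · rw [h i j hij j.2]
        exact (Matrix.one_apply_ne hij.ne).symm
      · exact (u.2 i j (not_lt.mp hij)).trans Matrix.one_apply.symm
    · rintro rfl i j hij -
      exact Matrix.one_apply_ne hij.ne
  simp [pSum, this]

/-- There is a linear automorphism carrying one nonzero vector to another. -/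
theorem exists_gl_mulVec {k : ℕ} {v w : Fin k → F} (hv : v ≠ 0) (hw : w ≠ 0) :
    ∃ g : GL (Fin k) F, (g : Matrix (Fin k) (Fin k) F).mulVec v = w := by
  obtain ⟨e1, h1⟩ := exists_adapted (Submodule.span F {v}) (finrank_fin_fun F (n := k))
  obtain ⟨e2, h2⟩ := exists_adapted (Submodule.span F {w}) (finrank_fin_fun F (n := k))
  have hk : 0 < k := by
    by_contra h
    exact hv (funext fun i => absurd i.2 (by omega))
  rw [finrank_span_singleton hv] at h1
  rw [finrank_span_singleton hw] at h2
  have hsupp : ∀ (e : (Fin k → F) ≃ₗ[F] (Fin k → F)) (x : Fin k → F), x ≠ 0 →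
      (∀ i : Fin k, 1 ≤ i.val → e x i = 0) → e x ⟨0, hk⟩ ≠ 0 := by
    intro e x hx h h0
    apply hx
    apply e.injective
    rw [map_zero]
    funext i
    rcases Nat.eq_zero_or_pos i.val with hi | hi
    · rw [show i = ⟨0, hk⟩ from Fin.ext hi]
      exact h0
    · exact h i hi
  have hv1 := (h1 v).mp (Submodule.mem_span_singleton_self v)
  have hw1 := (h2 w).mp (Submodule.mem_span_singleton_self w)
  have ha := hsupp e1 v hv hv1
  have hb := hsupp e2 w hw hw1
  let e := (e1.trans (LinearEquiv.smulOfUnit (Units.mk0 (e2 w ⟨0, hk⟩ / e1 v ⟨0, hk⟩)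
    (div_ne_zero hb ha)))).trans e2.symm
  have he : e v = w := by
    simp only [e, LinearEquiv.trans_apply]
    rw [LinearEquiv.symm_apply_eq]
    funext i
    change (e2 w ⟨0, hk⟩ / e1 v ⟨0, hk⟩) * e1 v i = e2 w i
    rcases Nat.eq_zero_or_pos i.val with hi | hi
    · rw [show i = ⟨0, hk⟩ from Fin.ext hi, div_mul_cancel₀ _ ha]
    · rw [hv1 i hi, hw1 i hi, mul_zero]
  refine ⟨⟨LinearMap.toMatrix' e.toLinearMap, LinearMap.toMatrix' e.symm.toLinearMap, ?_, ?_⟩, ?_⟩
  · rw [← LinearMap.toMatrix'_comp]
    simp
  · rw [← LinearMap.toMatrix'_comp]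
    simp
  · change (LinearMap.toMatrix' e.toLinearMap).mulVec v = w
    rw [← Matrix.toLin'_apply, Matrix.toLin'_toMatrix']
    exact he

theorem sum_conj_theta_proj {k : ℕ} (θ : AddChar F ℂ) (hθ : θ ≠ 0) (i : Fin k) :
    ∑ c : Fin k → F, conj (θ (c i)) = 0 := by
  let χ : AddChar (Fin k → F) ℂ := θ.compAddMonoidHom (Pi.evalAddMonoidHom (fun _ => F) i)
  have hne : χ ≠ 0 := by
    obtain ⟨x, hx⟩ := AddChar.ne_zero_iff.mp hθ
    rw [AddChar.ne_zero_iff]
    exact ⟨Pi.single i x, by simpa [χ] using hx⟩
  have h := (AddChar.sum_eq_zero_iff_ne_zero (ψ := χ)).mpr hne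
  rw [← map_sum]
  change conj (∑ c : Fin k → F, χ c) = 0
  rw [h, map_zero]

theorem pSum_step {c l : ℕ} (hc : 0 < c) (θ : AddChar F ℂ) (hθ : θ ≠ 0)
    {χ : GL (Fin (c + (l + 1))) F → ℂ} (hχ : IsCusp χ) :
    pSum θ (c + (l + 1)) c χ * ((Fintype.card F : ℂ) ^ c - 1) =
      (Fintype.card F : ℂ) ^ c * pSum θ (c + (l + 1)) (c + 1) χ := by
  let i0 : Fin c := ⟨c - 1, by omega⟩
  have hmem : ∀ u : uni F (c + (l + 1)), u ∈ colSet (c + (l + 1)) c ↔
      ∀ i j : Fin c, (u.1 : Matrix (Fin (c + (l + 1))) (Fin (c + (l + 1))) F) (Fin.castAdd (l + 1) i) (Fin.castAdd (l + 1) j) =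
        if i = j then 1 else 0 := by
    intro u
    simp only [colSet, Finset.mem_filter, Finset.mem_univ, true_and]
    constructor
    · intro h i j
      by_cases hij : i < j
      · rw [h (Fin.castAdd _ i) (Fin.castAdd _ j) (Fin.lt_def.mpr (Fin.lt_def.mp hij)) (by simp),
          if_neg hij.ne]
      · rw [u.2 (Fin.castAdd _ i) (Fin.castAdd _ j) (Fin.le_def.mpr (Fin.le_def.mp (not_lt.mp hij)))]
        simp [Fin.ext_iff]
    · intro h i j hij hj
      induction j using Fin.addCases with
      | left j =>
        induction i using Fin.addCases with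
        | left i => rw [h i j, if_neg fun e => by subst e; exact lt_irrefl _ hij]
        | right i =>
          rw [Fin.lt_def] at hij
          simp at hij
          omega
      | right j => simp at hj
  let P : Matrix (Fin c) (Fin (l + 1)) F × uni F (l + 1) → uni F (c + (l + 1)) :=
    fun p => uniBlk 1 p.1 p.2
  have hPval : ∀ p, ((P p).1 : Matrix (Fin (c + (l + 1))) (Fin (c + (l + 1))) F) = blk 1 p.1 0 (p.2.1 : Matrix (Fin (l + 1)) (Fin (l + 1)) F) := fun p =>
    uniBlk_val 1 p.1 p.2
  have hPinj : Function.Injective P := by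
    rintro ⟨X, Y⟩ ⟨X', Y'⟩ e
    have e' := congrArg (fun x : uni F (c + (l + 1)) => (x.1 : Matrix (Fin (c + (l + 1))) (Fin (c + (l + 1))) F)) e
    simp only [hPval] at e'
    refine Prod.ext (Matrix.ext fun i j => ?_) (Subtype.ext (Units.ext (Matrix.ext fun i j => ?_)))
    · simpa using congrFun (congrFun e' (Fin.castAdd (l + 1) i)) (Fin.natAdd c j)
    · simpa using congrFun (congrFun e' (Fin.natAdd c i)) (Fin.natAdd c j)
  have hPimg : colSet (c + (l + 1)) c = Finset.univ.map ⟨P, hPinj⟩ := by
    ext u
    rw [hmem]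
    simp only [Finset.mem_map, Finset.mem_univ, true_and, Function.Embedding.coeFn_mk]
    constructor
    · intro h
      have hY : IsUni (Matrix.of fun i j : Fin (l + 1) =>
          (u.1 : Matrix (Fin (c + (l + 1))) (Fin (c + (l + 1))) F) (Fin.natAdd c i) (Fin.natAdd c j)) := by
        intro i j hji
        rw [Matrix.of_apply, u.2 (Fin.natAdd c i) (Fin.natAdd c j)
          (Fin.le_def.mpr (by simp; exact hji))]
        simp [Fin.ext_iff]
      have hd : (Matrix.of fun i j : Fin (l + 1) =>
          (u.1 : Matrix (Fin (c + (l + 1))) (Fin (c + (l + 1))) F) (Fin.natAdd c i) (Fin.natAdd c j)).det = 1 := by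
        rw [Matrix.det_of_isUpperTriangular (M := Matrix.of fun i j : Fin (l + 1) =>
          (u.1 : Matrix (Fin (c + (l + 1))) (Fin (c + (l + 1))) F) (Fin.natAdd c i) (Fin.natAdd c j)) (fun i j hij => hY.apply_lt hij)]
        exact Finset.prod_eq_one fun i _ => hY.apply_eq i
      refine ⟨(Matrix.of fun i j => (u.1 : Matrix (Fin (c + (l + 1))) (Fin (c + (l + 1))) F) (Fin.castAdd (l + 1) i) (Fin.natAdd c j),
        ⟨Matrix.GeneralLinearGroup.mkOfDetNeZero _ (by rw [hd]; exact one_ne_zero), hY⟩),
        Subtype.ext (Units.ext ?_)⟩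
      rw [hPval]
      ext i j
      induction i using Fin.addCases with
      | left i =>
        induction j using Fin.addCases with
        | left j => simp [h i j, Matrix.one_apply]
        | right j => simp
      | right i =>
        induction j using Fin.addCases with
        | left j => simp [u.2.apply_lt (i := Fin.natAdd c i) (j := Fin.castAdd (l + 1) j)
              (Fin.lt_def.mpr (by simp; omega))]
        | right j => simp [Matrix.GeneralLinearGroup.mkOfDetNeZero]
    · rintro ⟨p, rfl⟩ i j
      simp [hPval, Matrix.one_apply]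
  have hPsucc : ∀ p, P p ∈ colSet (c + (l + 1)) (c + 1) ↔ ∀ i, p.1 i 0 = 0 := by
    intro p
    simp only [colSet, Finset.mem_filter, Finset.mem_univ, true_and, hPval]
    constructor
    · intro h i
      simpa using h (Fin.castAdd _ i) (Fin.natAdd c 0) (Fin.lt_def.mpr (by simp)) (by simp)
    · intro h i j hij hj
      induction j using Fin.addCases with
      | left j =>
        induction i using Fin.addCases with
        | left i =>
          simp [Matrix.one_apply_ne (fun e : i = j => by subst e; exact lt_irrefl _ hij)]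
        | right i =>
          rw [Fin.lt_def] at hij
          simp at hij
          omega
      | right j =>
        simp at hj
        have hj0 : j = 0 := Fin.ext (by simp; omega)
        subst hj0
        induction i using Fin.addCases with
        | left i => simp [h i]
        | right i =>
          rw [Fin.lt_def] at hij
          simp at hij
  have hsup : ∀ p, psi θ (P p) = θ (p.1 i0 0) * psi θ p.2 := by
    intro p
    change θ (sup1 ((P p).1 : Matrix (Fin (c + (l + 1))) (Fin (c + (l + 1))) F)) = _ * θ _
    rw [hPval, ← θ.map_add_eq_mul]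
    congr 1
    simp only [sup1, Fin.sum_univ_add (a := c) (b := l + 1), blk_ll, blk_lr, blk_rl, blk_rr,
      Matrix.zero_apply, Fin.val_castAdd, Fin.val_natAdd, ite_self, Finset.sum_const_zero, zero_add,
      add_assoc, add_right_inj]
    rw [Finset.sum_add_distrib]
    have h11 : (∑ x : Fin c, ∑ y : Fin c,
        if y.val = x.val + 1 then (1 : Matrix (Fin c) (Fin c) F) x y else 0) = 0 := sup1_one
    rw [h11, zero_add]
    congr 1
    rw [Finset.sum_eq_single i0, Finset.sum_eq_single 0]
    · rw [if_pos (by simp [i0]; omega)]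
    · intro j _ hj
      rw [if_neg]
      intro e
      simp only [i0, Fin.val_mk] at e
      exact hj (Fin.ext (by rw [Fin.val_zero]; omega))
    · simp
    · intro i _ hi
      refine Finset.sum_eq_zero fun j _ => if_neg fun e => hi (Fin.ext ?_)
      simp [i0] at e ⊢
      omega
    · simp
  set h : (Fin c → F) → ℂ := fun v => ∑ p ∈ Finset.univ.filter
      (fun p : Matrix (Fin c) (Fin (l + 1)) F × uni F (l + 1) => ∀ i, p.1 i 0 = v i),
    conj (psi θ p.2) * χ (P p).1 with hh
  have hS : pSum θ (c + (l + 1)) c χ = ∑ v, conj (θ (v i0)) * h v := by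
    rw [pSum, hPimg, Finset.sum_map,
      ← Finset.sum_fiberwise (g := fun p : Matrix (Fin c) (Fin (l + 1)) F × uni F (l + 1) =>
        fun i => p.1 i 0)]
    refine Finset.sum_congr rfl fun v _ => ?_
    rw [hh, Finset.mul_sum]
    refine Finset.sum_congr (by ext p; simp [funext_iff]) fun p hp => ?_
    simp only [Finset.mem_filter, Finset.mem_univ, true_and] at hp
    simp only [Function.Embedding.coeFn_mk, hsup, map_mul, hp]
    ring
  have hS' : pSum θ (c + (l + 1)) (c + 1) χ = h 0 := by
    rw [hh, pSum]
    symm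
    refine Finset.sum_bij (fun p _ => P p) (fun p hp => ?_) (fun p _ p' _ e => hPinj e) ?_ ?_
    · simp only [Finset.mem_filter, Finset.mem_univ, true_and] at hp
      exact (hPsucc p).mpr hp
    · intro u hu
      have hu' : u ∈ colSet (c + (l + 1)) c := by
        simp only [colSet, Finset.mem_filter, Finset.mem_univ, true_and] at hu ⊢
        exact fun i j hij hj => hu i j hij (by omega)
      rw [hPimg, Finset.mem_map] at hu'
      obtain ⟨p, -, rfl⟩ := hu'
      exact ⟨p, by simpa [hPsucc] using hu, rfl⟩
    · intro p hp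
      simp only [Finset.mem_filter, Finset.mem_univ, true_and] at hp
      rw [hsup, hp i0]
      simp
  have hzero : ∑ v, h v = 0 := by
    rw [hh]
    have e := Finset.sum_fiberwise (Finset.univ : Finset (Matrix (Fin c) (Fin (l + 1)) F × uni F (l + 1)))
      (fun p => fun i => p.1 i 0) (fun p => conj (psi θ p.2) * χ (P p).1)
    simp only [funext_iff] at e
    rw [e, Fintype.sum_prod_type, Finset.sum_comm]
    refine Finset.sum_eq_zero fun Y _ => ?_
    dsimp only
    rw [← Finset.mul_sum]
    let E : Matrix (Fin c) (Fin (l + 1)) F → stdRad F (c + (l + 1)) c := fun X => ⟨blk 0 X 0 0, by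
      intro i j hij
      induction i using Fin.addCases with
      | left i => induction j using Fin.addCases with
        | left j => simp
        | right j => exact absurd ⟨by simp, by simp⟩ hij
      | right i => induction j using Fin.addCases with
        | left j => simp
        | right j => simp⟩
    have hE : Function.Bijective E := by
      constructor
      · intro X X' e
        ext i j
        simpa [E] using congrFun (congrFun (congrArg Subtype.val e) (Fin.castAdd (l + 1) i))
          (Fin.natAdd c j)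
      · intro N
        refine ⟨Matrix.of fun i j => N.1 (Fin.castAdd (l + 1) i) (Fin.natAdd c j), Subtype.ext ?_⟩
        ext i j
        induction i using Fin.addCases with
        | left i => induction j using Fin.addCases with
          | left j => simp [E, N.2 (Fin.castAdd (l + 1) i) (Fin.castAdd (l + 1) j) (by simp)]
          | right j => simp [E]
        | right i => induction j using Fin.addCases with
          | left j => simp [E, N.2 (Fin.natAdd c i) (Fin.castAdd (l + 1) j) (by simp)]
          | right j => simp [E, N.2 (Fin.natAdd c i) (Fin.natAdd c j) (by simp)]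
    have hX : ∀ X, (P (X, Y)).1 = (P (0, Y)).1 * stdUnip (E X) := by
      intro X
      apply Units.ext
      rw [Units.val_mul, hPval, hPval]
      change _ = blk 1 0 0 (Y.1 : Matrix (Fin (l + 1)) (Fin (l + 1)) F) * (1 + blk 0 X 0 0)
      rw [mul_add, mul_one, blk_mul]
      ext i j
      induction i using Fin.addCases with
      | left i => induction j using Fin.addCases <;> simp
      | right i => induction j using Fin.addCases <;> simp
    rw [Finset.sum_congr rfl fun X _ => by rw [hX X],
      Fintype.sum_equiv (Equiv.ofBijective E hE) (fun X => χ ((P (0, Y)).1 * stdUnip (E X)))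
        (fun N => χ ((P (0, Y)).1 * stdUnip N)) fun X => rfl]
    have hsum : ∑ N : stdRad F (c + (l + 1)) c, χ ((P (0, Y)).1 * stdUnip N) = 0 := by
      obtain ⟨W, hW⟩ : ∃ W : Submodule F (Fin (c + (l + 1)) → F), finrank F W = c := by
        refine ⟨Submodule.span F (Set.range (Pi.basisFun F (Fin (c + (l + 1))) ∘ Fin.castAdd (l + 1))), ?_⟩
        rw [finrank_span_eq_card ((Pi.basisFun F (Fin (c + (l + 1)))).linearIndependent.comp _
          (Fin.castAdd_injective c (l + 1))), Fintype.card_fin]
      obtain ⟨B, hB⟩ := exists_sum_nil_eq_std hχ.classFun W (finrank_fin_fun F)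
      have h1 := hB ((toGL B).symm (P (0, Y)).1)
      rw [MulEquiv.apply_symm_apply, hW] at h1
      rw [← h1]
      refine hχ.sum_zero _ W (fun e => ?_) (fun e => ?_) _
      · rw [e, finrank_bot] at hW
        omega
      · rw [e, finrank_top, finrank_fin_fun] at hW
        omega
    rw [hsum, mul_zero]
  have hinv : ∀ (g : GL (Fin c) F) v, h ((g : Matrix (Fin c) (Fin c) F).mulVec v) = h v := by
    intro g v
    rw [hh]
    let G : GL (Fin (c + (l + 1))) F := ⟨blk (g : Matrix (Fin c) (Fin c) F) 0 0 1,
      blk ((g⁻¹ : GL (Fin c) F) : Matrix (Fin c) (Fin c) F) 0 0 1,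
      by rw [blk_mul]; simp [← Units.val_mul, blk_one],
      by rw [blk_mul]; simp [← Units.val_mul, blk_one]⟩
    symm
    refine Finset.sum_equiv ((Equiv.mk (fun X => (g : Matrix (Fin c) (Fin c) F) * X)
      (fun X => ((g⁻¹ : GL (Fin c) F) : Matrix (Fin c) (Fin c) F) * X)
      (fun X => by
        change _ * (_ * X) = X
        rw [← Matrix.mul_assoc, ← Units.val_mul, inv_mul_cancel, Units.val_one, Matrix.one_mul])
      (fun X => by
        change _ * (_ * X) = X
        rw [← Matrix.mul_assoc, ← Units.val_mul, mul_inv_cancel, Units.val_one, Matrix.one_mul])).prodCongr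
      (Equiv.refl _)) (fun p => ?_) fun p _ => ?_
    · simp only [Finset.mem_filter, Finset.mem_univ, true_and]
      change (∀ i, p.1 i 0 = v i) ↔ ∀ i, ((g : Matrix (Fin c) (Fin c) F) * p.1) i 0 =
        (g : Matrix (Fin c) (Fin c) F).mulVec v i
      rw [← funext_iff, ← funext_iff]
      change (fun i => p.1 i 0) = v ↔
        (g : Matrix (Fin c) (Fin c) F).mulVec (fun i => p.1 i 0) = _
      exact ((Matrix.mulVec_injective_iff_isUnit.mpr g.isUnit).eq_iff).symm
    · change conj (psi θ p.2) * χ (P p).1 =
        conj (psi θ p.2) * χ (P ((g : Matrix (Fin c) (Fin c) F) * p.1, p.2)).1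
      have : (P ((g : Matrix (Fin c) (Fin c) F) * p.1, p.2)).1 = G * (P p).1 * G⁻¹ := by
        rw [eq_mul_inv_iff_mul_eq]
        apply Units.ext
        rw [Units.val_mul, Units.val_mul, hPval, hPval]
        change blk _ _ _ _ * blk _ _ _ _ = blk _ _ _ _ * blk _ _ _ _
        rw [blk_mul, blk_mul]
        simp
      rw [this, hχ.classFun]
  -- all nonzero vectors carry the same value
  let v1 : Fin c → F := Pi.single i0 1
  have hv1 : v1 ≠ 0 := by
    intro e
    simpa [v1] using congrFun e i0
  have hconst : ∀ v ≠ 0, h v = h v1 := by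
    intro v hv
    obtain ⟨g, hg⟩ := exists_gl_mulVec hv1 hv
    rw [← hg, hinv]
  have hsplit : ∀ a : (Fin c → F) → ℂ, ∑ v, a v * h v = a 0 * h 0 + (∑ v, a v - a 0) * h v1 := by
    intro a
    rw [← Finset.sum_erase_add Finset.univ (fun v => a v * h v) (Finset.mem_univ 0),
      ← Finset.sum_erase_add Finset.univ a (Finset.mem_univ 0), add_sub_cancel_right, add_comm,
      Finset.sum_mul]
    congr 1
    exact Finset.sum_congr rfl fun v hv => by rw [hconst v (Finset.ne_of_mem_erase hv)]
  have e1 := hsplit fun v => conj (θ (v i0))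
  rw [← hS, sum_conj_theta_proj θ hθ i0] at e1
  have e2 := hsplit fun _ => 1
  simp only [one_mul, hzero, Finset.sum_const, Finset.card_univ, nsmul_eq_mul, mul_one,
    Fintype.card_fun, Fintype.card_fin, Nat.cast_pow] at e2
  simp only [Pi.zero_apply, AddChar.map_zero_eq_one, map_one, one_mul] at e1
  rw [e1, hS']
  linear_combination e2

/-- The degree of a cuspidal character. -/
theorem cusp_degree {n : ℕ} (hn : 1 ≤ n) (θ : AddChar F ℂ) (hθ : θ ≠ 0) {χ : GL (Fin n) F → ℂ}
    (hχ : IsCusp χ) :
    χ 1 = gV θ n (ev χ) * ∏ i ∈ Finset.Ico 1 n, ((Fintype.card F : ℂ) ^ i - 1) := by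
  have key : ∀ m, 1 + m ≤ n → pSum θ n 1 χ * ∏ i ∈ Finset.Ico 1 (1 + m), ((Fintype.card F : ℂ) ^ i - 1) =
      (∏ i ∈ Finset.Ico 1 (1 + m), (Fintype.card F : ℂ) ^ i) * pSum θ n (1 + m) χ := by
    intro m
    induction m with
    | zero => simp
    | succ m ih =>
      intro hm
      obtain ⟨l, rfl⟩ : ∃ l, n = 1 + m + (l + 1) := ⟨n - (m + 2), by omega⟩
      have ih' := ih (by omega)
      rw [show 1 + (m + 1) = (1 + m) + 1 by omega, Finset.prod_Ico_succ_top (by omega),
        Finset.prod_Ico_succ_top (by omega), ← mul_assoc, ih', mul_assoc, mul_assoc]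
      congr 1
      exact pSum_step (by omega) θ hθ hχ
  have h := key (n - 1) (by omega)
  rw [show 1 + (n - 1) = n by omega, pSum_top, pSum_one] at h
  have hU : (Nat.card (uni F n) : ℂ) = ∏ i ∈ Finset.Ico 1 n, (Fintype.card F : ℂ) ^ i := by
    rw [card_uni, Nat.cast_pow, ← Finset.prod_pow_eq_pow_sum,
      Fin.prod_univ_eq_prod_range (fun i => (Fintype.card F : ℂ) ^ i) n, Finset.range_eq_Ico,
      Finset.prod_eq_prod_Ico_succ_bot (by omega)]
    simp
  have hne : (Nat.card (uni F n) : ℂ) ≠ 0 := Nat.cast_ne_zero.mpr Nat.card_pos.ne'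
  have e : gV θ n (ev χ) = (Nat.card (uni F n) : ℂ)⁻¹ * ∑ u : uni F n, conj (psi θ u) * χ u.1 := by
    simp only [gV, res_ev hχ.classFun]
  rw [e, mul_assoc, h, ← hU, ← mul_assoc, inv_mul_cancel₀ hne, one_mul]

end Cfsg.Agent.GLCusp
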