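import Cfsg.Agent.Lib.Char.GLCusp.Cusp

/-!
# Restriction of an induced function against a cuspidal one is a derivation

For cuspidal `σ` and `ρ`, `DV ρ (indV σ Φ) = ⟨σ, ρ⟩ Φ + indV σ (DV ρ Φ)`.
-/

set_option autoImplicit false
set_option linter.unusedSectionVars false
set_option maxHeartbeats 600000

namespace Cfsg.Agent.GLCusp

open Module Cfsg
open scoped ComplexConjugate Classical

universe u

variable {F : Type u} [Field F] [Fintype F]

attribute [local instance] Fintype.ofFinite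

/-- A summand of an induced function. -/
noncomputable def term {b : ℕ} (σ : GL (Fin b) F → ℂ) (Φ : Fam F) {V : Type u} [AddCommGroup V]
    [Module F V] [Finite V] (x : Module.End F V) (W : Submodule F V) : ℂ :=
  if h : W ≤ W.comap x then ev σ W (x.restrict h) * Φ (V ⧸ W) (W.mapQ W x h) else 0

theorem indV_eq_sum {b : ℕ} (σ : GL (Fin b) F → ℂ) (Φ : Fam F) (V : Type u) [AddCommGroup V]
    [Module F V] [Finite V] (x : Module.End F V) :
    indV σ Φ V x = ∑ W : Submodule F V, term σ Φ x W := rfl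

theorem term_of_not {b : ℕ} {σ : GL (Fin b) F → ℂ} {Φ : Fam F} {V : Type u} [AddCommGroup V]
    [Module F V] [Finite V] {x : Module.End F V} {W : Submodule F V} (h : ¬ W ≤ W.comap x) :
    term σ Φ x W = 0 := dif_neg h

theorem le_comap_mul_one_add {V : Type u} [AddCommGroup V] [Module F V] {x : Module.End F V}
    {W : Submodule F V} {N : Module.End F V} (hN : ∀ v, N v ∈ W)
    (hfix : ∀ w ∈ W, N (N w) = 0) :
    W ≤ W.comap (x * (1 + N)) ↔ W ≤ W.comap x := by
  constructor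
  · intro h w hw
    have h1 : w - N w ∈ W := W.sub_mem hw (hN w)
    have := h h1
    simpa [map_sub, hfix w hw] using this
  · intro h w hw
    have h1 : w + N w ∈ W := W.add_mem hw (hN w)
    simpa using h h1

/-- Translating by a transvection fixing `W` pointwise does not change a summand. -/
theorem term_mul_one_add {b : ℕ} (σ : GL (Fin b) F → ℂ) (Φ : Fam F) {V : Type u} [AddCommGroup V]
    [Module F V] [Finite V] (x : Module.End F V) (W : Submodule F V) {N : Module.End F V}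
    (hN : N ∈ nilSub W) : term σ Φ (x * (1 + N)) W = term σ Φ x W := by
  have hiff := le_comap_mul_one_add (x := x) hN.1 (fun w hw => by rw [hN.2 w hw, map_zero])
  by_cases h : W ≤ W.comap x
  · have h' := hiff.mpr h
    rw [term, term, dif_pos h, dif_pos h']
    congr 1
    · congr 1
      refine LinearMap.ext fun w => Subtype.ext ?_
      simp [hN.2 _ w.2]
    · congr 1
      refine Submodule.linearMap_qext _ (LinearMap.ext fun v => ?_)
      simpa using (Submodule.Quotient.mk_eq_zero W).mpr (h (hN.1 v))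
  · rw [term_of_not h, term_of_not (mt hiff.mp h)]

section Deriv

variable {a b : ℕ} {σ : GL (Fin b) F → ℂ} {ρ : GL (Fin a) F → ℂ}
variable {Q : Type u} [AddCommGroup Q] [Module F Q] [Finite Q]

theorem sum_gl (f : Module.End F (Fin a → F) → ℂ) :
    ∑ g : GL (Fin a) F, f (Matrix.toLin' (g : Matrix (Fin a) (Fin a) F)) =
      ∑ u : (Module.End F (Fin a → F))ˣ, f (u : Module.End F (Fin a → F)) :=
  Fintype.sum_equiv (Units.mapEquiv Matrix.toLinAlgEquiv'.toMulEquiv).toEquiv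
    (fun g : GL (Fin a) F => f (Matrix.toLin' (g : Matrix (Fin a) (Fin a) F)))
    (fun u : (Module.End F (Fin a → F))ˣ => f u) fun _ => rfl

theorem ipair_units (hρ : IsClassFunction (GL (Fin a) F) ρ) :
    ipair σ ρ = (Nat.card (GL (Fin a) F) : ℂ)⁻¹ * ∑ u : (Module.End F (Fin a → F))ˣ,
      conj (ev ρ (Fin a → F) u) * ev σ (Fin a → F) u := by
  rw [← sum_gl (fun y => conj (ev ρ (Fin a → F) y) * ev σ (Fin a → F) y), ipair]
  simp only [ev_toLin' hρ]

/-- The weighted sum of the summands of one subspace. -/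
noncomputable def slot (σ : GL (Fin b) F → ℂ) (ρ : GL (Fin a) F → ℂ) (Φ : Fam F)
    (h : Module.End F Q) (W : Submodule F ((Fin a → F) × Q)) : ℂ :=
  ∑ u : (Module.End F (Fin a → F))ˣ, ∑ T : Q →ₗ[F] (Fin a → F),
    conj (ev ρ (Fin a → F) u) * term σ Φ (mk (u : Module.End F (Fin a → F)) T h) W

theorem DV_eq_sum_slot (hρ : IsClassFunction (GL (Fin a) F) ρ) (Φ : Fam F) (h : Module.End F Q) :
    DV ρ (indV σ Φ) Q h =
      ((Nat.card (GL (Fin a) F) : ℂ) * (Nat.card (Q →ₗ[F] (Fin a → F)) : ℂ))⁻¹ *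
        ∑ W : Submodule F ((Fin a → F) × Q), slot σ ρ Φ h W := by
  rw [DV]
  congr 1
  have e : ∀ g : GL (Fin a) F, ∀ T : Q →ₗ[F] (Fin a → F),
      conj (ρ g) * indV σ Φ ((Fin a → F) × Q)
        (mk (Matrix.toLin' (g : Matrix (Fin a) (Fin a) F)) T h) =
      ∑ W, conj (ev ρ (Fin a → F) (Matrix.toLin' (g : Matrix (Fin a) (Fin a) F))) *
        term σ Φ (mk (Matrix.toLin' (g : Matrix (Fin a) (Fin a) F)) T h) W := fun g T => by
    rw [indV_eq_sum, Finset.mul_sum, ev_toLin' hρ]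
  simp only [e]
  rw [sum_gl (fun y => ∑ T : Q →ₗ[F] (Fin a → F), ∑ W, conj (ev ρ (Fin a → F) y) *
    term σ Φ (mk y T h) W)]
  simp only [slot]
  rw [Finset.sum_comm (t := (Finset.univ : Finset (Module.End F (Fin a → F))ˣ))]
  exact Finset.sum_congr rfl fun u _ => Finset.sum_comm

/-- The block `Fin a → F` inside the product. -/
def first (a : ℕ) (Q : Type u) [AddCommGroup Q] [Module F Q] :
    Submodule F ((Fin a → F) × Q) := LinearMap.ker (LinearMap.snd F (Fin a → F) Q)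

theorem mem_first {p : (Fin a → F) × Q} : p ∈ first a Q ↔ p.2 = 0 := Iff.rfl

theorem slot_eq_zero_of_mid (hρ : IsCusp ρ) (Φ : Fam F) (h : Module.End F Q)
    (W : Submodule F ((Fin a → F) × Q)) (h0 : W ⊓ first a Q ≠ ⊥) (h1 : ¬ first a Q ≤ W) :
    slot σ ρ Φ h W = 0 := by
  set J : Submodule F (Fin a → F) := W.comap (LinearMap.inl F (Fin a → F) Q) with hJ
  have hJbot : J ≠ ⊥ := by
    obtain ⟨⟨v, w⟩, hp, hne⟩ := Submodule.exists_mem_ne_zero_of_ne_bot h0
    obtain ⟨hpW, hpA⟩ := Submodule.mem_inf.mp hp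
    have hw : w = 0 := hpA
    subst hw
    exact fun hb => hne (by simpa using (Submodule.mem_bot F).mp (hb ▸ (show v ∈ J from hpW)))
  have hJtop : J ≠ ⊤ := fun ht => h1 fun p hp => by
    obtain ⟨v, w⟩ := p
    have hw : w = 0 := hp
    subst hw
    exact (ht ▸ Submodule.mem_top : v ∈ J)
  -- a correction carrying `W` into `J`
  let sndW : W →ₗ[F] W.map (LinearMap.snd F (Fin a → F) Q) :=
    (LinearMap.snd F (Fin a → F) Q).submoduleMap W
  obtain ⟨s, hs⟩ := sndW.exists_rightInverse_of_surjective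
    (LinearMap.range_eq_top.mpr ((LinearMap.snd F (Fin a → F) Q).submoduleMap_surjective W))
  obtain ⟨P, hP⟩ := LinearMap.exists_extend
    (-((LinearMap.fst F (Fin a → F) Q) ∘ₗ W.subtype ∘ₗ s))
  have hPW : ∀ p ∈ W, p.1 + P p.2 ∈ J := by
    intro p hp
    let w' : W.map (LinearMap.snd F (Fin a → F) Q) := sndW ⟨p, hp⟩
    have e1 : ((s w' : W) : (Fin a → F) × Q).2 = p.2 := by
      have := congrArg (fun f : _ →ₗ[F] _ => ((f w' : W.map (LinearMap.snd F (Fin a → F) Q)) : Q)) hs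
      exact this
    have e2 : P p.2 = -((s w' : W) : (Fin a → F) × Q).1 :=
      LinearMap.congr_fun hP w'
    have e3 : p - ((s w' : W) : (Fin a → F) × Q) ∈ W := W.sub_mem hp (s w').2
    change (p.1 + P p.2, (0 : Q)) ∈ W
    convert e3 using 1
    refine Prod.ext ?_ ?_
    · simp [e2, sub_eq_add_neg]
    · simp [e1]
  let tr : nilSub J → Module.End F ((Fin a → F) × Q) := fun M =>
    mk (M : Module.End F (Fin a → F)) ((M : Module.End F (Fin a → F)) ∘ₗ P) 0
  have htr : ∀ M, tr M ∈ nilSub W := by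
    intro M
    refine ⟨fun p => ?_, fun p hp => ?_⟩
    · simpa [tr, hJ, ← map_add] using M.2.1 (p.1 + P p.2)
    · simp [tr, ← map_add, M.2.2 _ (hPW p hp)]
  have key : ∀ M : nilSub J, slot σ ρ Φ h W = ∑ u : (Module.End F (Fin a → F))ˣ,
      ∑ T : Q →ₗ[F] (Fin a → F),
        conj (ev ρ (Fin a → F) ((u : Module.End F (Fin a → F)) * (1 + (M : Module.End F (Fin a → F))))) *
          term σ Φ (mk (u : Module.End F (Fin a → F)) T h) W := by
    intro M
    set z := (isUnit_one_add M.2).unit with hz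
    refine (Fintype.sum_equiv (Equiv.mulRight z) _ _ fun u => ?_).symm
    refine Fintype.sum_equiv (Equiv.addRight ((u : Module.End F (Fin a → F)) ∘ₗ
      (M : Module.End F (Fin a → F)) ∘ₗ P)) _ _ fun T => ?_
    have e1 : ((Equiv.mulRight z u : (Module.End F (Fin a → F))ˣ) : Module.End F (Fin a → F)) =
        (u : Module.End F (Fin a → F)) * (1 + (M : Module.End F (Fin a → F))) := rfl
    have e2 : mk ((u : Module.End F (Fin a → F)) * (1 + (M : Module.End F (Fin a → F))))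
        (T + (u : Module.End F (Fin a → F)) ∘ₗ (M : Module.End F (Fin a → F)) ∘ₗ P) h =
        mk (u : Module.End F (Fin a → F)) T h * (1 + tr M) := by
      refine LinearMap.ext fun p => Prod.ext ?_ ?_
      · simp [tr, map_add]
        abel
      · simp [tr]
    rw [e1, Equiv.coe_addRight, e2, term_mul_one_add σ Φ _ W (htr M)]
  have hsum : (Fintype.card (nilSub J) : ℂ) * slot σ ρ Φ h W = 0 := by
    rw [← nsmul_eq_mul, ← Finset.card_univ, ← Finset.sum_const,
      Finset.sum_congr rfl fun M _ => key M, Finset.sum_comm]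
    refine Finset.sum_eq_zero fun u _ => ?_
    rw [Finset.sum_comm]
    refine Finset.sum_eq_zero fun T _ => ?_
    rw [← Finset.sum_mul, ← map_sum, hρ.sum_zero _ J hJbot hJtop, map_zero, zero_mul]
  exact (mul_eq_zero.mp hsum).resolve_left (Nat.cast_ne_zero.mpr Fintype.card_pos.ne')

theorem slot_eq_zero_of_above (hσ : IsCusp σ) (ha : 0 < a) (Φ : Fam F) (h : Module.End F Q)
    (W : Submodule F ((Fin a → F) × Q)) (h1 : first a Q ≤ W) (h2 : W ≠ first a Q) :
    slot σ ρ Φ h W = 0 := by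
  set A' : Submodule F W := (first a Q).comap W.subtype with hA'
  have hAbot : A' ≠ ⊥ := by
    intro hb
    have : Nonempty (Fin a) := ⟨⟨0, ha⟩⟩
    obtain ⟨v, hv⟩ := exists_ne (0 : Fin a → F)
    have hp : ((v, 0) : (Fin a → F) × Q) ∈ W := h1 (mem_first.mpr rfl)
    have : (⟨_, hp⟩ : W) ∈ A' := mem_first.mpr rfl
    rw [hb, Submodule.mem_bot] at this
    exact hv (congrArg (fun p : W => (p : (Fin a → F) × Q).1) this)
  have hAtop : A' ≠ ⊤ := fun ht => h2 (le_antisymm (fun p hp => by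
    have : (⟨p, hp⟩ : W) ∈ A' := ht ▸ Submodule.mem_top
    exact this) h1)
  -- the transvections
  let tr : (Q →ₗ[F] (Fin a → F)) → Module.End F ((Fin a → F) × Q) := fun K => mk 0 K 0
  have htrA : ∀ K p, tr K p ∈ first a Q := fun K p => mem_first.mpr rfl
  have htr : ∀ K, ∀ p, tr K p ∈ W := fun K p => h1 (htrA K p)
  have htr0 : ∀ K, ∀ p ∈ first a Q, tr K p = 0 := fun K p hp => by
    simp [tr, mem_first.mp hp]
  let L : (Q →ₗ[F] (Fin a → F)) →+ Module.End F W :=
    AddMonoidHom.mk' (fun K => (tr K).restrict (p := W) (q := W) (fun p _ => htr K p)) fun K K' => by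
      refine LinearMap.ext fun p => Subtype.ext ?_
      simp [tr]
  have hLmem : ∀ K, L K ∈ nilSub A' := fun K =>
    ⟨fun p => htrA K _, fun p hp => Subtype.ext (htr0 K _ hp)⟩
  have hLsurj : ∀ N ∈ nilSub A', ∃ K, L K = N := by
    intro N hN
    let sndW : W →ₗ[F] W.map (LinearMap.snd F (Fin a → F) Q) :=
      (LinearMap.snd F (Fin a → F) Q).submoduleMap W
    obtain ⟨s, hs⟩ := sndW.exists_rightInverse_of_surjective
      (LinearMap.range_eq_top.mpr ((LinearMap.snd F (Fin a → F) Q).submoduleMap_surjective W))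
    obtain ⟨K, hK⟩ := LinearMap.exists_extend
      ((LinearMap.fst F (Fin a → F) Q) ∘ₗ W.subtype ∘ₗ N ∘ₗ s)
    refine ⟨K, LinearMap.ext fun p => ?_⟩
    let w' : W.map (LinearMap.snd F (Fin a → F) Q) := sndW p
    have e1 : ((s w' : W) : (Fin a → F) × Q).2 = (p : (Fin a → F) × Q).2 :=
      congrArg (fun f : _ →ₗ[F] _ => ((f w' : W.map (LinearMap.snd F (Fin a → F) Q)) : Q)) hs
    have e2 : p - s w' ∈ A' := by
      change (((p - s w' : W) : (Fin a → F) × Q)).2 = 0
      simp [e1]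
    have e3 : N p = N (s w') := by
      rw [← sub_eq_zero, ← map_sub, hN.2 _ e2]
    have e4 : K (p : (Fin a → F) × Q).2 = ((N (s w') : W) : (Fin a → F) × Q).1 :=
      LinearMap.congr_fun hK w'
    have e5 : ((N p : W) : (Fin a → F) × Q).2 = 0 := hN.1 p
    refine Subtype.ext (Prod.ext ?_ ?_)
    · simp [L, tr, e4, e3]
    · simp [L, tr, e5]
  have key : ∀ K : Q →ₗ[F] (Fin a → F), slot σ ρ Φ h W = ∑ u : (Module.End F (Fin a → F))ˣ,
      ∑ T : Q →ₗ[F] (Fin a → F), conj (ev ρ (Fin a → F) u) *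
        term σ Φ (mk (u : Module.End F (Fin a → F)) T h * (1 + tr K)) W := by
    intro K
    refine Finset.sum_congr rfl fun u _ => (Fintype.sum_equiv
      (Equiv.addRight ((u : Module.End F (Fin a → F)) ∘ₗ K)) _ _ fun T => ?_).symm
    congr 2
    refine LinearMap.ext fun p => Prod.ext ?_ ?_
    · simp [tr, map_add]
      abel
    · simp [tr]
  have hterm : ∀ x : Module.End F ((Fin a → F) × Q), ∑ K, term σ Φ (x * (1 + tr K)) W = 0 := by
    intro x
    have hfix : ∀ K, ∀ w ∈ W, tr K (tr K w) = 0 := fun K w _ => htr0 K _ (htrA K w)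
    by_cases hx : W ≤ W.comap x
    · have e : ∀ K, term σ Φ (x * (1 + tr K)) W =
          ev σ W (x.restrict hx * (1 + L K)) * Φ (_ ⧸ W) (W.mapQ W x hx) := by
        intro K
        rw [term, dif_pos ((le_comap_mul_one_add (htr K) (hfix K)).mpr hx)]
        congr 1
        congr 1
        refine Submodule.linearMap_qext _ (LinearMap.ext fun v => ?_)
        simpa using (Submodule.Quotient.mk_eq_zero W).mpr (hx (htr K v))
      rw [Finset.sum_congr rfl fun K _ => e K, ← Finset.sum_mul,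
        hσ.sum_param hAbot hAtop L hLmem hLsurj, zero_mul]
    · exact Finset.sum_eq_zero fun K _ =>
        term_of_not (mt (le_comap_mul_one_add (htr K) (hfix K)).mp hx)
  have hsum : (Fintype.card (Q →ₗ[F] (Fin a → F)) : ℂ) * slot σ ρ Φ h W = 0 := by
    rw [← nsmul_eq_mul, ← Finset.card_univ, ← Finset.sum_const,
      Finset.sum_congr rfl fun K _ => key K, Finset.sum_comm]
    refine Finset.sum_eq_zero fun u _ => ?_
    rw [Finset.sum_comm]
    refine Finset.sum_eq_zero fun T _ => ?_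
    rw [← Finset.mul_sum, hterm, mul_zero]
  exact (mul_eq_zero.mp hsum).resolve_left (Nat.cast_ne_zero.mpr Fintype.card_pos.ne')

theorem slot_first (hσ : IsClassFunction (GL (Fin b) F) σ) (hρ : IsClassFunction (GL (Fin a) F) ρ)
    {Φ : Fam F} (hΦ : Inv Φ) (h : Module.End F Q) :
    slot σ ρ Φ h (first a Q) = (Nat.card (GL (Fin a) F) : ℂ) *
      (Nat.card (Q →ₗ[F] (Fin a → F)) : ℂ) * ipair σ ρ * Φ Q h := by
  let e1 : first (F := F) a Q ≃ₗ[F] (Fin a → F) :=
    { toFun := fun p => p.1.1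
      invFun := fun v => ⟨(v, 0), rfl⟩
      left_inv := fun p => Subtype.ext (Prod.ext rfl (mem_first.mp p.2).symm)
      right_inv := fun v => rfl
      map_add' := fun p q => rfl
      map_smul' := fun c p => rfl }
  let e2 : (((Fin a → F) × Q) ⧸ first (F := F) a Q) ≃ₗ[F] Q :=
    (Submodule.quotEquivOfEq _ _ (show first (F := F) a Q =
        LinearMap.ker (LinearMap.snd F (Fin a → F) Q) from rfl)).trans
      ((LinearMap.snd F (Fin a → F) Q).quotKerEquivOfSurjective Prod.snd_surjective)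
  have hinv : ∀ (u : Module.End F (Fin a → F)) (T : Q →ₗ[F] (Fin a → F)),
      first a Q ≤ (first a Q).comap (mk u T h) := fun u T p hp => by
    change h p.2 = 0
    rw [mem_first.mp hp, map_zero]
  have hterm : ∀ (u : Module.End F (Fin a → F)) (T : Q →ₗ[F] (Fin a → F)),
      term σ Φ (mk u T h) (first a Q) = ev σ (Fin a → F) u * Φ Q h := by
    intro u T
    rw [term, dif_pos (hinv u T)]
    congr 1
    · rw [← ev_conj hσ _ _ e1 ((mk u T h).restrict (hinv u T))]
      congr 1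
      refine LinearMap.ext fun v => ?_
      simp [LinearEquiv.conj_apply, e1]
    · rw [← hΦ _ _ e2 _]
      congr 1
      refine LinearMap.ext fun q => ?_
      obtain ⟨p, rfl⟩ : ∃ p : (Fin a → F) × Q, p.2 = q := ⟨(0, q), rfl⟩
      have : e2.symm p.2 = Submodule.Quotient.mk p := by
        rw [LinearEquiv.symm_apply_eq]
        rfl
      rw [LinearEquiv.conj_apply]
      simp only [LinearMap.comp_apply, LinearEquiv.coe_coe, this, Submodule.mapQ_apply]
      rfl
  simp only [slot, hterm, Finset.sum_const, Finset.card_univ, nsmul_eq_mul]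
  rw [ipair_units hρ, Nat.card_eq_fintype_card (α := Q →ₗ[F] (Fin a → F)), Finset.mul_sum,
    Finset.mul_sum, Finset.sum_mul]
  have hc : (Nat.card (GL (Fin a) F) : ℂ) ≠ 0 := Nat.cast_ne_zero.mpr Nat.card_pos.ne'
  refine Finset.sum_congr rfl fun u _ => ?_
  field_simp

/-- The subspace meeting the first block trivially given by a graph. -/
def graph (Wb : Submodule F Q) (L : Wb →ₗ[F] (Fin a → F)) : Submodule F ((Fin a → F) × Q) :=
  LinearMap.range (L.prod Wb.subtype)

theorem mem_graph {Wb : Submodule F Q} {L : Wb →ₗ[F] (Fin a → F)} {p : (Fin a → F) × Q} :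
    p ∈ graph Wb L ↔ ∃ w : Wb, L w = p.1 ∧ (w : Q) = p.2 := by
  simp [graph, LinearMap.mem_range, Prod.ext_iff]

theorem graph_inf (Wb : Submodule F Q) (L : Wb →ₗ[F] (Fin a → F)) :
    graph Wb L ⊓ first a Q = ⊥ := by
  rw [Submodule.eq_bot_iff]
  intro p hp
  obtain ⟨hp1, hp2⟩ := Submodule.mem_inf.mp hp
  obtain ⟨w, h1, h2⟩ := mem_graph.mp hp1
  have hw : w = 0 := Subtype.ext (h2.trans (mem_first.mp hp2))
  exact Prod.ext (by rw [← h1, hw, map_zero]; rfl) (mem_first.mp hp2)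

theorem graph_map (Wb : Submodule F Q) (L : Wb →ₗ[F] (Fin a → F)) :
    (graph Wb L).map (LinearMap.snd F (Fin a → F) Q) = Wb := by
  ext q
  simp only [Submodule.mem_map, mem_graph, LinearMap.snd_apply]
  constructor
  · rintro ⟨p, ⟨w, -, h2⟩, rfl⟩
    exact h2 ▸ w.2
  · exact fun hq => ⟨(L ⟨q, hq⟩, q), ⟨⟨q, hq⟩, rfl, rfl⟩, rfl⟩

theorem sum_graph (f : Submodule F ((Fin a → F) × Q) → ℂ) :
    ∑ W ∈ Finset.univ.filter (fun W : Submodule F ((Fin a → F) × Q) => W ⊓ first a Q = ⊥), f W =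
      ∑ Wb : Submodule F Q, ∑ L : Wb →ₗ[F] (Fin a → F), f (graph Wb L) := by
  rw [Finset.sum_sigma']
  symm
  refine Finset.sum_bij (fun x _ => graph x.1 x.2) (fun x _ => ?_) ?_ ?_ (fun _ _ => rfl)
  · simp [graph_inf]
  · rintro ⟨Wb, L⟩ _ ⟨Wb', L'⟩ _ e
    have e1 : Wb = Wb' := by rw [← graph_map Wb L, ← graph_map Wb' L', e]
    subst e1
    refine congrArg _ (LinearMap.ext fun w => ?_)
    have : (L w, (w : Q)) ∈ graph Wb L' := e ▸ mem_graph.mpr ⟨w, rfl, rfl⟩
    obtain ⟨w', h1, h2⟩ := mem_graph.mp this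
    simp only at h1 h2
    rw [← h1, Subtype.ext h2]
  · intro W hW
    simp only [Finset.mem_filter, Finset.mem_univ, true_and] at hW
    let sndW : W →ₗ[F] W.map (LinearMap.snd F (Fin a → F) Q) :=
      (LinearMap.snd F (Fin a → F) Q).submoduleMap W
    have hinj : Function.Injective sndW := by
      rw [← LinearMap.ker_eq_bot, Submodule.eq_bot_iff]
      intro p hp
      have h2 : (p : (Fin a → F) × Q) ∈ W ⊓ first a Q :=
        Submodule.mem_inf.mpr ⟨p.2, congrArg Subtype.val (LinearMap.mem_ker.mp hp)⟩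
      rw [hW, Submodule.mem_bot] at h2
      exact Subtype.ext h2
    let E := LinearEquiv.ofBijective sndW
      ⟨hinj, (LinearMap.snd F (Fin a → F) Q).submoduleMap_surjective W⟩
    refine ⟨⟨_, LinearMap.fst F (Fin a → F) Q ∘ₗ W.subtype ∘ₗ E.symm.toLinearMap⟩, by simp, ?_⟩
    ext p
    rw [mem_graph]
    constructor
    · rintro ⟨w, h1, h2⟩
      have h3 : ((E.symm w : W) : (Fin a → F) × Q) = p := by
        refine Prod.ext h1 ?_
        rw [← h2]
        exact congrArg Subtype.val (E.apply_symm_apply w)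
      exact h3 ▸ (E.symm w).2
    · intro hp
      refine ⟨E ⟨p, hp⟩, ?_, rfl⟩
      simp

theorem slot_graph (hσ : IsClassFunction (GL (Fin b) F) σ) {Φ : Fam F} (hΦ : Inv Φ)
    (h : Module.End F Q) (Wb : Submodule F Q) (L : Wb →ₗ[F] (Fin a → F)) :
    slot σ ρ Φ h (graph Wb L) = slot σ ρ Φ h (graph Wb 0) := by
  obtain ⟨Lt, hLt⟩ := LinearMap.exists_extend L
  let θ : ((Fin a → F) × Q) ≃ₗ[F] ((Fin a → F) × Q) :=
    LinearEquiv.ofLinearMap (mk 1 Lt 1) (mk 1 (-Lt) 1)
      (LinearMap.ext fun p => Prod.ext (by simp) (by simp))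
      (LinearMap.ext fun p => Prod.ext (by simp) (by simp))
  have hθ : (graph Wb (0 : Wb →ₗ[F] (Fin a → F))).map (θ : _ →ₗ[F] _) = graph Wb L := by
    ext p
    simp only [Submodule.mem_map, mem_graph]
    constructor
    · rintro ⟨p', ⟨w, h1, h2⟩, rfl⟩
      refine ⟨w, ?_, ?_⟩
      · have hw : Lt (w : Q) = L w := LinearMap.congr_fun hLt w
        simp [θ, ← h1, ← h2, hw]
      · simp [θ, h2]
    · rintro ⟨w, h1, h2⟩
      refine ⟨(0, (w : Q)), ⟨w, rfl, rfl⟩, ?_⟩
      have hw : Lt (w : Q) = L w := LinearMap.congr_fun hLt w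
      exact Prod.ext (by simp [θ, hw, h1]) (by simp [θ, h2])
  simp only [slot]
  refine Finset.sum_congr rfl fun u _ => ?_
  refine Fintype.sum_equiv
    (Equiv.addRight ((u : Module.End F (Fin a → F)) ∘ₗ Lt - Lt ∘ₗ h)) _ _ fun T => ?_
  congr 1
  rw [term, term]
  refine indV_term_conj hσ hΦ θ _ (mk (u : Module.End F (Fin a → F)) T h)
    (fun p => ?_) _ _ hθ
  refine Prod.ext ?_ ?_
  · simp [θ]
    abel
  · simp [θ]

theorem card_hom_split (Wb : Submodule F Q) :
    Nat.card (Wb →ₗ[F] (Fin a → F)) * Nat.card ((Q ⧸ Wb) →ₗ[F] (Fin a → F)) =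
      Nat.card (Q →ₗ[F] (Fin a → F)) := by
  rw [Module.natCard_eq_pow_finrank (K := F) (V := Wb →ₗ[F] (Fin a → F)),
    Module.natCard_eq_pow_finrank (K := F) (V := (Q ⧸ Wb) →ₗ[F] (Fin a → F)),
    Module.natCard_eq_pow_finrank (K := F) (V := Q →ₗ[F] (Fin a → F)), ← pow_add]
  congr 1
  rw [Module.finrank_linearMap, Module.finrank_linearMap, Module.finrank_linearMap, ← add_mul,
    add_comm, Submodule.finrank_quotient_add_finrank]

theorem slot_graph_zero (hσ : IsClassFunction (GL (Fin b) F) σ)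
    (hρ : IsClassFunction (GL (Fin a) F) ρ) {Φ : Fam F} (hΦ : Inv Φ) (h : Module.End F Q)
    (Wb : Submodule F Q) :
    slot σ ρ Φ h (graph Wb 0) = (Nat.card (GL (Fin a) F) : ℂ) *
      (Nat.card ((Q ⧸ Wb) →ₗ[F] (Fin a → F)) : ℂ) * term σ (DV ρ Φ) h Wb := by
  set W0 := graph Wb (0 : Wb →ₗ[F] (Fin a → F)) with hW0
  have hW : ∀ p, p ∈ W0 ↔ p.1 = 0 ∧ p.2 ∈ Wb := by
    intro p
    rw [hW0, mem_graph]
    constructor
    · rintro ⟨w, h1, h2⟩
      exact ⟨h1.symm.trans (LinearMap.zero_apply _), h2 ▸ w.2⟩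
    · rintro ⟨h1, h2⟩
      exact ⟨⟨p.2, h2⟩, by rw [h1]; rfl, rfl⟩
  have hiff : ∀ (u : Module.End F (Fin a → F)) (T : Q →ₗ[F] (Fin a → F)),
      W0 ≤ W0.comap (mk u T h) ↔ Wb ≤ Wb.comap h ∧ Wb ≤ LinearMap.ker T := by
    intro u T
    constructor
    · intro hc
      refine ⟨fun q hq => ?_, fun q hq => ?_⟩ <;>
        have := (hW _).mp (hc ((hW (0, q)).mpr ⟨rfl, hq⟩))
      · simpa using this.2
      · simpa using this.1
    · rintro ⟨h1, h2⟩ p hp
      obtain ⟨hp1, hp2⟩ := (hW p).mp hp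
      refine (hW _).mpr ⟨?_, h1 hp2⟩
      simp [hp1, LinearMap.mem_ker.mp (h2 hp2)]
  by_cases hh : Wb ≤ Wb.comap h
  swap
  · rw [term_of_not hh, mul_zero]
    exact Finset.sum_eq_zero fun u _ => Finset.sum_eq_zero fun T _ => by
      rw [term_of_not fun hc => hh ((hiff _ T).mp hc).1, mul_zero]
  let e1 : W0 ≃ₗ[F] Wb :=
    { toFun := fun p => ⟨p.1.2, ((hW _).mp p.2).2⟩
      invFun := fun w => ⟨(0, (w : Q)), (hW _).mpr ⟨rfl, w.2⟩⟩
      left_inv := fun p => Subtype.ext (Prod.ext ((hW _).mp p.2).1.symm rfl)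
      right_inv := fun w => rfl
      map_add' := fun p q => rfl
      map_smul' := fun c p => rfl }
  let π : ((Fin a → F) × Q) →ₗ[F] (Fin a → F) × (Q ⧸ Wb) :=
    LinearMap.id.prodMap Wb.mkQ
  have hker : LinearMap.ker π = W0 := by
    ext p
    simp [π, hW, Prod.ext_iff]
  have hsurj : Function.Surjective π := fun p => by
    obtain ⟨q, hq⟩ := Submodule.Quotient.mk_surjective Wb p.2
    exact ⟨(p.1, q), Prod.ext rfl hq⟩
  let e2 : (((Fin a → F) × Q) ⧸ W0) ≃ₗ[F] (Fin a → F) × (Q ⧸ Wb) :=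
    (Submodule.quotEquivOfEq _ _ hker.symm).trans (π.quotKerEquivOfSurjective hsurj)
  have hterm : ∀ (u : Module.End F (Fin a → F)) (S : (Q ⧸ Wb) →ₗ[F] (Fin a → F)),
      term σ Φ (mk u (S ∘ₗ Wb.mkQ) h) W0 =
        ev σ Wb (h.restrict hh) * Φ ((Fin a → F) × (Q ⧸ Wb)) (mk u S (Wb.mapQ Wb h hh)) := by
    intro u S
    have hc : W0 ≤ W0.comap (mk u (S ∘ₗ Wb.mkQ) h) := (hiff _ _).mpr ⟨hh, fun q hq => by
      simp [(Submodule.Quotient.mk_eq_zero Wb).mpr hq]⟩
    rw [term, dif_pos hc]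
    congr 1
    · rw [← ev_conj hσ _ _ e1 _]
      congr 1
    · rw [← hΦ _ _ e2 _]
      congr 1
      refine LinearMap.ext fun p => ?_
      obtain ⟨p, rfl⟩ := hsurj p
      have : e2.symm (π p) = Submodule.Quotient.mk p := by
        rw [LinearEquiv.symm_apply_eq]
        rfl
      rw [LinearEquiv.conj_apply]
      simp only [LinearMap.comp_apply, LinearEquiv.coe_coe, this, Submodule.mapQ_apply]
      exact Prod.ext (by simp [e2, π]) (by simp [e2, π])
  have hT : ∀ u : Module.End F (Fin a → F),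
      ∑ T : Q →ₗ[F] (Fin a → F), term σ Φ (mk u T h) W0 =
        ∑ S : (Q ⧸ Wb) →ₗ[F] (Fin a → F), term σ Φ (mk u (S ∘ₗ Wb.mkQ) h) W0 := by
    intro u
    symm
    refine Finset.sum_bij_ne_zero (fun S _ _ => S ∘ₗ Wb.mkQ) (fun _ _ _ => Finset.mem_univ _) ?_ ?_
      (fun _ _ _ => rfl)
    · intro S _ _ S' _ _ e
      exact Submodule.linearMap_qext _ e
    · intro T _ hne
      by_cases hk : Wb ≤ LinearMap.ker T
      · exact ⟨Wb.liftQ T hk, Finset.mem_univ _, by rwa [Submodule.liftQ_mkQ],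
          Submodule.liftQ_mkQ _ _ _⟩
      · exact absurd (term_of_not fun hc => hk ((hiff u T).mp hc).2) hne
  simp only [slot, ← Finset.mul_sum, hT, hterm]
  have hc1 : (Nat.card (GL (Fin a) F) : ℂ) ≠ 0 := Nat.cast_ne_zero.mpr Nat.card_pos.ne'
  have hc2 : (Nat.card ((Q ⧸ Wb) →ₗ[F] (Fin a → F)) : ℂ) ≠ 0 :=
    Nat.cast_ne_zero.mpr Nat.card_pos.ne'
  rw [term, dif_pos hh, DV]
  simp only [Finset.mul_sum]
  rw [← sum_gl (fun y => ∑ S : (Q ⧸ Wb) →ₗ[F] (Fin a → F),
    conj (ev ρ (Fin a → F) y) * (ev σ Wb (h.restrict hh) *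
      Φ ((Fin a → F) × (Q ⧸ Wb)) (mk y S (Wb.mapQ Wb h hh))))]
  simp only [ev_toLin' hρ]
  refine Finset.sum_congr rfl fun g _ => Finset.sum_congr rfl fun S _ => ?_
  field_simp

/-- The derivation rule. -/
theorem DV_indV (hσ : IsCusp σ) (hρ : IsCusp ρ) (ha : 0 < a) {Φ : Fam F} (hΦ : Inv Φ)
    (h : Module.End F Q) :
    DV ρ (indV σ Φ) Q h = ipair σ ρ * Φ Q h + indV σ (DV ρ Φ) Q h := by
  rw [DV_eq_sum_slot hρ.classFun]
  set c := (Nat.card (GL (Fin a) F) : ℂ) * (Nat.card (Q →ₗ[F] (Fin a → F)) : ℂ) with hc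
  have hc0 : c ≠ 0 := mul_ne_zero (Nat.cast_ne_zero.mpr Nat.card_pos.ne')
    (Nat.cast_ne_zero.mpr Nat.card_pos.ne')
  have hfb : first (F := F) a Q ⊓ first a Q ≠ ⊥ := by
    rw [inf_idem]
    intro hb
    have : Nonempty (Fin a) := ⟨⟨0, ha⟩⟩
    obtain ⟨v, hv⟩ := exists_ne (0 : Fin a → F)
    have : ((v, 0) : (Fin a → F) × Q) ∈ first a Q := mem_first.mpr rfl
    rw [hb, Submodule.mem_bot] at this
    exact hv (congrArg Prod.fst this)
  have hsum : ∑ W : Submodule F ((Fin a → F) × Q), slot σ ρ Φ h W =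
      slot σ ρ Φ h (first a Q) +
        ∑ W ∈ Finset.univ.filter (fun W : Submodule F ((Fin a → F) × Q) => W ⊓ first a Q = ⊥),
          slot σ ρ Φ h W := by
    rw [← Finset.sum_filter_add_sum_filter_not Finset.univ
      (fun W : Submodule F ((Fin a → F) × Q) => W ⊓ first a Q = ⊥), add_comm]
    congr 1
    refine Finset.sum_eq_single_of_mem (first a Q)
      (Finset.mem_filter.mpr ⟨Finset.mem_univ _, hfb⟩) fun W hW hne => ?_
    simp only [Finset.mem_filter, Finset.mem_univ, true_and] at hW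
    by_cases h1 : first a Q ≤ W
    · exact slot_eq_zero_of_above hσ ha Φ h W h1 hne
    · exact slot_eq_zero_of_mid hρ Φ h W hW h1
  rw [hsum, sum_graph, slot_first hσ.classFun hρ.classFun hΦ, indV_eq_sum, mul_add]
  congr 1
  · rw [← hc]
    field_simp
  · rw [Finset.mul_sum]
    refine Finset.sum_congr rfl fun Wb _ => ?_
    rw [Finset.sum_congr rfl fun L _ =>
      (slot_graph hσ.classFun hΦ h Wb L).trans (slot_graph_zero hσ.classFun hρ.classFun hΦ h Wb),
      Finset.sum_const, Finset.card_univ, nsmul_eq_mul, ← Nat.card_eq_fintype_card, hc,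
      ← card_hom_split Wb, Nat.cast_mul]
    have h1 : (Nat.card (GL (Fin a) F) : ℂ) ≠ 0 := Nat.cast_ne_zero.mpr Nat.card_pos.ne'
    have h2 : (Nat.card (Wb →ₗ[F] (Fin a → F)) : ℂ) ≠ 0 := Nat.cast_ne_zero.mpr Nat.card_pos.ne'
    have h3 : (Nat.card ((Q ⧸ Wb) →ₗ[F] (Fin a → F)) : ℂ) ≠ 0 :=
      Nat.cast_ne_zero.mpr Nat.card_pos.ne'
    field_simp

end Deriv

end Cfsg.Agent.GLCusp
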