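import Mathlib
import Cfsg.Prelude.Def_Characters
import Cfsg.Agent.Lib.Char.Basic

/-!
# Class functions of general linear groups as functions of endomorphisms of finite vector spaces

A class function of `GL_b(F)` is evaluated at an endomorphism of any finite space (zero unless the
space has dimension `b` and the endomorphism is invertible). Parabolic induction and restriction
are sums over invariant subspaces and over extensions.
-/

set_option autoImplicit false
set_option linter.unusedSectionVars false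

namespace Cfsg.Agent.GLCusp

open Module Cfsg
open scoped ComplexConjugate Classical

universe u

variable {F : Type u} [Field F] [Fintype F]

attribute [local instance] Fintype.ofFinite

/-! ### Invertibility -/

section Units

variable {V : Type u} [AddCommGroup V] [Module F V] [Finite V]
variable {V' : Type u} [AddCommGroup V'] [Module F V'] [Finite V']

theorem isUnit_iff_injective (x : Module.End F V) : IsUnit x ↔ Function.Injective x := by
  rw [LinearMap.isUnit_iff_ker_eq_bot, LinearMap.ker_eq_bot]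

theorem isUnit_conj (e : V ≃ₗ[F] V') (x : Module.End F V) : IsUnit (e.conj x) ↔ IsUnit x := by
  rw [isUnit_iff_injective, isUnit_iff_injective, LinearEquiv.conj_apply]
  simp [EquivLike.comp_injective, EquivLike.injective_comp]

end Units

/-! ### Evaluation of a class function -/

variable (F) in
/-- Functions of endomorphisms, given on all finite spaces at once. -/
abbrev Fam : Type (u + 1) :=
  ∀ (V : Type u) [AddCommGroup V] [Module F V] [Finite V], Module.End F V → ℂ

/-- Invariance under isomorphisms of spaces. -/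
def Inv (Φ : Fam F) : Prop :=
  ∀ (V V' : Type u) [AddCommGroup V] [Module F V] [Finite V] [AddCommGroup V'] [Module F V']
    [Finite V'] (e : V ≃ₗ[F] V') (x : Module.End F V), Φ V' (e.conj x) = Φ V x

section Ev

variable {b : ℕ}

/-- The matrix of an invertible endomorphism in a basis. -/
noncomputable def toGL {V : Type u} [AddCommGroup V] [Module F V] (B : Basis (Fin b) F V) :
    (Module.End F V)ˣ ≃* GL (Fin b) F :=
  Units.mapEquiv (LinearMap.toMatrixAlgEquiv B).toMulEquiv

/-- Evaluation of a function on `GL_b`. -/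
noncomputable def ev (φ : GL (Fin b) F → ℂ) : Fam F := fun V _ _ _ x =>
  if h : IsUnit x ∧ finrank F V = b then φ (toGL (finBasisOfFinrankEq F V h.2) h.1.unit) else 0

variable {φ : GL (Fin b) F → ℂ} {V : Type u} [AddCommGroup V] [Module F V] [Finite V]
variable {V' : Type u} [AddCommGroup V'] [Module F V'] [Finite V']

theorem ev_of_not_isUnit {x : Module.End F V} (h : ¬ IsUnit x) : ev φ V x = 0 :=
  dif_neg fun h' => h h'.1

theorem ev_of_finrank_ne {x : Module.End F V} (h : finrank F V ≠ b) : ev φ V x = 0 :=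
  dif_neg fun h' => h h'.2

theorem toMatrix_change (B B' : Basis (Fin b) F V) (x : Module.End F V) :
    LinearMap.toMatrixAlgEquiv B' x =
      B'.toMatrix B * LinearMap.toMatrixAlgEquiv B x * B.toMatrix B' :=
  (basis_toMatrix_mul_linearMap_toMatrix_mul_basis_toMatrix B' B B' B x).symm

theorem ev_basis (hφ : IsClassFunction (GL (Fin b) F) φ) (B : Basis (Fin b) F V)
    {x : Module.End F V} (hx : IsUnit x) : ev φ V x = φ (toGL B hx.unit) := by
  have hb : finrank F V = b := by rw [finrank_eq_card_basis B, Fintype.card_fin]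
  rw [ev, dif_pos ⟨hx, hb⟩]
  set B' := finBasisOfFinrankEq F V hb
  let P : GL (Fin b) F := ⟨B'.toMatrix B, B.toMatrix B', B'.toMatrix_mul_toMatrix_flip B,
    B.toMatrix_mul_toMatrix_flip B'⟩
  have e : toGL B' hx.unit = P * toGL B hx.unit * P⁻¹ := Units.ext (toMatrix_change B B' x)
  rw [e, hφ]

theorem ev_conj (hφ : IsClassFunction (GL (Fin b) F) φ) : Inv (ev φ) := by
  intro V V' _ _ _ _ _ _ e x
  by_cases hx : IsUnit x
  · by_cases hb : finrank F V = b
    · let B := finBasisOfFinrankEq F V hb
      rw [ev_basis hφ (B.map e) ((isUnit_conj e x).mpr hx), ev_basis hφ B hx]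
      congr 1
      apply Units.ext
      ext i j
      simp [toGL, LinearMap.toMatrixAlgEquiv_apply, LinearEquiv.conj_apply]
    · rw [ev_of_finrank_ne hb, ev_of_finrank_ne]
      rwa [← e.finrank_eq]
  · rw [ev_of_not_isUnit hx, ev_of_not_isUnit (mt (isUnit_conj e x).mp hx)]

theorem ev_toLin' (hφ : IsClassFunction (GL (Fin b) F) φ) (g : GL (Fin b) F) :
    ev φ (Fin b → F) (Matrix.toLin' (g : Matrix (Fin b) (Fin b) F)) = φ g := by
  have hu : IsUnit (Matrix.toLinAlgEquiv' (g : Matrix (Fin b) (Fin b) F)) := g.isUnit.map _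
  change ev φ (Fin b → F) (Matrix.toLinAlgEquiv' (g : Matrix (Fin b) (Fin b) F)) = φ g
  rw [ev_basis hφ (Pi.basisFun F (Fin b)) hu]
  congr 1
  apply Units.ext
  ext i j
  simp [toGL, LinearMap.toMatrixAlgEquiv_apply, Matrix.toLinAlgEquiv'_apply]

end Ev

/-! ### Parabolic induction and restriction -/

section Ops

variable {a b : ℕ}

/-- Parabolic induction: the sum over invariant subspaces. -/
noncomputable def indV (σ : GL (Fin b) F → ℂ) (Φ : Fam F) : Fam F := fun V _ _ _ x =>
  ∑ W : Submodule F V,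
    if h : W ≤ W.comap x then ev σ W (x.restrict h) * Φ (V ⧸ W) (W.mapQ W x h) else 0

/-- A block triangular endomorphism of `A × Q`. -/
def mk {A Q : Type u} [AddCommGroup A] [Module F A] [AddCommGroup Q] [Module F Q]
    (g : Module.End F A) (T : Q →ₗ[F] A) (h : Module.End F Q) : Module.End F (A × Q) :=
  (g.coprod T).prod (h ∘ₗ LinearMap.snd F A Q)

@[simp] theorem mk_apply {A Q : Type u} [AddCommGroup A] [Module F A] [AddCommGroup Q] [Module F Q]
    (g : Module.End F A) (T : Q →ₗ[F] A) (h : Module.End F Q) (p : A × Q) :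
    mk g T h p = (g p.1 + T p.2, h p.2) := rfl

theorem mk_mul_mk {A Q : Type u} [AddCommGroup A] [Module F A] [AddCommGroup Q] [Module F Q]
    (g g' : Module.End F A) (T T' : Q →ₗ[F] A) (h h' : Module.End F Q) :
    mk g T h * mk g' T' h' = mk (g * g') (g ∘ₗ T' + T ∘ₗ h') (h * h') := by
  refine LinearMap.ext fun p => Prod.ext ?_ ?_
  · simp [map_add, add_assoc]
  · simp

theorem isUnit_mk {A Q : Type u} [AddCommGroup A] [Module F A] [AddCommGroup Q] [Module F Q]
    [Finite A] [Finite Q] {g : Module.End F A} (hg : IsUnit g) (T : Q →ₗ[F] A)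
    {h : Module.End F Q} (hh : IsUnit h) : IsUnit (mk g T h) := by
  rw [isUnit_iff_injective] at hg hh ⊢
  intro p p' e
  simp only [mk_apply, Prod.mk.injEq] at e
  have e2 := hh e.2
  rw [e2] at e
  exact Prod.ext (hg (by simpa using e.1)) e2

instance finite_linearMap {A Q : Type u} [AddCommGroup A] [Module F A] [AddCommGroup Q]
    [Module F Q] [Finite A] [Finite Q] : Finite (Q →ₗ[F] A) :=
  Finite.of_injective _ DFunLike.coe_injective

/-- Parabolic restriction against `ρ`. -/
noncomputable def DV (ρ : GL (Fin a) F → ℂ) (Φ : Fam F) : Fam F := fun Q _ _ _ h =>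
  ((Nat.card (GL (Fin a) F) : ℂ) * (Nat.card (Q →ₗ[F] (Fin a → F)) : ℂ))⁻¹ *
    ∑ g : GL (Fin a) F, ∑ T : Q →ₗ[F] (Fin a → F),
      conj (ρ g) * Φ ((Fin a → F) × Q) (mk (Matrix.toLin' (g : Matrix (Fin a) (Fin a) F)) T h)

/-- The inner product with `ρ` of a class function of possibly another degree. -/
noncomputable def ipair (σ : GL (Fin b) F → ℂ) (ρ : GL (Fin a) F → ℂ) : ℂ :=
  (Nat.card (GL (Fin a) F) : ℂ)⁻¹ *
    ∑ g : GL (Fin a) F, conj (ρ g) *
      ev σ (Fin a → F) (Matrix.toLin' (g : Matrix (Fin a) (Fin a) F))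

theorem ipair_self_degree {σ ρ : GL (Fin a) F → ℂ} (hσ : IsClassFunction (GL (Fin a) F) σ) :
    ipair σ ρ = classInner σ ρ := by
  simp only [ipair, classInner, ev_toLin' hσ, mul_comm]

theorem ipair_of_ne (σ : GL (Fin b) F → ℂ) (ρ : GL (Fin a) F → ℂ) (h : a ≠ b) :
    ipair σ ρ = 0 := by
  have : ∀ g : GL (Fin a) F, ev σ (Fin a → F) (Matrix.toLin' (g : Matrix (Fin a) (Fin a) F)) = 0 :=
    fun g => ev_of_finrank_ne (by rwa [finrank_fin_fun])
  simp [ipair, this]

end Ops

/-! ### Invariance -/

section Invariance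

variable {a b : ℕ}

theorem indV_term_conj {σ : GL (Fin b) F → ℂ} (hσ : IsClassFunction (GL (Fin b) F) σ) {Φ : Fam F}
    (hΦ : Inv Φ) {V V' : Type u} [AddCommGroup V] [Module F V] [Finite V] [AddCommGroup V']
    [Module F V'] [Finite V'] (e : V ≃ₗ[F] V') (x : Module.End F V) (x' : Module.End F V')
    (hxx : ∀ v, x' (e v) = e (x v)) (W : Submodule F V) (W' : Submodule F V')
    (hW : W.map (e : V →ₗ[F] V') = W') :
    (if h : W' ≤ W'.comap x' then ev σ W' (x'.restrict h) * Φ (V' ⧸ W') (W'.mapQ W' x' h) else 0) =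
      if h : W ≤ W.comap x then ev σ W (x.restrict h) * Φ (V ⧸ W) (W.mapQ W x h) else 0 := by
  subst hW
  have hiff : W.map (e : V →ₗ[F] V') ≤ (W.map (e : V →ₗ[F] V')).comap x' ↔ W ≤ W.comap x := by
    constructor
    · intro h v hv
      obtain ⟨w, hw, hw'⟩ := h (Submodule.mem_map_of_mem hv)
      simp only [LinearEquiv.coe_coe] at hw'
      rw [hxx] at hw'
      simpa [← e.injective hw'] using hw
    · rintro h _ ⟨v, hv, rfl⟩
      exact ⟨x v, h hv, (hxx v).symm⟩
  by_cases h : W ≤ W.comap x
  · rw [dif_pos h, dif_pos (hiff.mpr h)]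
    congr 1
    · rw [← ev_conj hσ _ _ (e.submoduleMap W) (x.restrict h)]
      congr 1
      refine LinearMap.ext fun w => Subtype.ext ?_
      obtain ⟨w, rfl⟩ := (e.submoduleMap W).surjective w
      simp [LinearEquiv.conj_apply, hxx]
    · rw [← hΦ _ _ (Submodule.Quotient.equiv W (W.map (e : V →ₗ[F] V')) e rfl) (W.mapQ W x h)]
      congr 1
      refine LinearMap.ext fun w => ?_
      obtain ⟨v, rfl⟩ := Submodule.Quotient.mk_surjective _ w
      obtain ⟨v, rfl⟩ := e.surjective v
      rw [LinearEquiv.conj_apply]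
      have : (Submodule.Quotient.equiv W (W.map (e : V →ₗ[F] V')) e rfl).symm
          (Submodule.Quotient.mk (e v)) = Submodule.Quotient.mk v := by
        rw [LinearEquiv.symm_apply_eq, Submodule.Quotient.equiv_apply]
        rfl
      simp [this, hxx]
  · rw [dif_neg h, dif_neg (mt hiff.mp h)]

theorem indV_inv {σ : GL (Fin b) F → ℂ} (hσ : IsClassFunction (GL (Fin b) F) σ) {Φ : Fam F}
    (hΦ : Inv Φ) : Inv (indV σ Φ) := by
  intro V V' _ _ _ _ _ _ e x
  simp only [indV]
  exact (Fintype.sum_equiv (Submodule.orderIsoMapComap e).toEquiv _ _ fun W =>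
    (indV_term_conj hσ hΦ e x _ (fun v => by simp [LinearEquiv.conj_apply]) W _ rfl).symm).symm

theorem DV_inv (ρ : GL (Fin a) F → ℂ) {Φ : Fam F} (hΦ : Inv Φ) : Inv (DV ρ Φ) := by
  intro Q Q' _ _ _ _ _ _ e h
  have hc : Nat.card (Q' →ₗ[F] (Fin a → F)) = Nat.card (Q →ₗ[F] (Fin a → F)) :=
    Nat.card_congr (e.congrLeft (Fin a → F) F).symm.toEquiv
  simp only [DV, hc]
  congr 1
  refine Finset.sum_congr rfl fun g _ => (Fintype.sum_equiv (e.congrLeft (Fin a → F) F).toEquiv _ _
    fun T => ?_).symm
  rw [← hΦ _ _ ((LinearEquiv.refl F (Fin a → F)).prodCongr e)]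
  congr 2

end Invariance

end Cfsg.Agent.GLCusp
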