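import Cfsg.Agent.Lib.Char.GLCusp.Lists
import Cfsg.Agent.Lib.Char.Convolution

/-!
# Every irreducible character lies in a product of cuspidal ones
-/

set_option autoImplicit false
set_option linter.unusedSectionVars false
set_option maxHeartbeats 800000

namespace Cfsg.Agent.GLCusp

open Module Cfsg Cfsg.Agent.Char
open scoped ComplexConjugate Classical

universe u

variable {F : Type u} [Field F] [Fintype F]

attribute [local instance] Fintype.ofFinite

theorem ev_res {m : ℕ} {Φ : Fam F} (hΦ : Inv Φ) {V : Type u} [AddCommGroup V] [Module F V]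
    [Finite V] {y : Module.End F V} (hy : IsUnit y) (hm : finrank F V = m) :
    ev (res m Φ) V y = Φ V y := by
  let e : V ≃ₗ[F] (Fin m → F) := LinearEquiv.ofFinrankEq _ _ (by rw [hm, finrank_fin_fun])
  rw [← ev_conj (res_classFun m hΦ) _ _ e y, ← hΦ _ _ e y]
  set g := (Units.mapEquiv Matrix.toLinAlgEquiv'.toMulEquiv).symm
    ((isUnit_conj e y).mpr hy).unit
  have hg : Matrix.toLin' (g : Matrix (Fin m) (Fin m) F) = e.conj y :=
    Matrix.toLinAlgEquiv'.apply_symm_apply _
  rw [← hg]
  exact ev_toLin' (res_classFun m hΦ) g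

theorem exists_finrank_eq {m j : ℕ} (hj : j ≤ m) :
    ∃ W : Submodule F (Fin m → F), finrank F W = j := by
  refine ⟨Submodule.span F (Set.range (Pi.basisFun F (Fin m) ∘ Fin.castLE hj)), ?_⟩
  rw [finrank_span_eq_card ((Pi.basisFun F (Fin m)).linearIndependent.comp _
    (Fin.castLE_injective hj)), Fintype.card_fin]

theorem IsCusp.std_sum {m : ℕ} {φ : GL (Fin m) F → ℂ} (h : IsCusp φ) {j : ℕ} (hj0 : 0 < j)
    (hjm : j < m) (g : GL (Fin m) F) : ∑ N : stdRad F m j, φ (g * stdUnip N) = 0 := by
  obtain ⟨W, hW⟩ := exists_finrank_eq (F := F) hjm.le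
  subst hW
  obtain ⟨B, hB⟩ := exists_sum_nil_eq_std h.classFun W (finrank_fin_fun F)
  have h1 := hB ((toGL B).symm g)
  rw [MulEquiv.apply_symm_apply] at h1
  rw [← h1]
  refine h.sum_zero _ W (fun e => ?_) (fun e => ?_) _
  · rw [e, finrank_bot] at hj0
    exact lt_irrefl 0 hj0
  · rw [e, finrank_top, finrank_fin_fun] at hjm
    exact lt_irrefl m hjm

/-- Constituents of a cuspidal class function are cuspidal. -/
theorem cusp_of_constituent {m : ℕ} {φ : GL (Fin m) F → ℂ} (hφ : IsCusp φ)
    {χ : GL (Fin m) F → ℂ} (hχ : IsIrrCharacter (GL (Fin m) F) χ) (hne : classInner φ χ ≠ 0) :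
    IsCusp χ := by
  refine isCusp_of_std (isClassFunction_character (irr_isCharacter hχ)) fun j hj0 hjm y => ?_
  refine sum_translate_eq_zero (irr_isCharacter hχ) ?_ y
  have hconj := fun g => char_inv (irr_isCharacter hχ) g
  obtain ⟨n, ρ, hirr, rfl⟩ := hχ
  set T : (Fin n → ℂ) →ₗ[ℂ] (Fin n → ℂ) := ∑ g : GL (Fin m) F, φ g • ρ g⁻¹ with hT
  have hcomm : ∀ k v, T (ρ k v) = ρ k (T v) := by
    intro k v
    simp only [hT, LinearMap.sum_apply, LinearMap.smul_apply, map_sum, map_smul]
    refine Fintype.sum_equiv (MulAut.conj k⁻¹).toEquiv _ _ fun g => ?_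
    rw [show (MulAut.conj k⁻¹).toEquiv g = k⁻¹ * g * k⁻¹⁻¹ from rfl, hφ.classFun g k⁻¹,
      ← Module.End.mul_apply, ← map_mul, ← Module.End.mul_apply, ← map_mul]
    congr 3
    group
  have htr : LinearMap.trace ℂ _ T = (Nat.card (GL (Fin m) F) : ℂ) * classInner φ ρ.character := by
    rw [hT, map_sum, classInner, ← mul_assoc,
      mul_inv_cancel₀ (Nat.cast_ne_zero.mpr Nat.card_pos.ne'), one_mul]
    refine Finset.sum_congr rfl fun g _ => ?_
    rw [map_smul, smul_eq_mul, ← hconj g]
    rfl
  have hsum : ∑ N : stdRad F m j, LinearMap.trace ℂ _ (T * ρ (stdUnip N)) = 0 := by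
    simp only [hT, Finset.sum_mul, map_sum, smul_mul_assoc, map_smul, smul_eq_mul, ← map_mul]
    rw [Finset.sum_congr rfl fun N _ => (Fintype.sum_equiv (Equiv.mulLeft (stdUnip N))
      (fun k => φ (stdUnip N * k) * LinearMap.trace ℂ _ (ρ k⁻¹)) _ fun k => ?_).symm]
    · rw [Finset.sum_comm]
      refine Finset.sum_eq_zero fun k _ => ?_
      rw [← Finset.sum_mul]
      have e : ∀ N : stdRad F m j, φ (stdUnip N * k) = φ (k * stdUnip N) := fun N => by
        rw [← hφ.classFun (stdUnip N * k) k]
        group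
      rw [Finset.sum_congr rfl fun N _ => e N, hφ.std_sum hj0 hjm, zero_mul]
    · rw [Equiv.coe_mulLeft]
      congr 2
      rw [mul_inv_rev, inv_mul_cancel_right]
  have h2 : LinearMap.trace ℂ _ T * ∑ N : stdRad F m j, ρ.character (stdUnip N) = 0 := by
    rw [Finset.mul_sum, ← Finset.sum_congr rfl fun N _ => trace_mul_of_comm ρ T hcomm (stdUnip N),
      ← Finset.mul_sum, hsum, mul_zero]
  refine (mul_eq_zero.mp h2).resolve_left ?_
  rw [htr]
  exact mul_ne_zero (Nat.cast_ne_zero.mpr Nat.card_pos.ne') hne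

/-- Every irreducible character lies in some product. -/
theorem exists_support : ∀ (n : ℕ) (χ : IrrCharacter (GL (Fin n) F)),
    ∃ l : List (Atom F), coeff l χ ≠ 0 := by
  intro n
  induction n using Nat.strong_induction_on with
  | _ n ih =>
  intro χ
  have hχc := irr_isCharacter χ.2
  have hχf := isClassFunction_character hχc
  rcases Nat.eq_zero_or_pos n with h0 | hn
  · subst h0
    refine ⟨[], fun hc => ?_⟩
    have h1 := coeff_spec ([] : List (Atom F)) χ
    rw [hc, classInner, Fintype.sum_subsingleton _ (1 : GL (Fin 0) F),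
      show res 0 (prodV ([] : List (Atom F))) (1 : GL (Fin 0) F) = 1 from if_pos (finrank_fin_fun F),
      one_mul] at h1
    simp [irr_one_ne_zero χ.2] at h1
  have hP : ∃ m, 0 < m ∧ m ≤ n ∧ (m = n ∨
      ∑ N : stdRad F n m, (χ : GL (Fin n) F → ℂ) (stdUnip N) ≠ 0) :=
    ⟨n, hn, le_rfl, Or.inl rfl⟩
  obtain ⟨hm0, hmn, hm⟩ := Nat.find_spec hP
  have hmin : ∀ j, 0 < j → j < Nat.find hP → ∀ y : GL (Fin n) F,
      ∑ N : stdRad F n j, (χ : GL (Fin n) F → ℂ) (y * stdUnip N) = 0 := by
    intro j hj0 hj y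
    refine sum_translate_eq_zero hχc ?_ y
    by_contra hne
    exact Nat.find_min hP hj ⟨hj0, by omega, Or.inr hne⟩
  generalize Nat.find hP = m at hm0 hmn hm hmin
  obtain ⟨c, rfl⟩ := Nat.exists_eq_add_of_le hmn
  set E : Fam F := ev (χ : GL (Fin (m + c)) F → ℂ) with hE
  have hEi : Inv E := ev_conj hχf
  let phiV : Fam F := fun V _ _ _ y =>
    ∑ T : (Fin c → F) →ₗ[F] V, E (V × (Fin c → F)) (mk y T 1)
  have hphi : Inv phiV := by
    intro V V' _ _ _ _ _ _ e y
    refine (Fintype.sum_equiv ((LinearEquiv.refl F (Fin c → F)).arrowCongr e).toEquiv _ _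
      fun T => ?_).symm
    rw [← hEi _ _ (e.prodCongr (LinearEquiv.refl F (Fin c → F)))]
    congr 1
    refine LinearMap.ext fun p => ?_
    simp [LinearEquiv.conj_apply]
  set φ := res m phiV with hφ
  have hcusp : IsCusp φ := by
    refine ⟨res_classFun m hphi, fun V _ _ _ W hbot htop y => ?_⟩
    by_cases hm' : finrank F V = m
    swap
    · exact Finset.sum_eq_zero fun N _ => ev_of_finrank_ne hm'
    by_cases hy : IsUnit y
    swap
    · refine Finset.sum_eq_zero fun N _ => ev_of_not_isUnit fun hu => hy ?_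
      obtain ⟨w, hw⟩ := isUnit_one_add N.2
      rw [← hw] at hu
      exact (Units.isUnit_mul_units y w).mp hu
    rw [Finset.sum_congr rfl fun N _ => ev_res hphi (hy.mul (isUnit_one_add N.2)) hm']
    set W' : Submodule F (V × (Fin c → F)) := W.prod ⊥ with hW'
    have hW'r : finrank F W' = finrank F W := by
      let e : W' ≃ₗ[F] W :=
        { toFun := fun p => ⟨p.1.1, p.2.1⟩
          invFun := fun w => ⟨((w : V), 0), w.2, Submodule.zero_mem _⟩
          left_inv := fun p => Subtype.ext (Prod.ext rfl ((Submodule.mem_bot F).mp p.2.2).symm)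
          right_inv := fun w => rfl
          map_add' := fun p q => rfl
          map_smul' := fun c p => rfl }
      exact e.finrank_eq
    have hrange : ∀ (N : nilSub W) (K : (Fin c → F) →ₗ[F] W),
        mk (N : Module.End F V) (W.subtype ∘ₗ K) 0 ∈ nilSub W' := by
      intro N K
      refine ⟨fun p => ⟨W.add_mem (N.2.1 _) (K p.2).2, Submodule.zero_mem _⟩, fun p hp => ?_⟩
      simp [(Submodule.mem_bot F).mp hp.2, N.2.2 _ hp.1]
    have hx : ∀ T : (Fin c → F) →ₗ[F] V,
        ∑ p : nilSub W × ((Fin c → F) →ₗ[F] W),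
          E (V × (Fin c → F)) (mk y T 1 * (1 + mk (p.1 : Module.End F V) (W.subtype ∘ₗ p.2) 0)) = 0 := by
      intro T
      let L : nilSub W × ((Fin c → F) →ₗ[F] W) →+ nilSub W' :=
        AddMonoidHom.mk' (fun p => ⟨mk (p.1 : Module.End F V) (W.subtype ∘ₗ p.2) 0, hrange p.1 p.2⟩)
          fun p q => by
            refine Subtype.ext (LinearMap.ext fun v => Prod.ext ?_ ?_)
            · simp
              abel
            · simp
      have hL : Function.Surjective L := by
        rintro ⟨M, hM1, hM2⟩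
        refine ⟨(⟨LinearMap.fst F V _ ∘ₗ M ∘ₗ LinearMap.inl F V _, fun v => (hM1 _).1,
          fun w hw => congrArg Prod.fst (hM2 _ (show (w, (0 : Fin c → F)) ∈ W' from
            ⟨hw, Submodule.zero_mem _⟩))⟩,
          (LinearMap.fst F V _ ∘ₗ M ∘ₗ LinearMap.inr F V _).codRestrict W fun q => (hM1 _).1), ?_⟩
        refine Subtype.ext (LinearMap.ext fun p => Prod.ext ?_ ?_)
        · change (M (p.1, 0)).1 + (M (0, p.2)).1 = (M p).1
          rw [← Prod.fst_add, ← map_add]
          simp
        · exact ((Submodule.mem_bot F).mp (hM1 p).2).symm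
      have h1 := sum_comp_addHom L hL fun M : nilSub W' =>
        E (V × (Fin c → F)) (mk y T 1 * (1 + M))
      rw [hE, sum_nil_of_std hχf (fun g => hmin (finrank F W)
        (pos_iff_ne_zero.mpr fun h0 => hbot (Submodule.finrank_eq_zero.mp h0))
        (hm' ▸ Submodule.finrank_lt htop) g) W' hW'r, mul_zero, ← hE] at h1
      exact h1
    have hK : (Nat.card ((Fin c → F) →ₗ[F] W) : ℂ) * ∑ N : nilSub W, phiV V (y * (1 + N)) = 0 := by
      rw [Nat.card_eq_fintype_card, ← nsmul_eq_mul, ← Finset.card_univ, ← Finset.sum_const]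
      have e : ∀ (N : nilSub W) (K : (Fin c → F) →ₗ[F] W), phiV V (y * (1 + N)) =
          ∑ T : (Fin c → F) →ₗ[F] V,
            E (V × (Fin c → F)) (mk y T 1 * (1 + mk (N : Module.End F V) (W.subtype ∘ₗ K) 0)) := by
        intro N K
        refine (Fintype.sum_equiv (Equiv.addRight (y ∘ₗ W.subtype ∘ₗ K)) _ _ fun T => ?_).symm
        congr 1
        refine LinearMap.ext fun p => Prod.ext ?_ ?_
        · simp [map_add]
          abel
        · simp
      rw [Finset.sum_comm, Finset.sum_congr rfl fun N _ => Finset.sum_congr rfl fun K _ => e N K,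
        ← Fintype.sum_prod_type', Finset.sum_comm]
      exact Finset.sum_eq_zero fun T _ => hx T
    exact (mul_eq_zero.mp hK).resolve_left (Nat.cast_ne_zero.mpr Nat.card_pos.ne')
  have hφne : φ ≠ 0 := by
    intro h
    have h1 := congrFun h 1
    change (∑ T : (Fin c → F) →ₗ[F] (Fin m → F),
      E ((Fin m → F) × (Fin c → F)) (mk (Matrix.toLin' (1 : GL (Fin m) F).val) T 1)) = 0 at h1
    rw [Units.val_one, Matrix.toLin'_one] at h1
    let A1 : Submodule F (Mod2 F m c) := A0
    have hA : finrank F A1 = m := by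
      have h1 := LinearMap.finrank_range_add_finrank_ker (LinearMap.snd F (Fin m → F) (Fin c → F))
      rw [LinearMap.range_eq_top.mpr Prod.snd_surjective, finrank_top, finrank_fin_fun,
        finrank_mod2] at h1
      change finrank F (LinearMap.ker (LinearMap.snd F (Fin m → F) (Fin c → F))) = m
      omega
    let S : ((Fin c → F) →ₗ[F] (Fin m → F)) ≃ nilSub A1 :=
      { toFun := fun T => ⟨mk 0 T 0, fun p => mem_first.mpr rfl, fun p hp => by
          simp [mem_first.mp hp]⟩
        invFun := fun M => LinearMap.fst F _ _ ∘ₗ (M : Module.End F (Mod2 F m c)) ∘ₗ LinearMap.inr F _ _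
        left_inv := fun T => by
          refine LinearMap.ext fun w => ?_
          simp
        right_inv := fun M => by
          refine Subtype.ext (LinearMap.ext fun p => Prod.ext ?_ ?_)
          · have h0 : (M : Module.End F (Mod2 F m c)) (p.1, 0) = 0 := M.2.2 _ (mem_first.mpr rfl)
            have hp : p = (p.1, 0) + (0, p.2) := by simp
            conv_rhs => rw [hp, map_add, h0, zero_add]
            simp
          · exact (mem_first.mp (M.2.1 p)).symm }
    have h2 : ∑ M : nilSub A1, E (Mod2 F m c) (1 + M) = 0 := by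
      rw [← h1]
      refine (Fintype.sum_equiv S _ _ fun T => ?_).symm
      congr 1
      refine LinearMap.ext fun p => Prod.ext ?_ ?_
      · simp [S]
      · simp [S]
    obtain ⟨B, hB⟩ := exists_sum_nil_eq_std hχf A1 (finrank_mod2 (F := F) (a := m) (c := c))
    have h3 := hB 1
    simp only [Units.val_one, one_mul, map_one] at h3
    rw [← hE, h2] at h3
    rw [hA] at h3
    rcases hm with hmc | hne
    · obtain rfl : c = 0 := by omega
      have hs : ∀ N : stdRad F (m + 0) m, stdUnip N = 1 := fun N => by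
        apply Units.ext
        change (1 : Matrix (Fin (m + 0)) (Fin (m + 0)) F) + N.1 = 1
        rw [add_eq_left]
        ext i j
        exact N.2 i j (by omega)
      simp [hs, irr_one_ne_zero χ.2] at h3
    · exact hne h3.symm
  obtain ⟨d, rfl⟩ : ∃ d, m = d + 1 := ⟨m - 1, by omega⟩
  obtain ⟨χ', hχ'⟩ : ∃ χ' : IrrCharacter (GL (Fin (d + 1)) F),
      classInner φ (χ' : GL (Fin (d + 1)) F → ℂ) ≠ 0 := by
    by_contra hall
    push Not at hall
    exact hφne (classFun_eq_zero hcusp.classFun hall)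
  let a : Atom F := ⟨d, χ'.1, χ'.2, cusp_of_constituent hcusp χ'.2 hχ'⟩
  set D : Fam F := DV (χ' : GL (Fin (d + 1)) F → ℂ) E with hD
  have hDf : IsClassFunction (GL (Fin c) F) (res c D) := res_classFun c (DV_inv _ hEi)
  have hD1 : res c D ≠ 0 := by
    intro h
    have h1 := congrFun h 1
    rw [res, hD, Units.val_one, Matrix.toLin'_one, DV] at h1
    simp only [Pi.zero_apply, mul_eq_zero, inv_eq_zero, Nat.cast_eq_zero, Nat.card_pos.ne',
      false_or] at h1
    apply hχ'
    rw [classInner]
    refine mul_eq_zero_of_right _ (Eq.trans ?_ h1)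
    refine Finset.sum_congr rfl fun g _ => ?_
    rw [hφ, res, Finset.sum_mul]
    exact Finset.sum_congr rfl fun T _ => mul_comm _ _
  obtain ⟨π, hπ⟩ : ∃ π : IrrCharacter (GL (Fin c) F),
      classInner (res c D) (π : GL (Fin c) F → ℂ) ≠ 0 := by
    by_contra hall
    push Not at hall
    exact hD1 (classFun_eq_zero hDf hall)
  obtain ⟨r, hr⟩ := ih c (by omega) π
  refine ⟨a :: r, fun hzero => ?_⟩
  have hnat : ∀ π' : IrrCharacter (GL (Fin c) F),
      ∃ k : ℕ, classInner (π' : GL (Fin c) F → ℂ) (res c D) = k := by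
    intro π'
    have hπ'f := isClassFunction_character (irr_isCharacter π'.2)
    obtain ⟨k, hk⟩ := inner_indV_natCast (c := c) (irr_isCharacter χ'.2) (ev_conj hπ'f)
      (by rw [res_ev hπ'f]; exact irr_isCharacter π'.2) hχc
    refine ⟨k, ?_⟩
    rw [inner_indV (isClassFunction_character (irr_isCharacter χ'.2)) (ev_conj hπ'f) hEi, inner,
      res_ev hπ'f] at hk
    exact hk
  choose k hk using hnat
  have h1 := coeff_spec (a :: r) χ
  rw [hzero, Nat.cast_zero] at h1
  have h2 : inner (d + 1 + c) (indV (χ' : GL (Fin (d + 1)) F → ℂ) (prodV r)) E = 0 := by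
    rw [inner, hE, res_ev hχf]
    exact h1
  rw [inner_indV (isClassFunction_character (irr_isCharacter χ'.2)) (prodV_inv r) hEi, inner,
    classFun_expansion (res_classFun c (prodV_inv r)), classInner_sum_left] at h2
  have h3 : ∑ π' : IrrCharacter (GL (Fin c) F), ((coeff r π' * k π' : ℕ) : ℂ) = 0 := by
    rw [← h2]
    refine Finset.sum_congr rfl fun π' _ => ?_
    rw [classInner_smul_left, coeff_spec, hk, Nat.cast_mul]
  rw [← Nat.cast_sum, Nat.cast_eq_zero, Finset.sum_eq_zero_iff] at h3
  have h4 := h3 π (Finset.mem_univ π)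
  rcases mul_eq_zero.mp h4 with h5 | h5
  · exact hr h5
  · apply hπ
    rw [← classInner_symm, hk, h5, Nat.cast_zero, map_zero]

end Cfsg.Agent.GLCusp
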