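import Cfsg.Agent.Lib.Char.GLCusp.Unipotent

/-!
# The Whittaker coefficient of a parabolically induced family is multiplicative
-/

set_option autoImplicit false
set_option linter.unusedSectionVars false
set_option maxHeartbeats 800000

namespace Cfsg.Agent.GLCusp

open Module Cfsg
open scoped ComplexConjugate Classical

universe u

variable {F : Type u} [Field F] [Fintype F]

attribute [local instance] Fintype.ofFinite

/-- The vectors supported on the first `k` coordinates. -/
def low (n k : ℕ) : Submodule F (Fin n → F) where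
  carrier := {v | ∀ i : Fin n, k ≤ i.val → v i = 0}
  add_mem' := fun h h' i hi => by simp [h i hi, h' i hi]
  zero_mem' := fun i _ => rfl
  smul_mem' := fun c v h i hi => by simp [h i hi]

theorem low_mono {n k l : ℕ} (h : k ≤ l) : low (F := F) n k ≤ low n l :=
  fun _ hv i hi => hv i (h.trans hi)

theorem low_top (n : ℕ) : low (F := F) n n = ⊤ :=
  eq_top_iff.mpr fun v _ i hi => absurd i.2 (not_lt.mpr hi)

theorem finrank_low_le (n k : ℕ) (hk : k ≤ n) : finrank F (low (F := F) n k) ≤ k := by
  let L : low (F := F) n k →ₗ[F] (Fin k → F) :=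
    { toFun := fun v i => v.1 (Fin.castLE hk i)
      map_add' := fun _ _ => rfl
      map_smul' := fun _ _ => rfl }
  have hL : Function.Injective L := by
    intro v w e
    refine Subtype.ext (funext fun i => ?_)
    by_cases hi : i.val < k
    · exact congrFun e ⟨i.val, hi⟩
    · rw [v.2 i (not_lt.mp hi), w.2 i (not_lt.mp hi)]
  simpa using LinearMap.finrank_le_finrank_of_injective hL

theorem term_eq_zero_of_finrank {b : ℕ} {σ : GL (Fin b) F → ℂ} {Φ : Fam F} {V : Type u}
    [AddCommGroup V] [Module F V] [Finite V] {x : Module.End F V} {W : Submodule F V}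
    (h : finrank F W ≠ b) : term σ Φ x W = 0 := by
  by_cases hW : W ≤ W.comap x
  · rw [term, dif_pos hW, ev_of_finrank_ne h, zero_mul]
  · exact term_of_not hW

theorem exists_jump {n c b : ℕ} (W : Submodule F (Fin n → F)) (hn : n = c + b)
    (hW : finrank F W = b) (hne : W ⊓ low n c ≠ ⊥) :
    ∃ (k k' : Fin n) (w : Fin n → F), k'.val = k.val + 1 ∧ w ∈ W ∧ w k ≠ 0 ∧
      w ∈ low n (k.val + 1) ∧ (Pi.single k' (1 : F)) ∉ W ⊔ low n (k.val + 1) := by
  by_contra hcon
  push Not at hcon
  obtain ⟨v, hv, hv0⟩ := Submodule.exists_mem_ne_zero_of_ne_bot hne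
  obtain ⟨hvW, hvE⟩ := Submodule.mem_inf.mp hv
  have hsupp : (Finset.univ.filter fun i : Fin n => v i ≠ 0).Nonempty := by
    by_contra h
    apply hv0
    funext i
    by_contra hi
    exact h ⟨i, by simpa using hi⟩
  set k0 := (Finset.univ.filter fun i : Fin n => v i ≠ 0).max' hsupp with hk0
  have hk0v : v k0 ≠ 0 := by simpa using Finset.max'_mem _ hsupp
  have hk0c : k0.val < c := by
    by_contra h
    exact hk0v (hvE k0 (not_lt.mp h))
  have hvlow : v ∈ low n (k0.val + 1) := by
    intro i hi
    by_contra h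
    have := Fin.le_def.mp (Finset.le_max' (Finset.univ.filter fun i : Fin n => v i ≠ 0) i
      (by simpa using h))
    rw [← hk0] at this
    omega
  -- every coordinate from `k0` on is a pivot
  have hpiv : ∀ m, ∀ i : Fin n, i.val = k0.val + m →
      ∃ w ∈ W, w i ≠ 0 ∧ w ∈ low n (i.val + 1) := by
    intro m
    induction m with
    | zero =>
      intro i hi
      obtain rfl : i = k0 := Fin.ext (by omega)
      exact ⟨v, hvW, hk0v, hvlow⟩
    | succ m ih =>
      intro i hi
      have hprev : i.val - 1 < n := by omega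
      obtain ⟨w, hwW, hwk, hwlow⟩ := ih ⟨i.val - 1, hprev⟩ (by simp; omega)
      have hmem := hcon ⟨i.val - 1, hprev⟩ i w (by simp; omega) hwW hwk hwlow
      obtain ⟨w', hw', e, he, heq⟩ := Submodule.mem_sup.mp hmem
      refine ⟨w', hw', ?_, fun j hj => ?_⟩
      · have h1 := congrFun heq i
        rw [Pi.add_apply, he i (by simp; omega), add_zero, Pi.single_eq_same] at h1
        rw [h1]
        exact one_ne_zero
      · have h1 := congrFun heq j
        rwa [Pi.add_apply, he j (by simp; omega), add_zero,
          Pi.single_eq_of_ne (fun e => by rw [e] at hj; omega)] at h1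
  have hall : ∀ m, k0.val + m ≤ n → low (F := F) n (k0.val + m) ≤ W ⊔ low n k0.val := by
    intro m
    induction m with
    | zero => exact fun _ => le_sup_right
    | succ m ih =>
      intro hm u hu
      obtain ⟨w, hwW, hwi, hwlow⟩ := hpiv m ⟨k0.val + m, by omega⟩ rfl
      set i : Fin n := ⟨k0.val + m, by omega⟩
      have hrest : u - (u i / w i) • w ∈ low n (k0.val + m) := by
        intro j hj
        by_cases hji : j = i
        · subst hji
          simp [div_mul_cancel₀ _ hwi]
        · have hlt : k0.val + m + 1 ≤ j.val := by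
            have : j.val ≠ k0.val + m := fun e => hji (Fin.ext e)
            omega
          simp [hu j (by omega), hwlow j hlt]
      have : u = (u i / w i) • w + (u - (u i / w i) • w) := by abel
      rw [this]
      exact Submodule.add_mem _ (Submodule.mem_sup_left (W.smul_mem _ hwW))
        (ih (by omega) hrest)
  have htop : W ⊔ low n k0.val = ⊤ := by
    rw [eq_top_iff, ← low_top n]
    simpa [Nat.add_sub_cancel' k0.2.le] using hall (n - k0.val) (by omega)
  have h1 := Submodule.finrank_add_le_finrank_add_finrank W (low (F := F) n k0.val)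
  rw [htop, finrank_top, finrank_fin_fun] at h1
  have h2 := finrank_low_le (F := F) n k0.val k0.2.le
  omega

theorem sum_whittaker_eq_zero {n c b : ℕ} (θ : AddChar F ℂ) (hθ : θ ≠ 0)
    (σ : GL (Fin b) F → ℂ) (Φ : Fam F) (W : Submodule F (Fin n → F)) (hn : n = c + b)
    (hne : W ⊓ low n c ≠ ⊥) :
    ∑ u : uni F n, conj (psi θ u) *
      term σ Φ (Matrix.toLin' (u.1 : Matrix (Fin n) (Fin n) F)) W = 0 := by
  by_cases hW : finrank F W = b
  swap
  · exact Finset.sum_eq_zero fun u _ => by rw [term_eq_zero_of_finrank hW, mul_zero]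
  obtain ⟨k, k', w, hk', hwW, hwk, hwlow, hnot⟩ := exists_jump W hn hW hne
  obtain ⟨lam, hlam, hlamW⟩ := Submodule.exists_dual_map_eq_bot_of_notMem hnot inferInstance
  have hlam0 : ∀ x ∈ W ⊔ low n (k.val + 1), lam x = 0 := fun x hx => by
    have : lam x ∈ (W ⊔ low n (k.val + 1)).map lam := Submodule.mem_map_of_mem hx
    rwa [hlamW, Submodule.mem_bot] at this
  obtain ⟨x0, hx0⟩ := (AddChar.ne_zero_iff).mp hθ
  set t := x0 / (w k * lam (Pi.single k' 1)) with ht
  let K : Matrix (Fin n) (Fin n) F := Matrix.of fun i j => t * w i * lam (Pi.single j 1)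
  have hKlow : ∀ i j : Fin n, j ≤ i → K i j = 0 := by
    intro i j hji
    by_cases hi : i.val ≤ k.val
    · have : (Pi.single j (1 : F) : Fin n → F) ∈ low n (k.val + 1) := fun l hl =>
        Pi.single_eq_of_ne (fun e => by rw [e] at hl; have := Fin.le_def.mp hji; omega) _
      simp [K, hlam0 _ (Submodule.mem_sup_right this)]
    · simp [K, hwlow i (by omega)]
  have hKuni : IsUni (1 + K) := fun i j hji => by
    rw [Matrix.add_apply, hKlow i j hji, add_zero, Matrix.one_apply]
  have hKlin : ∀ v, Matrix.toLin' K v = (t * lam v) • w := by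
    intro v
    funext i
    rw [Matrix.toLin'_apply]
    have hlv : lam v = ∑ j, v j * lam (Pi.single j 1) := by
      conv_lhs => rw [pi_eq_sum_univ' v]
      simp [map_sum]
    simp only [K, Matrix.mulVec, dotProduct, Matrix.of_apply, Pi.smul_apply, smul_eq_mul, hlv,
      Finset.mul_sum, Finset.sum_mul]
    exact Finset.sum_congr rfl fun j _ => by ring
  have hnil : Matrix.toLin' K ∈ nilSub W := by
    refine ⟨fun v => ?_, fun v hv => ?_⟩
    · rw [hKlin]
      exact W.smul_mem _ hwW
    · rw [hKlin, hlam0 v (Submodule.mem_sup_left hv), mul_zero, zero_smul]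
  have hdet : (1 + K).det = 1 := by
    rw [Matrix.det_of_isUpperTriangular (M := 1 + K) (fun i j hij => hKuni.apply_lt hij)]
    exact Finset.prod_eq_one fun i _ => hKuni.apply_eq i
  let z : uni F n := ⟨Matrix.GeneralLinearGroup.mkOfDetNeZero (1 + K)
    (by rw [hdet]; exact one_ne_zero), hKuni⟩
  have hz : psi θ z ≠ 1 := by
    change θ (sup1 (1 + K)) ≠ 1
    have hs : sup1 (1 + K) = x0 := by
      have hsa : sup1 (1 + K) = sup1 K := by
        refine Finset.sum_congr rfl fun i _ => Finset.sum_congr rfl fun j _ => ?_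
        split_ifs with hij
        · rw [Matrix.add_apply, Matrix.one_apply_ne fun e => by rw [e] at hij; omega, zero_add]
        · rfl
      rw [hsa, sup1, Finset.sum_eq_single k, Finset.sum_eq_single k', if_pos hk']
      · simp only [K, Matrix.of_apply, ht]
        field_simp
      · intro j _ hj
        rw [if_neg fun e => hj (Fin.ext (by omega))]
      · simp
      · intro i _ hi
        refine Finset.sum_eq_zero fun j _ => ?_
        split_ifs with hij
        · by_cases hik : i.val < k.val
          · have : (Pi.single j (1 : F) : Fin n → F) ∈ low n (k.val + 1) := fun l hl =>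
              Pi.single_eq_of_ne (fun e => by rw [e] at hl; omega) _
            simp [K, hlam0 _ (Submodule.mem_sup_right this)]
          · have : i.val ≠ k.val := fun e => hi (Fin.ext e)
            simp [K, hwlow i (by omega)]
        · rfl
      · simp
    rw [hs]
    exact hx0
  set S := ∑ u : uni F n, conj (psi θ u) *
    term σ Φ (Matrix.toLin' (u.1 : Matrix (Fin n) (Fin n) F)) W with hS
  have hshift : S = conj (psi θ z) * S := by
    conv_lhs => rw [hS, ← Equiv.sum_comp (Equiv.mulRight z)]
    rw [hS, Finset.mul_sum]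
    refine Finset.sum_congr rfl fun u _ => ?_
    have e1 : Matrix.toLin' (((u * z : uni F n).1 : GL (Fin n) F) : Matrix (Fin n) (Fin n) F) =
        Matrix.toLin' (u.1 : Matrix (Fin n) (Fin n) F) * (1 + Matrix.toLin' K) := by
      change Matrix.toLinAlgEquiv' ((u.1 : Matrix (Fin n) (Fin n) F) * (1 + K)) = _
      rw [map_mul, map_add, map_one]
      rfl
    rw [Equiv.coe_mulRight, map_mul, map_mul, e1, term_mul_one_add σ Φ _ W hnil]
    ring
  have h1 : (1 - conj (psi θ z)) * S = 0 := by rw [sub_mul, one_mul, ← hshift, sub_self]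
  refine (mul_eq_zero.mp h1).resolve_left fun h => hz ?_
  rw [sub_eq_zero] at h
  have := congrArg conj h.symm
  simpa using this

section Blocks

variable {c b : ℕ}

/-- Coordinates of `Fin (c + b)` as blocks. -/
def blk (A : Matrix (Fin c) (Fin c) F) (B : Matrix (Fin c) (Fin b) F)
    (C : Matrix (Fin b) (Fin c) F) (D : Matrix (Fin b) (Fin b) F) :
    Matrix (Fin (c + b)) (Fin (c + b)) F :=
  Matrix.reindexAlgEquiv F F finSumFinEquiv (Matrix.fromBlocks A B C D)

@[simp] theorem blk_ll (A : Matrix (Fin c) (Fin c) F) (B C) (D : Matrix (Fin b) (Fin b) F)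
    (i j : Fin c) : blk A B C D (Fin.castAdd b i) (Fin.castAdd b j) = A i j := by simp [blk]

@[simp] theorem blk_lr (A : Matrix (Fin c) (Fin c) F) (B C) (D : Matrix (Fin b) (Fin b) F)
    (i : Fin c) (j : Fin b) : blk A B C D (Fin.castAdd b i) (Fin.natAdd c j) = B i j := by simp [blk]

@[simp] theorem blk_rl (A : Matrix (Fin c) (Fin c) F) (B C) (D : Matrix (Fin b) (Fin b) F)
    (i : Fin b) (j : Fin c) : blk A B C D (Fin.natAdd c i) (Fin.castAdd b j) = C i j := by simp [blk]

@[simp] theorem blk_rr (A : Matrix (Fin c) (Fin c) F) (B C) (D : Matrix (Fin b) (Fin b) F)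
    (i j : Fin b) : blk A B C D (Fin.natAdd c i) (Fin.natAdd c j) = D i j := by simp [blk]

theorem blk_mul (A A' : Matrix (Fin c) (Fin c) F) (B B' C C') (D D' : Matrix (Fin b) (Fin b) F) :
    blk A B C D * blk A' B' C' D' =
      blk (A * A' + B * C') (A * B' + B * D') (C * A' + D * C') (C * B' + D * D') := by
  simp only [blk, ← map_mul, Matrix.fromBlocks_multiply]

theorem blk_one : blk (1 : Matrix (Fin c) (Fin c) F) 0 0 (1 : Matrix (Fin b) (Fin b) F) = 1 := by
  simp [blk, Matrix.fromBlocks_one]

theorem isUni_blk {A : Matrix (Fin c) (Fin c) F} {B : Matrix (Fin c) (Fin b) F}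
    {D : Matrix (Fin b) (Fin b) F} (hA : IsUni A) (hD : IsUni D) : IsUni (blk A B 0 D) := by
  intro i j hji
  induction i using Fin.addCases with
  | left i =>
    induction j using Fin.addCases with
    | left j =>
      have h : j ≤ i := by
        have := Fin.le_def.mp hji
        simp at this
        exact Fin.le_def.mpr (by omega)
      simp [hA i j h]
    | right j =>
      rw [Fin.le_def] at hji
      simp at hji
      omega
  | right i =>
    induction j using Fin.addCases with
    | left j => simp [Fin.ext_iff]; omega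
    | right j =>
      have h : j ≤ i := by
        have := Fin.le_def.mp hji
        simp at this
        exact Fin.le_def.mpr (by omega)
      simp [hD i j h]

/-- A block element of the unitriangular group. -/
noncomputable def uniBlk (u : uni F c) (B : Matrix (Fin c) (Fin b) F) (v : uni F b) :
    uni F (c + b) := by
  have h : IsUni (blk (u.1 : Matrix (Fin c) (Fin c) F) B 0 (v.1 : Matrix (Fin b) (Fin b) F)) :=
    isUni_blk u.2 v.2
  have hdet : (blk (u.1 : Matrix (Fin c) (Fin c) F) B 0 (v.1 : Matrix (Fin b) (Fin b) F)).det = 1 := by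
    rw [Matrix.det_of_isUpperTriangular
      (M := blk (u.1 : Matrix (Fin c) (Fin c) F) B 0 (v.1 : Matrix (Fin b) (Fin b) F))
      (fun i j hij => h.apply_lt hij)]
    exact Finset.prod_eq_one fun i _ => h.apply_eq i
  exact ⟨Matrix.GeneralLinearGroup.mkOfDetNeZero
    (blk (u.1 : Matrix (Fin c) (Fin c) F) B 0 (v.1 : Matrix (Fin b) (Fin b) F))
    (hdet.symm ▸ one_ne_zero), h⟩

theorem uniBlk_val (u : uni F c) (B : Matrix (Fin c) (Fin b) F) (v : uni F b) :
    ((uniBlk u B v).1 : Matrix (Fin (c + b)) (Fin (c + b)) F) =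
      blk (u.1 : Matrix (Fin c) (Fin c) F) B 0 (v.1 : Matrix (Fin b) (Fin b) F) := rfl

theorem sup1_blk_diag (A : Matrix (Fin c) (Fin c) F) (D : Matrix (Fin b) (Fin b) F) :
    sup1 (blk A 0 0 D) = sup1 A + sup1 D := by
  simp only [sup1, Fin.sum_univ_add, blk_ll, blk_lr, blk_rl, blk_rr, Matrix.zero_apply, ite_self,
    Fin.val_castAdd, Fin.val_natAdd, Finset.sum_const_zero, add_zero, zero_add, add_assoc,
    add_right_inj]

end Blocks

/-- Multiplicativity of the Whittaker coefficient. -/
theorem gV_indV {c b : ℕ} (θ : AddChar F ℂ) (hθ : θ ≠ 0) {σ : GL (Fin b) F → ℂ}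
    (hσ : IsClassFunction (GL (Fin b) F) σ) {Φ : Fam F} (hΦ : Inv Φ) :
    gV θ (c + b) (indV σ Φ) = gV θ b (ev σ) * gV θ c Φ := by
  set n := c + b with hn
  let uL : Matrix (Fin c) (Fin b) F → uni F n := fun L => uniBlk 1 L 1
  let lu : Matrix (Fin c) (Fin b) F → ((Fin n → F) ≃ₗ[F] (Fin n → F)) := fun L =>
    Matrix.toLin'OfInv (uL L).1.inv_mul (uL L).1.mul_inv
  let W0 : Submodule F (Fin n → F) :=
    { carrier := {v | ∀ i : Fin c, v (Fin.castAdd b i) = 0}
      add_mem' := fun h h' i => by simp [h i, h' i]
      zero_mem' := fun i => rfl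
      smul_mem' := fun r v h i => by simp [h i] }
  have hlu : ∀ L v, lu L v = (blk 1 L 0 1).mulVec v := fun L v => by
    simp [lu, Matrix.toLin'OfInv, uL, uniBlk_val]
  have hmv : ∀ (A : Matrix (Fin c) (Fin c) F) B (C : Matrix (Fin b) (Fin c) F) D (v : Fin n → F),
      (∀ i : Fin c, (blk A B C D).mulVec v (Fin.castAdd b i) =
        A.mulVec (fun j => v (Fin.castAdd b j)) i + B.mulVec (fun j => v (Fin.natAdd c j)) i) ∧
      (∀ i : Fin b, (blk A B C D).mulVec v (Fin.natAdd c i) =
        C.mulVec (fun j => v (Fin.castAdd b j)) i + D.mulVec (fun j => v (Fin.natAdd c j)) i) := by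
    intro A B C D v
    constructor <;> intro i <;> simp [Matrix.mulVec, dotProduct, Fin.sum_univ_add, n]
  let e1 : W0 ≃ₗ[F] (Fin b → F) :=
    { toFun := fun v j => v.1 (Fin.natAdd c j)
      invFun := fun x => ⟨Fin.addCases (fun _ => 0) x, fun i => Fin.addCases_left i⟩
      left_inv := fun v => by
        refine Subtype.ext (funext fun i => ?_)
        induction i using Fin.addCases with
        | left i => simp [v.2 i]
        | right i => simp
      right_inv := fun x => funext fun j => by simp
      map_add' := fun _ _ => rfl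
      map_smul' := fun _ _ => rfl }
  let π : (Fin n → F) →ₗ[F] (Fin c → F) :=
    { toFun := fun v i => v (Fin.castAdd b i)
      map_add' := fun _ _ => rfl
      map_smul' := fun _ _ => rfl }
  have hker : LinearMap.ker π = W0 := by
    ext v
    exact funext_iff
  have hsurj : Function.Surjective π := fun x => ⟨Fin.addCases x (fun _ => 0),
    funext fun i => by simp [π]⟩
  let e2 : ((Fin n → F) ⧸ W0) ≃ₗ[F] (Fin c → F) :=
    (Submodule.quotEquivOfEq _ _ hker.symm).trans (π.quotKerEquivOfSurjective hsurj)
  have hW0b : finrank F W0 = b := by rw [e1.finrank_eq, finrank_fin_fun]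
  -- a summand at the coordinate complement
  have hterm : ∀ (u : uni F c) (B : Matrix (Fin c) (Fin b) F) (v : uni F b),
      term σ Φ (Matrix.toLin' ((uniBlk u B v).1 : Matrix (Fin n) (Fin n) F)) W0 =
        if B = 0 then σ v.1 * res c Φ u.1 else 0 := by
    intro u B v
    set x := Matrix.toLin' ((uniBlk u B v).1 : Matrix (Fin n) (Fin n) F)
    have hxv : ∀ w, x w = (blk (u.1 : Matrix (Fin c) (Fin c) F) B 0
        (v.1 : Matrix (Fin b) (Fin b) F)).mulVec w := fun w => by
      simp [x, uniBlk_val]
    by_cases hB : B = 0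
    · subst hB
      have hinv : W0 ≤ W0.comap x := by
        intro w hw i
        rw [hxv, (hmv _ _ _ _ w).1 i]
        have : (fun j : Fin c => w (Fin.castAdd b j)) = 0 := funext hw
        simp [this]
      rw [if_pos rfl, term, dif_pos hinv]
      congr 1
      · rw [← ev_conj hσ _ _ e1 _]
        have : e1.conj (x.restrict hinv) = Matrix.toLin' (v.1 : Matrix (Fin b) (Fin b) F) := by
          refine LinearMap.ext fun y => funext fun j => ?_
          change x (e1.symm y).1 (Fin.natAdd c j) = _
          rw [hxv, (hmv _ _ _ _ _).2 j]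
          simp [e1]
        rw [this, ev_toLin' hσ]
      · rw [res, ← hΦ _ _ e2 _]
        congr 1
        refine LinearMap.ext fun y => ?_
        obtain ⟨w, rfl⟩ := hsurj y
        have : e2.symm (π w) = Submodule.Quotient.mk w := by
          rw [LinearEquiv.symm_apply_eq]
          rfl
        rw [LinearEquiv.conj_apply]
        simp only [LinearMap.comp_apply, LinearEquiv.coe_coe, this, Submodule.mapQ_apply]
        funext i
        change x w (Fin.castAdd b i) = _
        rw [hxv, (hmv _ _ _ _ w).1 i]
        simp [π]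
    · rw [if_neg hB]
      refine term_of_not fun hinv => hB ?_
      ext i j
      let w := e1.symm (Pi.single j 1)
      have h1 := hinv w.2 i
      rw [hxv, (hmv _ _ _ _ _).1 i] at h1
      simpa [w, e1, Matrix.mulVec, dotProduct, Pi.single_apply] using h1
  let Φb : uni F c × Matrix (Fin c) (Fin b) F × uni F b → uni F n := fun p => uniBlk p.1 p.2.1 p.2.2
  have hΦinj : Function.Injective Φb := by
    rintro ⟨u, B, v⟩ ⟨u', B', v'⟩ e
    have e' := congrArg (fun x : uni F n => (x.1 : Matrix (Fin n) (Fin n) F)) e
    simp only [Φb, uniBlk_val] at e'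
    refine Prod.ext (Subtype.ext (Units.ext (Matrix.ext fun i j => ?_)))
      (Prod.ext (Matrix.ext fun i j => ?_) (Subtype.ext (Units.ext (Matrix.ext fun i j => ?_))))
    · simpa using congrFun (congrFun e' (Fin.castAdd b i)) (Fin.castAdd b j)
    · simpa using congrFun (congrFun e' (Fin.castAdd b i)) (Fin.natAdd c j)
    · simpa using congrFun (congrFun e' (Fin.natAdd c i)) (Fin.natAdd c j)
  have hexp : (∑ j : Fin n, j.val) = (∑ j : Fin c, j.val) + ((∑ j : Fin b, j.val) + c * b) := by
    simp only [n, Fin.sum_univ_add, Fin.val_castAdd, Fin.val_natAdd, Finset.sum_add_distrib,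
      Finset.sum_const, Finset.card_univ, Fintype.card_fin, smul_eq_mul]
    ring
  have hcardMat : Nat.card (Matrix (Fin c) (Fin b) F) = Fintype.card F ^ (c * b) := by
    rw [Nat.card_eq_fintype_card]
    change Fintype.card (Fin c → Fin b → F) = _
    simp [← pow_mul, mul_comm]
  have hcard : Nat.card (uni F n) =
      Nat.card (uni F c) * (Nat.card (Matrix (Fin c) (Fin b) F) * Nat.card (uni F b)) := by
    rw [card_uni, card_uni, card_uni, hcardMat, ← pow_add, ← pow_add, hexp]
    congr 1
    ring
  have hΦbij : Function.Bijective Φb := by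
    rw [Fintype.bijective_iff_injective_and_card]
    refine ⟨hΦinj, ?_⟩
    rw [← Nat.card_eq_fintype_card, ← Nat.card_eq_fintype_card, Nat.card_prod, Nat.card_prod, hcard]
  have hS0 : ∑ x : uni F n, conj (psi θ x) * term σ Φ (Matrix.toLin' (x.1 : Matrix _ _ F)) W0 =
      (∑ v : uni F b, conj (psi θ v) * σ v.1) * ∑ u : uni F c, conj (psi θ u) * res c Φ u.1 := by
    rw [← (Equiv.ofBijective Φb hΦbij).sum_comp, Fintype.sum_prod_type, Finset.mul_sum]
    refine Finset.sum_congr rfl fun u _ => ?_
    rw [Fintype.sum_prod_type, Finset.sum_eq_single 0, Finset.sum_mul]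
    · refine Finset.sum_congr rfl fun v _ => ?_
      simp only [Equiv.ofBijective_apply, Φb, hterm, if_true]
      have : psi θ (uniBlk u (0 : Matrix (Fin c) (Fin b) F) v) = psi θ u * psi θ v := by
        change θ (sup1 (blk _ _ _ _)) = θ _ * θ _
        rw [sup1_blk_diag, θ.map_add_eq_mul]
      rw [this, map_mul]
      ring
    · intro B _ hB
      exact Finset.sum_eq_zero fun v _ => by
        simp only [Equiv.ofBijective_apply, Φb, hterm, if_neg hB, mul_zero]
    · simp
  -- complements are translates of `W0`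
  let Wof : Matrix (Fin c) (Fin b) F → Submodule F (Fin n → F) := fun L =>
    W0.map (lu L : (Fin n → F) →ₗ[F] (Fin n → F))
  have hmemW : ∀ L y, y ∈ Wof L ↔
      (fun i : Fin c => y (Fin.castAdd b i)) = L.mulVec (fun j => y (Fin.natAdd c j)) := by
    intro L y
    constructor
    · rintro ⟨w, hw, rfl⟩
      have h0 : (fun j : Fin c => w (Fin.castAdd b j)) = 0 := funext hw
      funext i
      simp only [LinearEquiv.coe_coe, hlu, (hmv _ _ _ _ w).1, (hmv _ _ _ _ w).2]
      simp [h0]
    · intro hy
      refine ⟨Fin.addCases (fun _ => 0) fun j => y (Fin.natAdd c j), fun i => Fin.addCases_left i, ?_⟩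
      funext i
      induction i using Fin.addCases with
      | left i =>
        simp only [LinearEquiv.coe_coe, hlu, (hmv _ _ _ _ _).1]
        simp only [Fin.addCases_left, Fin.addCases_right]
        rw [congrFun hy i, Matrix.one_mulVec, zero_add]
      | right i =>
        simp only [LinearEquiv.coe_coe, hlu, (hmv _ _ _ _ _).2]
        simp
  have hWb : ∀ L, finrank F (Wof L) = b := fun L => by
    rw [← ((lu L).submoduleMap W0).finrank_eq, hW0b]
  have hSW : ∀ L, ∑ x : uni F n, conj (psi θ x) *
      term σ Φ (Matrix.toLin' (x.1 : Matrix _ _ F)) (Wof L) =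
      ∑ x : uni F n, conj (psi θ x) * term σ Φ (Matrix.toLin' (x.1 : Matrix _ _ F)) W0 := by
    intro L
    refine (Fintype.sum_equiv (MulAut.conj (uL L)).toEquiv _ _ fun x => ?_).symm
    rw [show (MulAut.conj (uL L)).toEquiv x = uL L * x * (uL L)⁻¹ from rfl, psi_conj]
    congr 1
    rw [term, term]
    refine (indV_term_conj hσ hΦ (lu L) _ _ (fun v => ?_) W0 (Wof L) rfl).symm
    simp [lu, Matrix.toLin'OfInv, Matrix.mulVec_mulVec, mul_assoc]
  rw [gV, gV, gV]
  simp only [res, indV_eq_sum, Finset.mul_sum]
  rw [Finset.sum_comm]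
  simp only [← Finset.mul_sum]
  rw [← Finset.sum_filter_add_sum_filter_not Finset.univ
    (fun W : Submodule F (Fin n → F) => finrank F W = b ∧ W ⊓ low n c = ⊥)]
  have hrest : ∑ W ∈ Finset.univ.filter
      (fun W : Submodule F (Fin n → F) => ¬ (finrank F W = b ∧ W ⊓ low n c = ⊥)),
      ∑ x : uni F n, conj (psi θ x) * term σ Φ (Matrix.toLin' (x.1 : Matrix _ _ F)) W = 0 := by
    refine Finset.sum_eq_zero fun W hW => ?_
    simp only [Finset.mem_filter, Finset.mem_univ, true_and, not_and] at hW
    by_cases h : finrank F W = b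
    · exact sum_whittaker_eq_zero θ hθ σ Φ W rfl (hW h)
    · exact Finset.sum_eq_zero fun u _ => by rw [term_eq_zero_of_finrank h, mul_zero]
  have hgood : ∑ W ∈ Finset.univ.filter
      (fun W : Submodule F (Fin n → F) => finrank F W = b ∧ W ⊓ low n c = ⊥),
      ∑ x : uni F n, conj (psi θ x) * term σ Φ (Matrix.toLin' (x.1 : Matrix _ _ F)) W =
      ∑ L : Matrix (Fin c) (Fin b) F, ∑ x : uni F n, conj (psi θ x) *
        term σ Φ (Matrix.toLin' (x.1 : Matrix _ _ F)) W0 := by
    symm
    rw [Finset.sum_congr rfl fun L _ => (hSW L).symm]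
    refine Finset.sum_bij (fun L _ => Wof L) (fun L _ => ?_) ?_ ?_ (fun _ _ => rfl)
    · simp only [Finset.mem_filter, Finset.mem_univ, true_and]
      refine ⟨hWb L, (Submodule.eq_bot_iff _).mpr fun y hy => ?_⟩
      obtain ⟨h1, h2⟩ := Submodule.mem_inf.mp hy
      have h0 : (fun j : Fin b => y (Fin.natAdd c j)) = 0 := funext fun j => h2 _ (by simp)
      have h3 := (hmemW L y).mp h1
      rw [h0, Matrix.mulVec_zero] at h3
      funext i
      induction i using Fin.addCases with
      | left i => exact congrFun h3 i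
      | right i => exact congrFun h0 i
    · intro L _ L' _ e
      ext i j
      let y : Fin n → F := Fin.addCases (fun i => L i j) (Pi.single j 1)
      have hy : ∀ M : Matrix (Fin c) (Fin b) F, y ∈ Wof M ↔ (fun i => L i j) = fun i => M i j := by
        intro M
        rw [hmemW]
        simp [y, Matrix.col]
        exact Iff.rfl
      have := (hy L').mp (e ▸ (hy L).mpr rfl)
      exact congrFun this i
    · intro W hW
      simp only [Finset.mem_filter, Finset.mem_univ, true_and] at hW
      let ρW : W →ₗ[F] (Fin b → F) :=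
        { toFun := fun w j => w.1 (Fin.natAdd c j)
          map_add' := fun _ _ => rfl
          map_smul' := fun _ _ => rfl }
      have hinj : Function.Injective ρW := by
        rw [← LinearMap.ker_eq_bot, Submodule.eq_bot_iff]
        intro w hw
        have : (w : Fin n → F) ∈ W ⊓ low n c := Submodule.mem_inf.mpr ⟨w.2, fun i hi => by
          induction i using Fin.addCases with
          | left i => simp at hi; omega
          | right i => exact congrFun (LinearMap.mem_ker.mp hw) i⟩
        rw [hW.2, Submodule.mem_bot] at this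
        exact Subtype.ext this
      let E := LinearEquiv.ofBijective ρW ⟨hinj, (LinearMap.injective_iff_surjective_of_finrank_eq_finrank
        (by rw [hW.1, finrank_fin_fun])).mp hinj⟩
      let Lmap : (Fin b → F) →ₗ[F] (Fin c → F) := π ∘ₗ W.subtype ∘ₗ E.symm.toLinearMap
      refine ⟨LinearMap.toMatrix' Lmap, Finset.mem_univ _, ?_⟩
      refine Submodule.eq_of_le_of_finrank_eq (fun y hy => ?_) (by rw [hWb, hW.1])
      rw [hmemW, ← Matrix.toLin'_apply, Matrix.toLin'_toMatrix'] at hy
      set x : Fin b → F := fun j => y (Fin.natAdd c j)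
      have : y = ((E.symm x : W) : Fin n → F) := by
        funext i
        induction i using Fin.addCases with
        | left i => exact congrFun hy i
        | right i => exact (congrFun (E.apply_symm_apply x) i).symm
      rw [this]
      exact (E.symm x).2
  rw [hgood, hrest, add_zero, hS0, Finset.sum_const, Finset.card_univ, nsmul_eq_mul,
    ← Nat.card_eq_fintype_card, hcard]
  have hne : ∀ m, (Nat.card (uni F m) : ℂ) ≠ 0 := fun m => Nat.cast_ne_zero.mpr Nat.card_pos.ne'
  have hM : (Nat.card (Matrix (Fin c) (Fin b) F) : ℂ) ≠ 0 :=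
    Nat.cast_ne_zero.mpr Nat.card_pos.ne'
  have e : ∀ v : uni F b, ev σ (Fin b → F) (Matrix.toLin' (v.1 : Matrix (Fin b) (Fin b) F)) = σ v.1 :=
    fun v => ev_toLin' hσ v.1
  simp only [e, res]
  push_cast
  field_simp

end Cfsg.Agent.GLCusp
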