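import Cfsg.Agent.Lib.Char.GLCusp.Bessel
import Cfsg.Agent.Lib.Char.GLCusp.Support
import Cfsg.Agent.Lib.Char.GLCusp.Whittaker
import Cfsg.Agent.Lib.Char.GLCusp.Degree
import Mathlib.Analysis.Fourier.FiniteAbelian.PontryaginDuality

/-!
# Generic characters and multisets of cuspidal characters

Every product of cuspidal characters has exactly one generic constituent; the generic characters
are counted by the norm of the Gelfand-Graev character.
-/

set_option autoImplicit false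
set_option linter.unusedSectionVars false

namespace Cfsg.Agent.GLCusp

open Module Cfsg Cfsg.Agent.Char
open scoped ComplexConjugate Classical

universe u

variable {F : Type u} [Field F] [Fintype F]

attribute [local instance] Fintype.ofFinite

variable (F) in
theorem exists_theta : ∃ θ : AddChar F ℂ, θ ≠ 0 := by
  obtain ⟨ψ, hψ⟩ := AddChar.exists_apply_ne_zero.mpr (one_ne_zero (α := F))
  exact ⟨ψ, fun h => hψ (by rw [h, AddChar.zero_apply])⟩

theorem gco_eq_gV {n : ℕ} (θ : AddChar F ℂ) (χ : IrrCharacter (GL (Fin n) F)) :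
    (gco θ χ : ℂ) = gV θ n (ev (χ : GL (Fin n) F → ℂ)) := by
  rw [gV, res_ev (isClassFunction_character (irr_isCharacter χ.2)), gco_eq]

/-- The irreducible character of an atom. -/
def Atom.irr (a : Atom F) : IrrCharacter (GL (Fin (a.1 + 1)) F) := ⟨a.2.1, a.2.2.1⟩

theorem gco_cusp {n : ℕ} (hn : 1 ≤ n) (θ : AddChar F ℂ) (hθ : θ ≠ 0)
    (χ : IrrCharacter (GL (Fin n) F)) (hχ : IsCusp (χ : GL (Fin n) F → ℂ)) :
    gco θ χ = 1 := by
  have h := cusp_degree hn θ hθ hχ
  rw [← gco_eq_gV] at h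
  refine le_antisymm (gco_le_one θ hθ χ) (Nat.one_le_iff_ne_zero.mpr fun h0 => irr_one_ne_zero χ.2 ?_)
  rw [h, h0, Nat.cast_zero, zero_mul]

theorem cusp_one {n : ℕ} (hn : 1 ≤ n) (θ : AddChar F ℂ) (hθ : θ ≠ 0)
    (χ : IrrCharacter (GL (Fin n) F)) (hχ : IsCusp (χ : GL (Fin n) F → ℂ)) :
    (χ : GL (Fin n) F → ℂ) 1 = ∏ i ∈ Finset.Ico 1 n, ((Fintype.card F : ℂ) ^ i - 1) := by
  rw [cusp_degree hn θ hθ hχ, ← gco_eq_gV, gco_cusp hn θ hθ χ hχ, Nat.cast_one, one_mul]

theorem gV_prodV (θ : AddChar F ℂ) (hθ : θ ≠ 0) :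
    ∀ l : List (Atom F), gV θ (wtSum l) (prodV l) = 1
  | [] => by
    have : Subsingleton (uni F (wtSum ([] : List (Atom F)))) :=
      ⟨fun u v => Subtype.ext (Units.ext (by ext i; exact absurd i.2 (by simp [wtSum])))⟩
    rw [gV, Fintype.sum_subsingleton _ (1 : uni F (wtSum ([] : List (Atom F)))),
      Nat.card_unique, map_one, map_one, one_mul, res, prodV, unitFam,
      if_pos (by rw [finrank_fin_fun]; rfl)]
    simp
  | a :: r => by
    have hw : wtSum (a :: r) = wtSum r + (a.1 + 1) := by simp [wtSum, wt]; omega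
    rw [hw, prodV, gV_indV θ hθ (atom_classFun a) (prodV_inv r), gV_prodV θ hθ r, mul_one]
    have h := gco_cusp (Nat.le_add_left 1 a.1) θ hθ a.irr a.2.2.2
    rw [← Nat.cast_inj (R := ℂ), gco_eq_gV, Nat.cast_one] at h
    exact h

theorem sum_coeff_gco {n : ℕ} (θ : AddChar F ℂ) (hθ : θ ≠ 0) {l : List (Atom F)}
    (hl : wtSum l = n) :
    ∑ χ : IrrCharacter (GL (Fin n) F), coeff l χ * gco θ χ = 1 := by
  have h : ∀ u, res n (prodV l) u =
      ∑ χ : IrrCharacter (GL (Fin n) F), (coeff l χ : ℂ) * (χ : GL (Fin n) F → ℂ) u := fun u => by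
    conv_lhs => rw [classFun_expansion (res_classFun n (prodV_inv l))]
    rw [Finset.sum_apply]
    refine Finset.sum_congr rfl fun χ _ => ?_
    rw [Pi.smul_apply, smul_eq_mul, coeff_spec]
  have h1 := gV_prodV θ hθ l
  rw [hl, gV] at h1
  rw [← Nat.cast_inj (R := ℂ), Nat.cast_one, ← h1, Nat.cast_sum]
  simp only [h, Finset.mul_sum, Nat.cast_mul, gco_eq]
  rw [Finset.sum_comm]
  refine Finset.sum_congr rfl fun u _ => Finset.sum_congr rfl fun χ _ => ?_
  ring

theorem exists_generic {n : ℕ} (θ : AddChar F ℂ) (hθ : θ ≠ 0) {l : List (Atom F)}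
    (hl : wtSum l = n) :
    ∃! χ : IrrCharacter (GL (Fin n) F), coeff l χ ≠ 0 ∧ gco θ χ ≠ 0 := by
  have h := sum_coeff_gco θ hθ hl
  obtain ⟨χ, -, hne⟩ := Finset.exists_ne_zero_of_sum_ne_zero (h.symm ▸ one_ne_zero)
  refine ⟨χ, ⟨left_ne_zero_of_mul hne, right_ne_zero_of_mul hne⟩, fun χ' hχ' => ?_⟩
  by_contra hd
  have hne' := mul_ne_zero hχ'.1 hχ'.2
  have h2 := Finset.sum_le_sum_of_subset
    (f := fun x => coeff l x * gco θ x) (Finset.subset_univ {χ', χ})
  rw [Finset.sum_pair hd, h] at h2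
  omega

variable (F) in
/-- The multisets of cuspidal characters of total degree `n`. -/
abbrev Msets (n : ℕ) : Type u := {s : Multiset (Atom F) // (s.map wt).sum = n}

theorem card_generic {n : ℕ} (θ : AddChar F ℂ) (hθ : θ ≠ 0) :
    Nat.card (Msets F n) = Nat.card {χ : IrrCharacter (GL (Fin n) F) // gco θ χ ≠ 0} := by
  choose L hL using fun χ : IrrCharacter (GL (Fin n) F) => exists_support n χ
  have hsum : ∀ χ : IrrCharacter (GL (Fin n) F), ((↑(L χ) : Multiset (Atom F)).map wt).sum = n :=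
    fun χ => by
      rw [Multiset.map_coe, Multiset.sum_coe]
      exact wtSum_of_coeff (hL χ)
  refine (Nat.card_congr (Equiv.ofBijective
    (fun χ : {χ : IrrCharacter (GL (Fin n) F) // gco θ χ ≠ 0} =>
      (⟨↑(L χ.1), hsum χ.1⟩ : Msets F n)) ⟨fun χ χ' e => ?_, fun s => ?_⟩)).symm
  · have hp : (L χ.1).Perm (L χ'.1) := Multiset.coe_eq_coe.mp (congrArg Subtype.val e)
    have h' : coeff (L χ.1) χ'.1 ≠ 0 := by
      rw [coeff_perm hp]
      exact hL χ'.1
    exact Subtype.ext ((exists_generic θ hθ (wtSum_of_coeff (hL χ.1))).unique ⟨hL χ.1, χ.2⟩ ⟨h', χ'.2⟩)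
  · obtain ⟨s, hs⟩ := s
    induction s using Quotient.inductionOn with
    | _ l =>
      obtain ⟨χ, hχ, -⟩ := exists_generic θ hθ (n := n) (l := l) (by simpa [wtSum] using hs)
      exact ⟨⟨χ, hχ.2⟩, Subtype.ext (Multiset.coe_eq_coe.mpr (perm_of_coeff (hL χ) hχ.1))⟩

theorem card_gco {n : ℕ} (θ : AddChar F ℂ) (hθ : θ ≠ 0) :
    Nat.card {χ : IrrCharacter (GL (Fin n) F) // gco θ χ ≠ 0} =
      Nat.card {p : Equiv.Perm (Fin n) × (Fin n → Fˣ) // Relevant p.1 p.2} := by
  have h := (ggraev_sq (n := n) θ).trans (classInner_ggraev_eq θ hθ)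
  rw [← Nat.cast_sum, Nat.cast_inj] at h
  rw [← h, Nat.card_eq_fintype_card, Fintype.card_subtype, Finset.card_filter]
  refine Finset.sum_congr rfl fun χ _ => ?_
  have := gco_le_one θ hθ χ
  interval_cases gco θ χ <;> simp

variable (F) in
theorem card_msets (m : ℕ) :
    Nat.card (Msets F (m + 1)) = (Nat.card F - 1) * Nat.card F ^ m := by
  obtain ⟨θ, hθ⟩ := exists_theta F
  rw [card_generic θ hθ, card_gco θ hθ, card_relevant, Nat.card_units]
  congr 2
  have : 1 < Nat.card F := Finite.one_lt_card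
  omega

end Cfsg.Agent.GLCusp
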