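import Cfsg.Agent.Lib.Char.GLCusp.Adj

/-!
# Products of cuspidal characters

Products indexed by lists of cuspidal irreducible characters are orthogonal for different
multisets and equal for permuted lists.
-/

set_option autoImplicit false
set_option linter.unusedSectionVars false

namespace Cfsg.Agent.GLCusp

open Module Cfsg Cfsg.Agent.Char
open scoped ComplexConjugate Classical

universe u

variable {F : Type u} [Field F] [Fintype F]

attribute [local instance] Fintype.ofFinite

variable (F) in
/-- A cuspidal irreducible character of some `GL_{d+1}`. -/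
abbrev Atom : Type u :=
  Σ d : ℕ, {χ : GL (Fin (d + 1)) F → ℂ // IsIrrCharacter (GL (Fin (d + 1)) F) χ ∧ IsCusp χ}

/-- Its degree. -/
def wt (a : Atom F) : ℕ := a.1 + 1

/-- The total degree of a list. -/
def wtSum (l : List (Atom F)) : ℕ := (l.map wt).sum

variable (F) in
/-- The function of the zero space. -/
noncomputable def unitFam : Fam F := fun V _ _ _ _ => if finrank F V = 0 then 1 else 0

/-- The product of a list of cuspidal characters. -/
noncomputable def prodV : List (Atom F) → Fam F
  | [] => unitFam F
  | a :: r => indV a.2.1 (prodV r)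

theorem atom_classFun (a : Atom F) : IsClassFunction (GL (Fin (a.1 + 1)) F) a.2.1 :=
  a.2.2.2.classFun

theorem prodV_inv : ∀ l : List (Atom F), Inv (prodV l)
  | [] => by
    intro V V' _ _ _ _ _ _ e x
    simp only [prodV, unitFam, e.finrank_eq]
  | a :: r => indV_inv (atom_classFun a) (prodV_inv r)

theorem prodV_eq_zero : ∀ (l : List (Atom F)) (V : Type u) [AddCommGroup V] [Module F V] [Finite V]
    (x : Module.End F V), finrank F V ≠ wtSum l → prodV l V x = 0
  | [], V, _, _, _, x, h => if_neg (by simpa [wtSum] using h)
  | a :: r, V, _, _, _, x, h => by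
    refine Finset.sum_eq_zero fun W _ => ?_
    split_ifs with hW
    · by_cases h1 : finrank F W = wt a
      · rw [prodV_eq_zero r (V ⧸ W) (W.mapQ W x hW), mul_zero]
        intro h2
        apply h
        have := W.finrank_quotient_add_finrank
        simp only [wtSum, List.map_cons, List.sum_cons] at h2 ⊢
        omega
      · rw [ev_of_finrank_ne (show finrank F W ≠ a.1 + 1 from h1), zero_mul]
    · rfl

theorem res_eq_zero {n : ℕ} {l : List (Atom F)} (h : n ≠ wtSum l) :
    res n (prodV l) = 0 := funext fun _ => prodV_eq_zero l _ _ (by rwa [finrank_fin_fun])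

theorem isCharacter_res : ∀ (l : List (Atom F)) (n : ℕ),
    IsCharacter (GL (Fin n) F) (res n (prodV l))
  | [], n => by
    by_cases h : n = 0
    · have : res n (prodV ([] : List (Atom F))) = fun _ => 1 :=
        funext fun _ => if_pos (by rw [finrank_fin_fun, h])
      rw [this]
      exact isCharacter_one
    · rw [res_eq_zero (by simpa [wtSum] using h)]
      exact isCharacter_zero
  | a :: r, n => by
    by_cases h : n = (a.1 + 1) + wtSum r
    swap
    · rw [res_eq_zero (by simpa [wtSum, wt] using h)]
      exact isCharacter_zero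
    subst h
    rw [classFun_expansion (res_classFun _ (prodV_inv (a :: r)))]
    refine isCharacter_sum _ _ fun χ _ => ?_
    obtain ⟨k, hk⟩ := inner_indV_natCast (c := wtSum r) (irr_isCharacter a.2.2.1) (prodV_inv r)
      (isCharacter_res r _) (irr_isCharacter χ.2)
    rw [inner, res_ev (isClassFunction_character (irr_isCharacter χ.2))] at hk
    rw [show classInner (res (a.1 + 1 + wtSum r) (prodV (a :: r)))
      (χ : GL (Fin (a.1 + 1 + wtSum r)) F → ℂ) = (k : ℂ) from hk, Nat.cast_smul_eq_nsmul]
    exact isCharacter_nsmul (irr_isCharacter χ.2) k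

theorem ipair_atom (a b : Atom F) : ipair b.2.1 a.2.1 = if b = a then 1 else 0 := by
  obtain ⟨d, χ⟩ := a
  obtain ⟨d', χ'⟩ := b
  by_cases h : d' = d
  · subst h
    rw [ipair_self_degree χ'.2.2.classFun]
    by_cases h' : χ' = χ
    · subst h'
      rw [if_pos rfl]
      exact irr_self χ'.2.1
    · split_ifs with he
      · exact absurd (eq_of_heq (Sigma.mk.inj_iff.mp he).2) h'
      have := irrC_orth (G := GL (Fin (d' + 1)) F) ⟨χ'.1, χ'.2.1⟩ ⟨χ.1, χ.2.1⟩
      rw [this]
      apply if_neg
      intro e
      exact h' (Subtype.ext (congrArg Subtype.val e :))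
  · rw [if_neg fun e => h (Sigma.mk.inj_iff.mp e).1, ipair_of_ne]
    simpa using fun e => h e.symm

/-- The lists obtained by deleting one copy of `a`. -/
noncomputable def dels (a : Atom F) : List (Atom F) → List (List (Atom F))
  | [] => []
  | b :: r => (if b = a then [r] else []) ++ (dels a r).map (b :: ·)

theorem length_dels (a : Atom F) : ∀ l, (dels a l).length = l.count a
  | [] => rfl
  | b :: r => by
    rw [dels, List.length_append, List.length_map, length_dels a r, List.count_cons]
    by_cases h : b = a <;> simp [h, Nat.add_comm]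

theorem perm_of_mem_dels (a : Atom F) : ∀ l, ∀ m ∈ dels a l, (a :: m).Perm l
  | [], m, h => by simp [dels] at h
  | b :: r, m, h => by
    rw [dels, List.mem_append, List.mem_map] at h
    rcases h with h | ⟨m', hm', rfl⟩
    · by_cases hb : b = a
      · simp only [hb, if_true, List.mem_singleton] at h
        subst hb h
        exact List.Perm.refl _
      · simp [hb] at h
    · exact (List.Perm.swap _ _ _).trans ((perm_of_mem_dels a r m' hm').cons b)

theorem indV_list_sum {b : ℕ} (σ : GL (Fin b) F → ℂ) {ι : Type*} (L : List ι) (f : ι → Fam F)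
    (Φ : Fam F) (hΦ : ∀ (V : Type u) [AddCommGroup V] [Module F V] [Finite V] (x : Module.End F V),
      Φ V x = (L.map fun i => f i V x).sum)
    (V : Type u) [AddCommGroup V] [Module F V] [Finite V] (x : Module.End F V) :
    indV σ Φ V x = (L.map fun i => indV σ (f i) V x).sum := by
  induction L generalizing Φ with
  | nil =>
    refine Finset.sum_eq_zero fun W _ => ?_
    split_ifs with h
    · rw [hΦ]
      simp
    · rfl
  | cons i L ih =>
    rw [List.map_cons, List.sum_cons, ← ih (fun V _ _ _ x => (L.map fun i => f i V x).sum)
      (fun V _ _ _ x => rfl), indV, indV, indV, ← Finset.sum_add_distrib]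
    refine Finset.sum_congr rfl fun W _ => ?_
    split_ifs with h
    · rw [hΦ, List.map_cons, List.sum_cons, mul_add]
    · rw [add_zero]

theorem sum_map_dels (a : Atom F) (b : Atom F) (r : List (Atom F)) (f : List (Atom F) → ℂ) :
    ((dels a (b :: r)).map f).sum =
      (if b = a then f r else 0) + ((dels a r).map fun m => f (b :: m)).sum := by
  rw [dels, List.map_append, List.sum_append, List.map_map]
  congr 1
  split_ifs <;> simp

theorem DV_prodV (a : Atom F) : ∀ (l : List (Atom F)) (Q : Type u) [AddCommGroup Q] [Module F Q]
    [Finite Q] (h : Module.End F Q),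
    DV a.2.1 (prodV l) Q h = ((dels a l).map fun m => prodV m Q h).sum
  | [], Q, _, _, _, h => by
    simp only [dels, List.map_nil, List.sum_nil, DV]
    rw [Finset.sum_eq_zero fun g _ => Finset.sum_eq_zero fun T _ => ?_, mul_zero]
    rw [prodV_eq_zero, mul_zero]
    rw [finrank_prod, finrank_fin_fun]
    simp [wtSum]
  | b :: r, Q, _, _, _, h => by
    rw [sum_map_dels]
    change DV a.2.1 (indV b.2.1 (prodV r)) Q h = _
    rw [DV_indV b.2.2.2 a.2.2.2 (Nat.succ_pos _) (prodV_inv r), ipair_atom, ite_mul, one_mul,
      zero_mul]
    congr 1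
    exact indV_list_sum b.2.1 (dels a r) prodV _ (fun V _ _ _ x => DV_prodV a r V x) Q h

/-- The self inner product of a product. -/
noncomputable def normP : List (Atom F) → ℕ
  | [] => 1
  | a :: r => (a :: r).count a * normP r

theorem normP_pos : ∀ l : List (Atom F), 0 < normP l
  | [] => Nat.one_pos
  | a :: r => by
    refine Nat.mul_pos ?_ (normP_pos r)
    rw [List.count_cons_self]
    exact Nat.succ_pos _

theorem inner_prodV : ∀ l l' : List (Atom F),
    inner (wtSum l) (prodV l) (prodV l') = if l.Perm l' then (normP l : ℂ) else 0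
  | [], l' => by
    by_cases h : l' = []
    · subst h
      have : ∀ g : GL (Fin (wtSum ([] : List (Atom F)))) F,
          res (wtSum ([] : List (Atom F))) (prodV ([] : List (Atom F))) g = 1 := fun g =>
        if_pos (finrank_fin_fun F)
      rw [if_pos (List.Perm.refl _), inner, classInner]
      simp only [this]
      simp [normP, Nat.card_eq_fintype_card]
    · rw [if_neg fun hp => h (List.nil_perm.mp hp), inner,
        show res (wtSum ([] : List (Atom F))) (prodV l') = 0 from res_eq_zero ?_]
      · simp [classInner]
      · cases l' with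
        | nil => exact absurd rfl h
        | cons b r =>
          simp only [wtSum, wt, List.map_nil, List.sum_nil, List.map_cons, List.sum_cons]
          omega
  | a :: r, l' => by
    have hw : wtSum (a :: r) = (a.1 + 1) + wtSum r := by simp [wtSum, wt]
    have hadj := inner_indV (c := wtSum r) (atom_classFun a) (prodV_inv r) (prodV_inv l')
    rw [hw]
    change inner (a.1 + 1 + wtSum r) (indV a.2.1 (prodV r)) (prodV l') = _
    rw [hadj]
    have hd : res (wtSum r) (DV a.2.1 (prodV l')) =
        ((dels a l').map fun m => res (wtSum r) (prodV m)).sum := by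
      funext g
      rw [res, DV_prodV]
      induction dels a l' with
      | nil => rfl
      | cons m L ih =>
        simp only [List.map_cons, List.sum_cons, Pi.add_apply, ← ih]
        rfl
    have hsum : inner (wtSum r) (prodV r) (DV a.2.1 (prodV l')) =
        ((dels a l').map fun m => inner (wtSum r) (prodV r) (prodV m)).sum := by
      rw [inner, hd]
      induction dels a l' with
      | nil => simp [classInner]
      | cons m L ih =>
        simp only [List.map_cons, List.sum_cons, classInner_add_right, ih]
        rfl
    rw [hsum]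
    by_cases hp : (a :: r).Perm l'
    · rw [if_pos hp]
      have hall : ∀ x ∈ (dels a l').map (fun m => inner (wtSum r) (prodV r) (prodV m)),
          x = (normP r : ℂ) := by
        intro x hx
        obtain ⟨m, hm, rfl⟩ := List.mem_map.mp hx
        rw [inner_prodV r m, if_pos]
        exact (List.perm_cons a).mp (hp.trans (perm_of_mem_dels a l' m hm).symm)
      rw [List.eq_replicate_of_mem hall, List.sum_replicate, List.length_map, length_dels,
        normP, hp.count_eq, nsmul_eq_mul, Nat.cast_mul]
    · rw [if_neg hp]
      refine List.sum_eq_zero fun x hx => ?_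
      obtain ⟨m, hm, rfl⟩ := List.mem_map.mp hx
      rw [inner_prodV r m, if_neg]
      exact fun h => hp ((h.cons a).trans (perm_of_mem_dels a l' m hm))

theorem normP_perm {l l' : List (Atom F)} (h : l.Perm l') : normP l = normP l' := by
  have e : wtSum l' = wtSum l := ((h.map wt).sum_eq).symm
  have h1 := inner_prodV l l'
  have h2 := inner_prodV l' l
  rw [if_pos h] at h1
  rw [e, if_pos h.symm] at h2
  have h3 : conj (inner (wtSum l) (prodV l) (prodV l')) = inner (wtSum l) (prodV l') (prodV l) :=
    classInner_symm _ _
  rw [h1, h2, Complex.conj_natCast] at h3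
  exact_mod_cast h3

/-- Products do not depend on the order. -/
theorem res_perm {l l' : List (Atom F)} (h : l.Perm l') (n : ℕ) :
    res n (prodV l) = res n (prodV l') := by
  have e : wtSum l = wtSum l' := (h.map wt).sum_eq
  by_cases hn : n = wtSum l
  swap
  · rw [res_eq_zero hn, res_eq_zero (e ▸ hn)]
  subst hn
  rw [← sub_eq_zero]
  apply classInner_self_eq_zero
  have h1 := inner_prodV l l
  have h2 := inner_prodV l l'
  have h3 := inner_prodV l' l
  have h4 := inner_prodV l' l'
  simp only [inner] at h1 h2 h3 h4
  rw [← e] at h3 h4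
  rw [classInner_sub_left, classInner_sub_right, classInner_sub_right, h1, h2, h3, h4,
    if_pos h, if_pos h.symm, if_pos (List.Perm.refl _), if_pos (List.Perm.refl _), normP_perm h]
  ring

/-- The multiplicity of an irreducible character in a product. -/
noncomputable def coeff {n : ℕ} (l : List (Atom F)) (χ : IrrCharacter (GL (Fin n) F)) : ℕ :=
  (classInner_natCast (isCharacter_res l n) (irr_isCharacter χ.2)).choose

theorem coeff_spec {n : ℕ} (l : List (Atom F)) (χ : IrrCharacter (GL (Fin n) F)) :
    classInner (res n (prodV l)) (χ : GL (Fin n) F → ℂ) = coeff l χ :=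
  (classInner_natCast (isCharacter_res l n) (irr_isCharacter χ.2)).choose_spec

theorem coeff_perm {n : ℕ} {l l' : List (Atom F)} (h : l.Perm l')
    (χ : IrrCharacter (GL (Fin n) F)) : coeff l χ = coeff l' χ := by
  have h1 := coeff_spec l χ
  rw [res_perm h, coeff_spec l' χ] at h1
  exact_mod_cast h1.symm

theorem wtSum_of_coeff {n : ℕ} {l : List (Atom F)} {χ : IrrCharacter (GL (Fin n) F)}
    (h : coeff l χ ≠ 0) : wtSum l = n := by
  by_contra hne
  have h1 := coeff_spec l χ
  rw [res_eq_zero (Ne.symm hne)] at h1
  simp [classInner] at h1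
  exact h (by exact_mod_cast h1.symm)

theorem sum_coeff_mul {n : ℕ} (l l' : List (Atom F)) :
    inner n (prodV l) (prodV l') =
      ∑ χ : IrrCharacter (GL (Fin n) F), ((coeff l χ * coeff l' χ : ℕ) : ℂ) := by
  rw [inner]
  conv_lhs => rw [classFun_expansion (res_classFun n (prodV_inv l))]
  rw [classInner_sum_left]
  refine Finset.sum_congr rfl fun χ _ => ?_
  rw [classInner_smul_left, coeff_spec, ← classInner_symm (res n (prodV l')), coeff_spec,
    Complex.conj_natCast, Nat.cast_mul]

/-- An irreducible character lies in the product of one multiset only. -/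
theorem perm_of_coeff {n : ℕ} {l l' : List (Atom F)} {χ : IrrCharacter (GL (Fin n) F)}
    (h : coeff l χ ≠ 0) (h' : coeff l' χ ≠ 0) : l.Perm l' := by
  by_contra hp
  have h0 := inner_prodV l l'
  rw [if_neg hp, wtSum_of_coeff h, sum_coeff_mul, ← Nat.cast_sum, Nat.cast_eq_zero,
    Finset.sum_eq_zero_iff] at h0
  exact mul_ne_zero h h' (h0 χ (Finset.mem_univ χ))

end Cfsg.Agent.GLCusp
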