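import Cfsg.Agent.Lib.Char.GLCusp.Adj

/-!
# The upper unitriangular group, its generic linear character, the Whittaker coefficient
-/

set_option autoImplicit false
set_option linter.unusedSectionVars false

namespace Cfsg.Agent.GLCusp

open Module Cfsg
open scoped ComplexConjugate Classical

universe u

variable {F : Type u} [Field F] [Fintype F] {n : ℕ}

attribute [local instance] Fintype.ofFinite

/-- Upper unitriangular shape. -/
def IsUni (M : Matrix (Fin n) (Fin n) F) : Prop :=
  ∀ i j : Fin n, j ≤ i → M i j = if i = j then 1 else 0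

theorem isUni_one : IsUni (1 : Matrix (Fin n) (Fin n) F) := fun i j _ => Matrix.one_apply

theorem IsUni.apply_eq {M : Matrix (Fin n) (Fin n) F} (h : IsUni M) (i : Fin n) : M i i = 1 := by
  simpa using h i i le_rfl

theorem IsUni.apply_lt {M : Matrix (Fin n) (Fin n) F} (h : IsUni M) {i j : Fin n} (hij : j < i) :
    M i j = 0 := by simpa [hij.ne'] using h i j hij.le

theorem IsUni.mul {M M' : Matrix (Fin n) (Fin n) F} (h : IsUni M) (h' : IsUni M') :
    IsUni (M * M') := by
  intro i j hij
  rw [Matrix.mul_apply, Finset.sum_eq_single i]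
  · rw [h.apply_eq, one_mul]
    exact h' i j hij
  · intro k _ hk
    rcases lt_or_gt_of_ne hk with hlt | hgt
    · rw [h.apply_lt hlt, zero_mul]
    · rw [h'.apply_lt (lt_of_le_of_lt hij hgt), mul_zero]
  · simp

variable (F n) in
/-- The upper unitriangular group. -/
noncomputable def uni : Subgroup (GL (Fin n) F) where
  carrier := {g | IsUni (g : Matrix (Fin n) (Fin n) F)}
  one_mem' := isUni_one
  mul_mem' := IsUni.mul
  inv_mem' := fun {g} hg => by
    have hpow : ∀ m : ℕ, IsUni ((g ^ m : GL (Fin n) F) : Matrix (Fin n) (Fin n) F) := by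
      intro m
      induction m with
      | zero => exact isUni_one
      | succ m ih => rw [pow_succ]; exact ih.mul hg
    have := hpow (orderOf g - 1)
    rwa [show g ^ (orderOf g - 1) = g⁻¹ from by
      rw [eq_inv_iff_mul_eq_one, ← pow_succ, Nat.sub_add_cancel (orderOf_pos g), pow_orderOf_eq_one]]
      at this

/-- The sum of the entries next above the diagonal. -/
def sup1 (M : Matrix (Fin n) (Fin n) F) : F :=
  ∑ i : Fin n, ∑ j : Fin n, if j.val = i.val + 1 then M i j else 0

theorem IsUni.mul_super {M M' : Matrix (Fin n) (Fin n) F} (h : IsUni M) (h' : IsUni M')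
    {i j : Fin n} (hij : j.val = i.val + 1) : (M * M') i j = M i j + M' i j := by
  have hne : i ≠ j := fun e => by rw [e] at hij; omega
  rw [Matrix.mul_apply, Finset.sum_eq_add i j hne]
  · rw [h.apply_eq, h'.apply_eq, one_mul, mul_one, add_comm]
  · intro k _ hk
    rcases lt_or_gt_of_ne hk.1 with hlt | hgt
    · rw [h.apply_lt hlt, zero_mul]
    · rw [h'.apply_lt (i := k) (j := j) (by
        rw [Fin.lt_def] at hgt ⊢
        have := fun e => hk.2 (Fin.ext e : k = j)
        omega), mul_zero]
  · simp
  · simp

theorem sup1_mul {M M' : Matrix (Fin n) (Fin n) F} (h : IsUni M) (h' : IsUni M') :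
    sup1 (M * M') = sup1 M + sup1 M' := by
  simp only [sup1, ← Finset.sum_add_distrib]
  refine Finset.sum_congr rfl fun i _ => Finset.sum_congr rfl fun j _ => ?_
  split_ifs with hij
  · exact h.mul_super h' hij
  · simp

theorem sup1_one : sup1 (1 : Matrix (Fin n) (Fin n) F) = 0 := by
  refine Finset.sum_eq_zero fun i _ => Finset.sum_eq_zero fun j _ => ?_
  split_ifs with hij
  · exact Matrix.one_apply_ne fun e => by rw [e] at hij; omega
  · rfl

/-- The generic linear character. -/
noncomputable def psi (θ : AddChar F ℂ) : uni F n →* ℂ where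
  toFun u := θ (sup1 (u.1 : Matrix (Fin n) (Fin n) F))
  map_one' := by simp [sup1_one]
  map_mul' u v := by
    rw [← θ.map_add_eq_mul]
    exact congrArg θ (sup1_mul u.2 v.2)

/-- The Whittaker coefficient of a family at `GL_n`. -/
noncomputable def gV (θ : AddChar F ℂ) (n : ℕ) (Φ : Fam F) : ℂ :=
  (Nat.card (uni F n) : ℂ)⁻¹ * ∑ u : uni F n, conj (psi θ u) * res n Φ u.1

theorem psi_conj (θ : AddChar F ℂ) (u v : uni F n) : psi θ (v * u * v⁻¹) = psi θ u := by
  have h : psi θ v * psi θ v⁻¹ = 1 := by rw [← map_mul, mul_inv_cancel, map_one]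
  rw [map_mul, map_mul, mul_comm (psi θ v), mul_assoc, h, mul_one]

/-- The entries above the diagonal, column by column. -/
noncomputable def uniEquiv : uni F n ≃ ((j : Fin n) → Fin j.val → F) where
  toFun u j i := (u.1 : Matrix (Fin n) (Fin n) F) ⟨i.val, i.2.trans j.2⟩ j
  invFun f := by
    let M : Matrix (Fin n) (Fin n) F := Matrix.of fun i j =>
      if h : i.val < j.val then f j ⟨i.val, h⟩ else if i = j then 1 else 0
    have hM : IsUni M := fun i j hij => by
      simp only [M, Matrix.of_apply]
      rw [dif_neg (not_lt.mpr (Fin.le_def.mp hij))]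
    have hdet : M.det = 1 := by
      rw [Matrix.det_of_isUpperTriangular (M := M) (fun i j hij => hM.apply_lt hij)]
      exact Finset.prod_eq_one fun i _ => hM.apply_eq i
    exact ⟨Matrix.GeneralLinearGroup.mkOfDetNeZero M (by rw [hdet]; exact one_ne_zero), hM⟩
  left_inv u := by
    refine Subtype.ext (Units.ext ?_)
    ext i j
    by_cases h : i.val < j.val
    · exact dif_pos h
    · exact (dif_neg h).trans (u.2 i j (Fin.le_def.mpr (not_lt.mp h))).symm
  right_inv f := by
    funext j i
    exact dif_pos i.2

theorem card_uni : Nat.card (uni F n) = Fintype.card F ^ (∑ j : Fin n, j.val) := by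
  rw [Nat.card_congr uniEquiv, Nat.card_eq_fintype_card, Fintype.card_pi,
    ← Finset.prod_pow_eq_pow_sum]
  simp

end Cfsg.Agent.GLCusp
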